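import Mathlib
import Cfsg.Agent.H481.OddAut.Main_m3
import Cfsg.Agent.Lib.SolvableNormalP
import Cfsg.Agent.H200.LinFixE_m3
import Cfsg.Agent.H390.Cocl
import Cfsg.Agent.S0765
import Cfsg.Agent.LieClassical.SympCenter
import Cfsg.Agent.H195.BC.Symp
import Cfsg.Agent.H228.GoodK_m3
import Cfsg.Agent.H229.T.Upper_m3
import Cfsg.Agent.S2472
import Cfsg.Agent.S0292
import Cfsg.Agent.FastGrp
import Cfsg.Agent.Prune
set_option linter.all false

section
prune_inst 0x7fb1fcfb3bf82bdfffff7e7fa694cffc39911fffa4dff94b7fe069ff0bdf030849c5fb8509e010fe0e96c21410a87803f97eeeffe26bd87ffffd1ff41ffbee0fe5f6b508519488340fbc2ffe83f0778e7f3fffffffffffffffffffffffffffbeffbfffffffff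

-- part: H403/S88/GrpA
section
set_option linter.all false
open scoped Cfsg.Agent.FastGrp

/-!
# S3588: the solvable radical (helper403)

`φ : G → A` surjective with solvable kernel `K`, `Om` a set of numbers closed under divisors containing the orders of the
elements of `G`, `S ≤ A`, `y ∈ A` of prime order `s ∤ |K|` whose normal closure contains `S`, no prime `w` is adjacent to
all primes of `S`.

* `centralizes` : a minimal normal subgroup `V ≤ K` of exponent `t`, `s t ∉ Om`, is centralized by `K`;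
* `not_dvd_card` : a Frobenius group in `S` with cyclic complement of order `m`, `m t ∉ Om`: `t ∤ |K|`;
* `no_commute` : no element of `K` of order `p` commutes with an element `a` of prime order `r ∤ |K|`, under a condition on
  the centralizer of the image of `a`;
* `order_image` : the order of the image of an element of order `p ^ j r 2 ^ b`.
-/

set_option autoImplicit false
set_option linter.unusedSectionVars false

namespace Cfsg.Agent.H403.S88.Grp

open Subgroup Finset Cfsg.Agent.H229.T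

universe u

/-- `c` without fixed points on `V`, `P` abelian of exponent prime to that of `V` -/
theorem comm_of_fpf {V : Type*} [Group V] [Finite V] (hVc : ∀ a b : V, a * b = b * a) {t : ℕ} (ht : t.Prime)
    (hV : ∀ v : V, v ^ t = 1) {P : Subgroup (MulAut V)} {w s : ℕ} (hw : w.Prime) (hs : s.Prime) (hws : w ≠ s)
    (hwt : w ≠ t) (hPab : ∀ a ∈ P, ∀ b ∈ P, a * b = b * a) (hPw : ∀ a ∈ P, a ^ w = 1) {c : MulAut V} (hc : c ^ s = 1)
    (hcP : ∀ a ∈ P, c * a * c⁻¹ ∈ P) (hfix : ∀ v, c v = v → v = 1) : ∀ a ∈ P, c * a * c⁻¹ = a := by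
  classical
  let _ : CommGroup V := { (inferInstance : Group V) with mul_comm := hVc }
  have := Fact.mk hw
  have hci : ∀ i : ℕ, ∀ a ∈ P, c ^ i * a * (c ^ i)⁻¹ ∈ P := by
    intro i
    induction i with
    | zero => intro a ha; simpa using ha
    | succ i ih =>
      intro a ha
      have h1 := hcP _ (ih a ha)
      convert h1 using 1
      rw [pow_succ']
      group
  have hcn : ∀ i : ℕ, ∀ a ∈ P, (c ^ i)⁻¹ * a * c ^ i ∈ P := by
    intro i a ha
    have h1 : (c ^ i)⁻¹ = c ^ ((s - 1) * i) := by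
      rw [inv_eq_iff_mul_eq_one, ← pow_add, show i + (s - 1) * i = s * i by
        obtain ⟨s', rfl⟩ : ∃ s', s = s' + 1 := ⟨s - 1, by have := hs.pos; omega⟩
        rw [Nat.add_sub_cancel]; ring, pow_mul, hc, one_pow]
    have h2 := hci ((s - 1) * i) a ha
    rw [← h1, inv_inv] at h2
    exact h2
  let κ : P →* P :=
    { toFun := fun a => ⟨c * a * c⁻¹ * (a : MulAut V)⁻¹, P.mul_mem (hcP a a.2) (P.inv_mem a.2)⟩
      map_one' := Subtype.ext (by
        show c * ((1 : P) : MulAut V) * c⁻¹ * (((1 : P) : MulAut V))⁻¹ = 1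
        rw [Subgroup.coe_one]; group)
      map_mul' := fun a b => Subtype.ext (by
        show c * ((a * b : P) : MulAut V) * c⁻¹ * ((a * b : P) : MulAut V)⁻¹ =
          (c * a * c⁻¹ * (a : MulAut V)⁻¹) * (c * b * c⁻¹ * (b : MulAut V)⁻¹)
        rw [Subgroup.coe_mul]
        have e1 := hPab _ (P.inv_mem a.2) _ (hcP b b.2)
        have e2 := hPab _ (P.inv_mem a.2) _ (P.inv_mem b.2)
        calc c * ((a : MulAut V) * b) * c⁻¹ * ((a : MulAut V) * b)⁻¹ =
            (c * a * c⁻¹) * ((c * b * c⁻¹) * ((b : MulAut V)⁻¹ * (a : MulAut V)⁻¹)) := by group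
          _ = (c * a * c⁻¹) * ((c * b * c⁻¹) * ((a : MulAut V)⁻¹ * (b : MulAut V)⁻¹)) := by rw [e2]
          _ = (c * a * c⁻¹) * (((c * b * c⁻¹) * (a : MulAut V)⁻¹) * (b : MulAut V)⁻¹) := by group
          _ = (c * a * c⁻¹) * (((a : MulAut V)⁻¹ * (c * b * c⁻¹)) * (b : MulAut V)⁻¹) := by rw [e1]
          _ = _ := by group) }
  let U : Subgroup (MulAut V) := κ.range.map P.subtype
  have hUP : U ≤ P := by
    rintro _ ⟨a, -, rfl⟩
    exact a.2
  have hU : ∀ a ∈ U, ∃ b ∈ P, a = c * b * c⁻¹ * b⁻¹ := by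
    rintro _ ⟨_, ⟨b, rfl⟩, rfl⟩
    exact ⟨b, b.2, rfl⟩
  have hU' : ∀ b ∈ P, c * b * c⁻¹ * b⁻¹ ∈ U := fun b hb => ⟨_, ⟨⟨b, hb⟩, rfl⟩, rfl⟩
  have hfinM : Finite (MulAut V) := inferInstance
  have hfinU : Finite U := inferInstance
  have key := H371.Frob.trivial_of_norm (V := V) (MonoidHom.id (MulAut V)) U (c := c) (m := s) (e := t) hs.pos
    (by
      intro a ha i
      obtain ⟨b, hb, rfl⟩ := hU a ha
      have h1 := hU' _ (hcn i b hb)
      have hcd : Commute c (c ^ i) := (Commute.refl c).pow_right i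
      generalize c ^ i = d at h1 hcd
      convert h1 using 1
      have e1 : c * d⁻¹ = d⁻¹ * c := hcd.inv_right.eq
      have e2 : d * c⁻¹ * d⁻¹ = c⁻¹ := by
        rw [← hcd.inv_left.eq, mul_inv_cancel_right]
      calc d⁻¹ * (c * b * c⁻¹ * b⁻¹) * d = (d⁻¹ * c) * b * c⁻¹ * b⁻¹ * d := by group
        _ = (c * d⁻¹) * b * (d * c⁻¹ * d⁻¹) * b⁻¹ * d := by rw [e1, e2]
        _ = _ := by group) ?_
    (fun v => hV v) ?_ ?_
  · intro a ha
    have h1 : c * a * c⁻¹ * a⁻¹ = 1 := by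
      apply MulEquiv.ext
      intro v
      exact key _ (hU' a ha) v
    exact mul_inv_eq_one.1 h1
  · intro i hi0 his a ha hcomm
    obtain ⟨b, hb, hab⟩ := hU a ha
    -- `c` commutes with `a`
    have hcop : Nat.Coprime i s := Nat.Coprime.symm ((Nat.Prime.coprime_iff_not_dvd hs).2 fun h => by
        have := Nat.le_of_dvd hi0 h
        omega)
    obtain ⟨k, hk⟩ : ∃ k : ℕ, (i * k) ≡ 1 [MOD s] := by
      obtain ⟨k, hk⟩ := Nat.exists_mul_mod_eq_one_of_coprime hcop hs.one_lt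
      exact ⟨k, by rw [Nat.ModEq, hk.2, Nat.mod_eq_of_lt hs.one_lt]⟩
    have hck : c ^ (i * k) = c := by
      have h1 : c ^ (i * k) = c ^ 1 := pow_eq_pow_iff_modEq.2 (hk.of_dvd (orderOf_dvd_of_pow_eq_one hc))
      rw [h1, pow_one]
    have hca : Commute c a := by
      have h1 : Commute (c ^ i) a := hcomm
      have h2 := h1.pow_left k
      rwa [← pow_mul, hck] at h2
    have hba : Commute b a := hPab b hb a (hUP ha)
    have hstep : ∀ j : ℕ, c ^ j * b * (c ^ j)⁻¹ = a ^ j * b := by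
      intro j
      induction j with
      | zero => simp
      | succ j ih =>
        have h1 : c * b * c⁻¹ = a * b := by rw [hab]; group
        calc c ^ (j + 1) * b * (c ^ (j + 1))⁻¹ = c * (c ^ j * b * (c ^ j)⁻¹) * c⁻¹ := by rw [pow_succ']; group
          _ = c * (a ^ j * b) * c⁻¹ := by rw [ih]
          _ = (c * a ^ j) * b * c⁻¹ := by group
          _ = (a ^ j * c) * b * c⁻¹ := by rw [(hca.pow_right j).eq]
          _ = a ^ j * (c * b * c⁻¹) := by group
          _ = a ^ (j + 1) * b := by rw [h1, pow_succ]; group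
    have h1 := hstep s
    rw [hc, one_mul, inv_one, mul_one] at h1
    have h2 : a ^ s = 1 := (mul_eq_right.1 h1.symm)
    have h3 := hPw a (hUP ha)
    have h4 : a ^ Nat.gcd s w = 1 := pow_gcd_eq_one.2 ⟨h2, h3⟩
    rwa [Nat.Coprime.gcd_eq_one ((Nat.coprime_primes hs hw).2 hws.symm), pow_one] at h4
  · have hUp : IsPGroup w U := by
      rw [IsPGroup.iff_orderOf]
      intro g
      have h1 : (g : MulAut V) ^ w = 1 := hPw g (hUP g.2)
      have h2 : orderOf g ∣ w := orderOf_dvd_of_pow_eq_one (Subtype.ext h1)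
      rcases (Nat.dvd_prime hw).1 h2 with h3 | h3
      · exact ⟨0, by rw [h3, pow_zero]⟩
      · exact ⟨1, by rw [h3, pow_one]⟩
    obtain ⟨k, hk⟩ := IsPGroup.iff_card.1 hUp
    rw [hk]
    exact Nat.Coprime.pow_left k ((Nat.coprime_primes hw ht).2 hwt)
  · intro v
    apply hfix
    have h6 : ∀ i, c ((MonoidHom.id (MulAut V) (c ^ i)) v) = (MonoidHom.id (MulAut V) (c ^ (i + 1))) v := by
      intro i
      rw [pow_succ']
      rfl
    obtain ⟨s', rfl⟩ : ∃ s', s = s' + 1 := ⟨s - 1, by have := hs.pos; omega⟩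
    rw [map_prod, Finset.prod_congr rfl (fun i _ => h6 i), Finset.prod_range_succ, hc, Finset.prod_range_succ' _ s',
      pow_zero]

section

variable {G : Type u} [Group G] [Finite G]

/-- nontrivial solvable normal subgroups contain nontrivial elementary abelian normal subgroups -/
theorem exists_elem (N : Subgroup G) [hN : N.Normal] (hs : Group.IsSolvable N) (h1 : N ≠ ⊥) :
    ∃ (r : ℕ) (V : Subgroup G), r.Prime ∧ V.Normal ∧ V ≤ N ∧ V ≠ ⊥ ∧ (∀ v ∈ V, ∀ w ∈ V, v * w = w * v) ∧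
      ∀ v ∈ V, v ^ r = 1 := by
  have : Nontrivial N := (Subgroup.nontrivial_iff_ne_bot N).2 h1
  obtain ⟨D, hDc, hDm, hD⟩ := Lib.SolvableNormalP.exists_comm_characteristic N
  have hcard : Nat.card D ≠ 1 := by
    rw [Ne, Subgroup.card_eq_one]; exact hD
  obtain ⟨r, hr, hrd⟩ := Nat.exists_prime_and_dvd hcard
  have := Fact.mk hr
  let D' : Subgroup G := D.map N.subtype
  have hD'n : D'.Normal := inferInstance
  have hD'c : ∀ v ∈ D', ∀ w ∈ D', v * w = w * v := by
    rintro _ ⟨a, ha, rfl⟩ _ ⟨b, hb, rfl⟩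
    have h2 := hDm.is_comm.comm (⟨a, ha⟩ : D) ⟨b, hb⟩
    have h3 : a * b = b * a := congrArg Subtype.val h2
    show N.subtype a * N.subtype b = N.subtype b * N.subtype a
    rw [← map_mul, h3, map_mul]
  let V : Subgroup G :=
    { carrier := {v | v ∈ D' ∧ v ^ r = 1}
      one_mem' := ⟨D'.one_mem, one_pow r⟩
      mul_mem' := by
        rintro a b ⟨ha, har⟩ ⟨hb, hbr⟩
        refine ⟨D'.mul_mem ha hb, ?_⟩
        have hc : Commute a b := hD'c a ha b hb
        rw [hc.mul_pow, har, hbr, one_mul]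
      inv_mem' := by
        rintro a ⟨ha, har⟩
        exact ⟨D'.inv_mem ha, by rw [inv_pow, har, inv_one]⟩ }
  refine ⟨r, V, hr, ⟨?_⟩, ?_, ?_, fun v hv w hw => hD'c v hv.1 w hw.1, fun v hv => hv.2⟩
  · rintro v ⟨hv, hvr⟩ g
    refine ⟨hD'n.conj_mem v hv g, ?_⟩
    rw [conj_pow, hvr]; simp
  · rintro _ ⟨⟨a, -, rfl⟩, -⟩
    exact a.2
  · obtain ⟨d, hd⟩ := exists_prime_orderOf_dvd_card' (G := D) r hrd
    intro hV
    have h2 : (((d : N)) : G) ∈ V := by
      refine ⟨⟨d, d.2, rfl⟩, ?_⟩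
      have h3 : d ^ r = 1 := by rw [← hd]; exact pow_orderOf_eq_one d
      have h4 := congrArg (fun x : D => (((x : N)) : G)) h3
      simpa using h4
    rw [hV, mem_bot] at h2
    have h3 : d = 1 := Subtype.ext (Subtype.ext h2)
    rw [h3, orderOf_one] at hd
    exact hr.one_lt.ne hd

/-- minimal normal subgroups -/
theorem exists_min (N : Subgroup G) [hN : N.Normal] (h : N ≠ ⊥) :
    ∃ V : Subgroup G, V.Normal ∧ V ≤ N ∧ V ≠ ⊥ ∧ ∀ W : Subgroup G, W.Normal → W ≤ V → W ≠ ⊥ → W = V := by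
  have hfin : {V : Subgroup G | V.Normal ∧ V ≤ N ∧ V ≠ ⊥}.Finite := Set.toFinite _
  obtain ⟨V, ⟨hV, hVN, hV0⟩, hmin⟩ := hfin.exists_minimal ⟨N, hN, le_rfl, h⟩
  exact ⟨V, hV, hVN, hV0, fun W hW hWV hW0 => le_antisymm hWV (hmin ⟨hW, hWV.trans hVN, hW0⟩ hWV)⟩

/-- minimal normal elementary abelian subgroups -/
theorem exists_min_elem (N : Subgroup G) [hN : N.Normal] (hs : Group.IsSolvable N) (h1 : N ≠ ⊥) :
    ∃ (r : ℕ) (V : Subgroup G), r.Prime ∧ V.Normal ∧ V ≤ N ∧ V ≠ ⊥ ∧ (∀ v ∈ V, ∀ w ∈ V, v * w = w * v) ∧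
      (∀ v ∈ V, v ^ r = 1) ∧ ∀ W : Subgroup G, W.Normal → W ≤ V → W ≠ ⊥ → W = V := by
  obtain ⟨V, hV, hVN, hV0, hmin⟩ := exists_min N h1
  have hsV : Group.IsSolvable V :=
    Group.isSolvable_of_isSolvable_injective (f := Subgroup.inclusion hVN) (Subgroup.inclusion_injective hVN)
  obtain ⟨r, V', hr, hV'n, hV'V, hV'0, hc, he⟩ := exists_elem V hsV hV0
  have h2 := hmin V' hV'n hV'V hV'0
  subst h2
  exact ⟨r, V', hr, hV, hVN, hV0, hc, he, hmin⟩

/-- the product of commuting elements of coprime orders, powers taken -/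
theorem order_mem {G : Type*} [Group G] [Finite G] {Om : Set ℕ} (hOm : ∀ g : G, orderOf g ∈ Om) {a b : ℕ}
    (hab : Nat.Coprime a b) {x z : G} (hx : a ∣ orderOf x) (hz : b ∣ orderOf z) (h : Commute x z) : a * b ∈ Om := by
  have hx0 : 0 < orderOf x := orderOf_pos x
  have hz0 : 0 < orderOf z := orderOf_pos z
  have h1 : orderOf (x ^ (orderOf x / a)) = a := by
    have ha0 : 0 < a := Nat.pos_of_dvd_of_pos hx hx0
    rw [orderOf_pow_of_dvd (Nat.div_pos (Nat.le_of_dvd hx0 hx) ha0).ne' (Nat.div_dvd_of_dvd hx),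
      Nat.div_div_self hx hx0.ne']
  have h2 : orderOf (z ^ (orderOf z / b)) = b := by
    have ha0 : 0 < b := Nat.pos_of_dvd_of_pos hz hz0
    rw [orderOf_pow_of_dvd (Nat.div_pos (Nat.le_of_dvd hz0 hz) ha0).ne' (Nat.div_dvd_of_dvd hz),
      Nat.div_div_self hz hz0.ne']
  have h3 := (h.pow_pow (orderOf x / a) (orderOf z / b)).orderOf_mul_eq_mul_orderOf_of_coprime (by rw [h1, h2]; exact hab)
  rw [← h1, ← h2, ← h3]
  exact hOm _

theorem om_quot {Om : Set ℕ} (hOm : ∀ g : G, orderOf g ∈ Om) (hdvd : ∀ a b, a ∣ b → b ∈ Om → a ∈ Om)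
    (M : Subgroup G) [M.Normal] : ∀ g : G ⧸ M, orderOf g ∈ Om := by
  intro g
  obtain ⟨g, rfl⟩ := QuotientGroup.mk_surjective g
  exact hdvd _ _ (orderOf_map_dvd (QuotientGroup.mk' M) g) (hOm g)

theorem exists_lift' {A : Type*} [Group A] (φ : G →* A) (hφ : Function.Surjective φ) {y : A}
    (hs : (orderOf y).Coprime (Nat.card φ.ker)) : ∃ x : G, φ x = y ∧ orderOf x = orderOf y := by
  let e := QuotientGroup.quotientKerEquivOfSurjective φ hφ
  obtain ⟨x, hx, hxo⟩ := exists_lift φ.ker (s := e.symm y) (by rwa [MulEquiv.orderOf_eq])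
  refine ⟨x, ?_, by rw [hxo, MulEquiv.orderOf_eq]⟩
  have h1 : e (x : G ⧸ φ.ker) = y := by rw [hx, MulEquiv.apply_symm_apply]
  exact h1

/-- **A minimal normal subgroup in the radical is centralized by the radical.** -/
theorem centralizes {A : Type*} [Group A] (φ : G →* A) (hφ : Function.Surjective φ) (hsol : Group.IsSolvable φ.ker)
    {Om : Set ℕ} (hOm : ∀ g : G, orderOf g ∈ Om) (hdvd : ∀ a b, a ∣ b → b ∈ Om → a ∈ Om) {t s : ℕ} (ht : t.Prime)
    (hs : s.Prime) (hst : s ≠ t) (hsK : ¬ s ∣ Nat.card φ.ker) (hts : s * t ∉ Om) {S : Subgroup A} {y : A}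
    (hy : orderOf y = s) (hyS : S ≤ normalClosure {y})
    (hw : ∀ w : ℕ, w.Prime → ∃ z : ℕ, z.Prime ∧ z ≠ w ∧ z ∣ Nat.card S ∧ z * w ∉ Om)
    {V : Subgroup G} [hVn : V.Normal] (hVK : V ≤ φ.ker) (hV1 : V ≠ ⊥) (hVc : ∀ v ∈ V, ∀ w ∈ V, v * w = w * v)
    (hVt : ∀ v ∈ V, v ^ t = 1) (hmin : ∀ W : Subgroup G, W.Normal → W ≤ V → W ≠ ⊥ → W = V) :
    ∀ k ∈ φ.ker, ∀ v ∈ V, k * v = v * k := by
  classical
  have hfinA : Finite A := Finite.of_surjective φ hφ
  have := Fact.mk ht
  have := Fact.mk hs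
  by_contra hcon
  let C : Subgroup G := φ.ker ⊓ centralizer (V : Set G)
  have hCn : C.Normal := inferInstance
  have hCker : C ≤ φ.ker := inf_le_left
  have hKC : φ.ker.map (QuotientGroup.mk' C) ≠ ⊥ := by
    intro h
    apply hcon
    intro k hk v hv
    have h1 : QuotientGroup.mk' C k ∈ φ.ker.map (QuotientGroup.mk' C) := mem_map_of_mem _ hk
    rw [h, mem_bot, QuotientGroup.mk'_apply, QuotientGroup.eq_one_iff] at h1
    exact (mem_centralizer_iff.1 h1.2 v hv).symm
  have hKn : (φ.ker.map (QuotientGroup.mk' C)).Normal := Subgroup.Normal.map inferInstance _ (QuotientGroup.mk'_surjective C)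
  have hKs : Group.IsSolvable (φ.ker.map (QuotientGroup.mk' C)) := by
    have := hsol
    exact Group.isSolvable_of_surjective ((QuotientGroup.mk' C).subgroupMap_surjective φ.ker)
  obtain ⟨w, W', hwp, hW'n, hW'K, hW'1, hW'c, hW'w⟩ := exists_elem _ hKs hKC
  have := Fact.mk hwp
  let W : Subgroup G := W'.comap (QuotientGroup.mk' C)
  have hWn : W.Normal := inferInstance
  have hWK : W ≤ φ.ker := by
    intro x hx
    obtain ⟨k, hk, hkx⟩ := hW'K hx
    have h1 : x⁻¹ * k ∈ C := QuotientGroup.eq.1 (hkx.symm : (QuotientGroup.mk x : G ⧸ C) = QuotientGroup.mk k)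
    have h2 := φ.ker.mul_mem hk (φ.ker.inv_mem (hCker h1))
    have h3 : k * (x⁻¹ * k)⁻¹ = x := by group
    rwa [h3] at h2
  have hCW : C ≤ W := by
    intro x hx
    show QuotientGroup.mk' C x ∈ W'
    rw [QuotientGroup.mk'_apply, (QuotientGroup.eq_one_iff x).2 hx]
    exact W'.one_mem
  have hWC : ¬ W ≤ C := by
    intro h
    apply hW'1
    rw [eq_bot_iff]
    intro z hz
    obtain ⟨x, rfl⟩ := QuotientGroup.mk_surjective z
    rw [mem_bot, QuotientGroup.eq_one_iff]
    exact h hz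
  let ρ : G →* MulAut V := MulAut.conjNormal
  have hρ : ∀ (g : G) (v : V), ((ρ g v : V) : G) = g * v * g⁻¹ := fun g v => MulAut.conjNormal_apply g v
  have hρ1 : ∀ g : G, ρ g = 1 → g ∈ centralizer (V : Set G) := by
    intro g hg
    rw [mem_centralizer_iff]
    intro v hv
    have h1 := hρ g ⟨v, hv⟩
    rw [hg] at h1
    have h2 : v = g * v * g⁻¹ := h1
    exact (eq_mul_inv_iff_mul_eq.1 h2)
  have hρ2 : ∀ g ∈ centralizer (V : Set G), ρ g = 1 := by
    intro g hg
    apply MulEquiv.ext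
    intro v
    apply Subtype.ext
    rw [hρ]
    show g * v * g⁻¹ = v
    rw [← mem_centralizer_iff.1 hg v v.2, mul_inv_cancel_right]
  have hρC : ∀ g ∈ C, ρ g = 1 := fun g hg => hρ2 g hg.2
  by_cases hwt : w = t
  · -- the case of a `t`-group
    subst hwt
    let P : Subgroup (MulAut V) := W.map ρ
    have hP : IsPGroup w P := by
      rw [IsPGroup.iff_orderOf]
      rintro ⟨_, ⟨x, hx, rfl⟩⟩
      have h1 : x ^ w ∈ C := by
        rw [← QuotientGroup.eq_one_iff]
        exact hW'w _ hx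
      have h2 : orderOf (⟨ρ x, ⟨x, hx, rfl⟩⟩ : P) ∣ w := orderOf_dvd_of_pow_eq_one (Subtype.ext (by
        show ρ x ^ w = 1
        rw [← map_pow, hρC _ h1]))
      rcases (Nat.dvd_prime ht).1 h2 with h3 | h3
      · exact ⟨0, by rw [h3, pow_zero]⟩
      · exact ⟨1, by rw [h3, pow_one]⟩
    have h1 := hP.card_modEq_card_fixedPoints V
    have h2 : w ∣ Nat.card V := by
      obtain ⟨v, hv⟩ := (Subgroup.ne_bot_iff_exists_ne_one).1 hV1
      have h3 : orderOf v = w := orderOf_eq_prime (Subtype.ext (hVt v v.2)) hv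
      rw [← h3]
      exact orderOf_dvd_natCard v
    have h3 : w ∣ Nat.card (MulAction.fixedPoints P V) := (Nat.modEq_zero_iff_dvd).1 (h1.symm.trans ((Nat.modEq_zero_iff_dvd).2 h2))
    have h4 : 1 < Nat.card (MulAction.fixedPoints P V) := by
      have hne : Nonempty (MulAction.fixedPoints P V) := ⟨⟨1, fun g => map_one (g : MulAut V)⟩⟩
      have h5 : 0 < Nat.card (MulAction.fixedPoints P V) := Nat.card_pos
      exact lt_of_lt_of_le ht.one_lt (Nat.le_of_dvd h5 h3)
    obtain ⟨⟨v, hv⟩, ⟨v', hv'⟩, hne⟩ := (Finite.one_lt_card_iff_nontrivial.1 h4)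
    obtain ⟨u, hu, hu1⟩ : ∃ u ∈ MulAction.fixedPoints P V, u ≠ 1 := by
      by_cases h : v = 1
      · refine ⟨v', hv', fun h' => hne ?_⟩
        exact Subtype.ext (h.trans h'.symm)
      · exact ⟨v, hv, h⟩
    have hF : V ⊓ centralizer (W : Set G) = V := by
      refine hmin _ inferInstance inf_le_left ?_
      intro h
      apply hu1
      have h6 : (u : G) ∈ V ⊓ centralizer (W : Set G) := by
        refine ⟨u.2, mem_centralizer_iff.2 ?_⟩
        intro x hx
        have h7 : ρ x u = u := hu ⟨ρ x, ⟨x, hx, rfl⟩⟩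
        have h8 := congrArg Subtype.val h7
        rw [hρ] at h8
        exact mul_inv_eq_iff_eq_mul.1 h8
      rw [h, mem_bot] at h6
      exact Subtype.ext h6
    apply hWC
    intro x hx
    refine ⟨hWK hx, mem_centralizer_iff.2 ?_⟩
    intro v hv
    rw [← hF] at hv
    exact (mem_centralizer_iff.1 hv.2 x hx).symm
  · -- the case `w ≠ t`
    obtain ⟨x1, hx1⟩ := (Subgroup.ne_bot_iff_exists_ne_one).1 hW'1
    have hx1o : orderOf (x1 : G ⧸ C) = w := orderOf_eq_prime (hW'w _ x1.2) (fun h => hx1 (Subtype.ext h))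
    have hwK : w ∣ Nat.card φ.ker := by
      have h1 : w ∣ Nat.card (φ.ker.map (QuotientGroup.mk' C)) := by
        rw [← hx1o]
        exact Subgroup.orderOf_dvd_natCard _ (hW'K x1.2)
      exact h1.trans (Subgroup.card_map_dvd _ _)
    have hws : w ≠ s := by
      rintro rfl
      exact hsK hwK
    obtain ⟨y0, hy0, hy0s⟩ := exists_lift' φ hφ (y := y) (by
      rw [hy]
      exact (Nat.Prime.coprime_iff_not_dvd hs).2 hsK)
    rw [hy] at hy0s
    have hfix : ∀ v : V, ρ y0 v = v → v = 1 := by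
      intro v hv
      by_contra hv1
      have h1 : orderOf (v : G) = t := orderOf_eq_prime (hVt v v.2) (fun h => hv1 (Subtype.ext h))
      have h2 := congrArg Subtype.val hv
      rw [hρ] at h2
      have h3 : Commute y0 (v : G) := mul_inv_eq_iff_eq_mul.1 h2
      exact hts (order_mem hOm ((Nat.coprime_primes hs ht).2 hst) (dvd_of_eq hy0s.symm) (dvd_of_eq h1.symm) h3)
    have key := comm_of_fpf (V := V) (fun a b => Subtype.ext (hVc a a.2 b b.2)) ht (fun v => Subtype.ext (hVt v v.2))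
      (P := W.map ρ) hwp hs hws hwt
      (by
        rintro _ ⟨x, hx, rfl⟩ _ ⟨x', hx', rfl⟩
        have h1 : (x * x')⁻¹ * (x' * x) ∈ C := by
          rw [← QuotientGroup.eq]
          have h2 := hW'c _ hx _ hx'
          exact h2
        have h2 := hρC _ h1
        rw [map_mul, map_inv, map_mul, map_mul, inv_mul_eq_one] at h2
        exact h2)
      (by
        rintro _ ⟨x, hx, rfl⟩
        have h1 : x ^ w ∈ C := by
          rw [← QuotientGroup.eq_one_iff]
          exact hW'w _ hx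
        rw [← map_pow, hρC _ h1])
      (c := ρ y0) (by rw [← map_pow, ← hy0s, pow_orderOf_eq_one, map_one])
      (by
        rintro _ ⟨x, hx, rfl⟩
        exact ⟨y0 * x * y0⁻¹, hWn.conj_mem x hx y0, by rw [map_mul, map_mul, map_inv]⟩) hfix
    let D : Subgroup G := (centralizer (W' : Set (G ⧸ C))).comap (QuotientGroup.mk' C)
    have hDn : D.Normal := inferInstance
    have hy0D : y0 ∈ D := by
      show QuotientGroup.mk' C y0 ∈ centralizer (W' : Set (G ⧸ C))
      rw [mem_centralizer_iff]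
      intro z hz
      obtain ⟨x, rfl⟩ := QuotientGroup.mk_surjective z
      have hxW : x ∈ W := hz
      have h1 := key (ρ x) ⟨x, hxW, rfl⟩
      have h2 : ρ (x⁻¹ * (y0 * x * y0⁻¹)) = 1 := by
        rw [map_mul, map_mul, map_mul, map_inv, map_inv, h1, inv_mul_cancel]
      have h3 : x⁻¹ * (y0 * x * y0⁻¹) ∈ C :=
        ⟨φ.ker.mul_mem (φ.ker.inv_mem (hWK hxW)) (hWK (hWn.conj_mem x hxW y0)), hρ1 _ h2⟩
      have h4 : (x : G ⧸ C) = ((y0 * x * y0⁻¹ : G) : G ⧸ C) := QuotientGroup.eq.2 h3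
      show (x : G ⧸ C) * (y0 : G ⧸ C) = (y0 : G ⧸ C) * (x : G ⧸ C)
      conv_lhs => rw [h4]
      rw [QuotientGroup.mk_mul, QuotientGroup.mk_mul, QuotientGroup.mk_inv, inv_mul_cancel_right]
    have hSD : S ≤ D.map φ := by
      refine hyS.trans ?_
      have : (D.map φ).Normal := Subgroup.Normal.map hDn φ hφ
      exact normalClosure_le_normal (Set.singleton_subset_iff.2 ⟨y0, hy0D, hy0⟩)
    obtain ⟨z, hz, hzw, hzS, hzOm⟩ := hw w hwp
    have := Fact.mk hz
    obtain ⟨t', ht'⟩ := exists_prime_orderOf_dvd_card' z hzS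
    obtain ⟨d, hdD, hdt⟩ := hSD t'.2
    have h1 : z ∣ orderOf (d : G ⧸ C) := by
      rw [← ht', ← Subgroup.orderOf_coe, ← hdt]
      apply orderOf_dvd_of_pow_eq_one
      have h2 : d ^ orderOf (d : G ⧸ C) ∈ C := by
        rw [← QuotientGroup.eq_one_iff, QuotientGroup.mk_pow, pow_orderOf_eq_one]
      have h3 := hCker h2
      rw [MonoidHom.mem_ker, map_pow] at h3
      exact h3
    refine hzOm (order_mem (om_quot hOm hdvd C) ((Nat.coprime_primes hz hwp).2 hzw) h1 (dvd_of_eq hx1o.symm) ?_)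
    exact (mem_centralizer_iff.1 hdD x1 x1.2).symm

end

end Cfsg.Agent.H403.S88.Grp
end

-- part: H403/S88/GrpB
section
prune_inst 0x4e02048401842000000180596910020044c0005b000600801d9600f420a0773222003a9414c801d06125aaa8100010008110000d002400000040004000001000090a85204b3580d04240017803087180c00000000000000000000000000041004000000000
set_option linter.all false
open scoped Cfsg.Agent.FastGrp

/-!
# S3588: the solvable radical, continued (helper403)
-/

set_option autoImplicit false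
set_option linter.unusedSectionVars false

namespace Cfsg.Agent.H403.S88.Grp

open Subgroup Finset Cfsg.Agent.H229.T

universe u v

/-- the standing assumptions on `A`, the set `Om`, and the simple subgroup `S` -/
structure Base {A : Type v} [Group A] (Om : Set ℕ) (S : Subgroup A) (s : ℕ) (y : A) : Prop where
  dvd : ∀ a b, a ∣ b → b ∈ Om → a ∈ Om
  hs : s.Prime
  hy : orderOf y = s
  hyS : S ≤ normalClosure {y}
  hub : ∀ w : ℕ, w.Prime → ∃ z : ℕ, z.Prime ∧ z ≠ w ∧ z ∣ Nat.card S ∧ z * w ∉ Om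

section

variable {A : Type v} [Group A]

/-- the quotient by a normal subgroup in the kernel -/
theorem quot_step {G : Type u} [Group G] [Finite G] (φ : G →* A) (hφ : Function.Surjective φ)
    (hsol : Group.IsSolvable φ.ker) {V : Subgroup G} [hVn : V.Normal] (hVK : V ≤ φ.ker) :
    ∃ φ' : G ⧸ V →* A, (∀ g : G, φ' (g : G ⧸ V) = φ g) ∧ Function.Surjective φ' ∧ Group.IsSolvable φ'.ker ∧
      Nat.card φ'.ker * Nat.card V = Nat.card φ.ker := by
  let φ' : G ⧸ V →* A := QuotientGroup.lift V φ hVK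
  have h1 : ∀ g : G, φ' (g : G ⧸ V) = φ g := fun g => rfl
  have hker : φ'.ker = φ.ker.map (QuotientGroup.mk' V) := by
    ext z
    obtain ⟨g, rfl⟩ := QuotientGroup.mk_surjective z
    rw [MonoidHom.mem_ker, h1, Subgroup.mem_map]
    constructor
    · intro h
      exact ⟨g, h, rfl⟩
    · rintro ⟨k, hk, hkg⟩
      have h2 : k⁻¹ * g ∈ V := QuotientGroup.eq.1 hkg
      have h3 := hVK h2
      rw [MonoidHom.mem_ker] at h3 hk
      rw [map_mul, map_inv, hk, inv_one, one_mul] at h3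
      exact h3
  refine ⟨φ', h1, ?_, ?_, ?_⟩
  · intro a
    obtain ⟨g, rfl⟩ := hφ a
    exact ⟨g, h1 g⟩
  · rw [hker]
    have := hsol
    exact Group.isSolvable_of_surjective ((QuotientGroup.mk' V).subgroupMap_surjective φ.ker)
  · rw [hker]
    have h2 := Subgroup.card_eq_card_quotient_mul_card_subgroup V
    have h3 := Subgroup.index_map (φ.ker) (QuotientGroup.mk' V)
    rw [QuotientGroup.ker_mk', sup_eq_left.2 hVK, (MonoidHom.range_eq_top.2 (QuotientGroup.mk'_surjective V)),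
      Subgroup.index_top, mul_one] at h3
    have h4 := Subgroup.card_mul_index (φ.ker.map (QuotientGroup.mk' V))
    have h5 := Subgroup.card_mul_index φ.ker
    rw [h3] at h4
    have h6 : 0 < φ.ker.index := Nat.pos_of_ne_zero Subgroup.index_ne_zero_of_finite
    apply Nat.eq_of_mul_eq_mul_right h6
    rw [h5, h2, ← h4]
    ring

/-- **A Frobenius group in `S`.** -/
theorem not_dvd_card {Om : Set ℕ} {S : Subgroup A} {s : ℕ} {y : A} (hb : Base Om S s y) (hSs : IsSimpleGroup S)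
    {t : ℕ} (ht : t.Prime) (hst : s ≠ t) (hts : s * t ∉ Om) {Q : Subgroup A} (hQS : Q ≤ S) {c : A}
    (hn : ∀ a ∈ Q, c * a * c⁻¹ ∈ Q) (hfix : ∀ i, 0 < i → i < orderOf c → ∀ a ∈ Q, c ^ i * a = a * c ^ i → a = 1)
    (hcop : (Nat.card Q).Coprime t) (hQ1 : Q ≠ ⊥) (hct : orderOf c * t ∉ Om) (N : ℕ) :
    ∀ (G : Type u) [Group G] [Finite G] (φ : G →* A), Nat.card G = N → Function.Surjective φ → Group.IsSolvable φ.ker →
      (∀ g : G, orderOf g ∈ Om) → ¬ s ∣ Nat.card φ.ker → ¬ t ∣ Nat.card φ.ker := by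
  classical
  induction N using Nat.strong_induction_on with
  | _ N ih =>
  intro G _ _ φ hN hφ hsol hOm hsK htK
  have := Fact.mk ht
  have hker : φ.ker ≠ ⊥ := by
    intro h
    rw [h, Subgroup.card_bot] at htK
    exact ht.one_lt.ne' (Nat.dvd_one.1 htK)
  obtain ⟨t', V, ht', hVn, hVK, hV1, hVc, hVt, hmin⟩ := exists_min_elem φ.ker hsol hker
  by_cases htt : t' = t
  · subst htt
    have hcen := centralizes φ hφ hsol hOm hb.dvd ht hb.hs hst hsK hts hb.hy hb.hyS hb.hub hVK hV1 hVc hVt hmin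
    -- `V` is contained in `zt`
    have hVz : ∀ v ∈ V, v ∈ zt φ.ker t' := fun v hv => ⟨hVK hv, fun k hk => (hcen k hk v hv).symm, hVt v hv⟩
    obtain ⟨v0, hv0⟩ := (Subgroup.ne_bot_iff_exists_ne_one).1 hV1
    let e := QuotientGroup.quotientKerEquivOfSurjective φ hφ
    have he : ∀ g : G, e (g : G ⧸ φ.ker) = φ g := fun g => rfl
    have he' : ∀ g : G, e.symm (φ g) = (g : G ⧸ φ.ker) := fun g => by rw [← he, MulEquiv.symm_apply_apply]
    let θ : A →* MulAut (zt φ.ker t') := (act φ.ker t').comp e.symm.toMonoidHom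
    have hθ : ∀ a, θ a = act φ.ker t' (e.symm a) := fun a => rfl
    have hSact : ¬ ∀ a ∈ S, θ a = 1 := by
      intro h
      obtain ⟨z, hz, hzt, hzS, hzOm⟩ := hb.hub t' ht
      have := Fact.mk hz
      have hfinA : Finite A := Finite.of_surjective φ hφ
      obtain ⟨x, hx⟩ := exists_prime_orderOf_dvd_card' z hzS
      obtain ⟨g, hg⟩ := hφ x
      have h1 : z ∣ orderOf g := by
        rw [← hx, ← Subgroup.orderOf_coe, ← hg]
        exact orderOf_map_dvd φ g
      have h2 : orderOf (v0 : G) = t' := orderOf_eq_prime (hVt v0 v0.2) (fun h => hv0 (Subtype.ext h))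
      have h3 := h x x.2
      have h4 := congrArg (fun f : MulAut (zt φ.ker t') => ((f ⟨v0, hVz v0 v0.2⟩ : zt φ.ker t') : G)) h3
      simp only [hθ] at h4
      rw [← hg, he', act_mk] at h4
      have h5 : Commute g (v0 : G) := mul_inv_eq_iff_eq_mul.1 h4
      exact hzOm (order_mem hOm ((Nat.coprime_primes hz ht).2 hzt) h1 (dvd_of_eq h2.symm) h5)
    have hQact : ∃ a ∈ Q, ∃ v : zt φ.ker t', θ a v ≠ v := by
      by_contra hcon
      push Not at hcon
      apply hSact
      let T : Subgroup S := (θ.ker).subgroupOf S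
      have hTn : T.Normal := inferInstance
      have hT1 : T ≠ ⊥ := by
        intro h
        apply hQ1
        rw [eq_bot_iff]
        intro a ha
        have h1 : (⟨a, hQS ha⟩ : S) ∈ T := by
          rw [mem_subgroupOf, MonoidHom.mem_ker]
          exact MulEquiv.ext (hcon a ha)
        rw [h, mem_bot] at h1
        exact congrArg Subtype.val h1
      have hT := (hSs.eq_bot_or_eq_top_of_normal T hTn).resolve_left hT1
      intro a ha
      have h1 : (⟨a, ha⟩ : S) ∈ T := by rw [hT]; exact mem_top _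
      rwa [mem_subgroupOf, MonoidHom.mem_ker] at h1
    -- transport to `G ⧸ ker`
    let Q' : Subgroup (G ⧸ φ.ker) := Q.map e.symm.toMonoidHom
    have hfinA : Finite A := Finite.of_surjective φ hφ
    have hQ' : ∀ a, a ∈ Q' ↔ e a ∈ Q := by
      intro a
      constructor
      · rintro ⟨b, hb, rfl⟩
        show e (e.symm b) ∈ Q
        rwa [MulEquiv.apply_symm_apply]
      · intro h
        exact ⟨e a, h, MulEquiv.symm_apply_apply e a⟩
    obtain ⟨x, hx⟩ := exists_dvd_of_frob φ.ker ht Q' (c := e.symm c) (by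
        intro a ha
        rw [hQ'] at ha ⊢
        rw [map_mul, map_mul, map_inv, MulEquiv.apply_symm_apply]
        exact hn _ ha) (by
        intro i hi0 hi a ha hcomm
        rw [hQ'] at ha
        rw [MulEquiv.orderOf_eq] at hi
        have h1 := congrArg e hcomm
        rw [map_mul, map_mul, map_pow, MulEquiv.apply_symm_apply] at h1
        have h2 := hfix i hi0 hi _ ha h1
        exact (MulEquiv.map_eq_one_iff e).1 h2) (by
        have h1 : Nat.card Q' = Nat.card Q := Nat.card_congr (Q.equivMapOfInjective e.symm.toMonoidHom e.symm.injective).symm.toEquiv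
        rw [h1]
        exact hcop) (by
        obtain ⟨a, ha, v, hv⟩ := hQact
        exact ⟨e.symm a, ⟨a, ha, rfl⟩, v, hv⟩)
    rw [MulEquiv.orderOf_eq] at hx
    exact hct (hb.dvd _ _ hx (hOm x))
  · obtain ⟨φ', hφ'1, hφ's, hφ'sol, hφ'c⟩ := quot_step φ hφ hsol hVK
    have := Fact.mk ht'
    have hVp : IsPGroup t' V := by
      rw [IsPGroup.iff_orderOf]
      intro g
      have h2 : orderOf g ∣ t' := orderOf_dvd_of_pow_eq_one (Subtype.ext (hVt g g.2))
      rcases (Nat.dvd_prime ht').1 h2 with h3 | h3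
      · exact ⟨0, by rw [h3, pow_zero]⟩
      · exact ⟨1, by rw [h3, pow_one]⟩
    obtain ⟨k, hk⟩ := IsPGroup.iff_card.1 hVp
    have hV1' : 1 < Nat.card V := (Subgroup.one_lt_card_iff_ne_bot V).2 hV1
    have hlt : Nat.card (G ⧸ V) < N := by
      have h2 := Subgroup.card_eq_card_quotient_mul_card_subgroup V
      have h3 : 0 < Nat.card (G ⧸ V) := Nat.card_pos
      rw [← hN, h2]
      nlinarith only [hV1', h3]
    refine ih _ hlt (G ⧸ V) φ' rfl hφ's hφ'sol (om_quot hOm hb.dvd V) ?_ ?_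
    · intro h
      exact hsK (hφ'c ▸ h.mul_right _)
    · rw [← hφ'c] at htK
      rcases ht.dvd_mul.1 htK with h | h
      · exact h
      · rw [hk] at h
        exact absurd ((Nat.prime_dvd_prime_iff_eq ht ht').1 (ht.dvd_of_dvd_pow h)).symm htt

/-- the order of an extension, in the centralizer of `a` -/
theorem dvd_or_dvd {G : Type u} [Group G] [Finite G] (K : Subgroup G) [K.Normal] {t : ℕ} (ht : t.Prime) (g : G)
    (v : zt K t) (hv : ∏ i ∈ range (orderOf (g : G ⧸ K)), act K t ((g : G ⧸ K) ^ i) v ≠ 1) :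
    orderOf (g : G ⧸ K) * t ∣ orderOf g ∨ orderOf (g : G ⧸ K) * t ∣ orderOf ((v : G) * g) := by
  classical
  have hpt := Fact.mk ht
  set m := orderOf (g : G ⧸ K) with hm
  have hmpos : 0 < m := orderOf_pos _
  have hpow : ∀ k : ℕ, ((v : G) * g) ^ k = ((∏ i ∈ range k, act K t ((g : G ⧸ K) ^ i) v : zt K t) : G) * g ^ k := by
    intro k
    induction k with
    | zero => simp only [_root_.pow_zero, _root_.Finset.range_zero, _root_.map_pow, _root_.Finset.prod_empty, _root_.OneMemClass.coe_one, _root_.mul_one]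
    | succ k ih =>
      rw [pow_succ, ih, Finset.prod_range_succ, Subgroup.coe_mul, ← QuotientGroup.mk_pow, act_mk, pow_succ]
      group
  set N := ∏ i ∈ range m, act K t ((g : G ⧸ K) ^ i) v with hN
  have key : ∀ w : G, (w : G ⧸ K) = (g : G ⧸ K) → t ∣ orderOf (w ^ m) → m * t ∣ orderOf w := by
    intro w hw h1
    have h3 : m ∣ orderOf w := by
      rw [hm, ← hw]
      exact orderOf_map_dvd (QuotientGroup.mk' K) w
    rw [orderOf_pow_of_dvd hmpos.ne' h3] at h1
    obtain ⟨k, hk⟩ := h3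
    rw [hk, Nat.mul_div_cancel_left _ hmpos] at h1
    rw [hk]
    exact Nat.mul_dvd_mul_left m h1
  by_cases h1 : t ∣ orderOf (g ^ m)
  · exact Or.inl (key g rfl h1)
  · right
    refine key _ ?_ ?_
    · rw [QuotientGroup.mk_mul, (QuotientGroup.eq_one_iff _).2 v.2.1, one_mul]
    · rw [hpow, ← hN]
      have hgK : g ^ m ∈ K := by
        rw [← QuotientGroup.eq_one_iff, QuotientGroup.mk_pow, hm, pow_orderOf_eq_one]
      have hc : Commute (N : G) (g ^ m) := N.2.2.1 _ hgK
      have hNo : orderOf (N : G) = t := orderOf_eq_prime N.2.2.2 (fun h => hv (Subtype.ext h))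
      rw [hc.orderOf_mul_eq_mul_orderOf_of_coprime (by
        rw [hNo]; exact (Nat.Prime.coprime_iff_not_dvd ht).2 h1), hNo]
      exact Nat.dvd_mul_right _ _

/-- the fixed points of an automorphism -/
def fixSub {W : Type u} [CommGroup W] (f : MulAut W) : Subgroup W where
  carrier := {w | f w = w}
  one_mem' := map_one f
  mul_mem' := fun {a b} ha hb => by
    show f (a * b) = a * b
    rw [map_mul, show f a = a from ha, show f b = b from hb]
  inv_mem' := fun {a} ha => by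
    show f a⁻¹ = a⁻¹
    rw [map_inv, show f a = a from ha]

/-- the action of the centralizer on the fixed points -/
def resAct {W : Type u} [CommGroup W] (θ : A →* MulAut W) (α : A) :
    centralizer ({α} : Set A) →* MulAut (fixSub (θ α)) where
  toFun c :=
    { toFun := fun w => ⟨θ c w, by
        show θ α (θ c w) = θ c w
        have h1 : α * (c : A) = c * α := mem_centralizer_iff.1 c.2 α rfl
        rw [← MulAut.mul_apply, ← map_mul, h1, map_mul, MulAut.mul_apply, show θ α w = w from w.2]⟩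
      invFun := fun w => ⟨θ (c : A)⁻¹ w, by
        show θ α (θ (c : A)⁻¹ w) = θ (c : A)⁻¹ w
        have h1 : α * (c : A)⁻¹ = (c : A)⁻¹ * α := mem_centralizer_iff.1 (inv_mem c.2) α rfl
        rw [← MulAut.mul_apply, ← map_mul, h1, map_mul, MulAut.mul_apply, show θ α w = w from w.2]⟩
      left_inv := fun w => Subtype.ext (by
        show θ (c : A)⁻¹ (θ c w) = w
        rw [← MulAut.mul_apply, ← map_mul, inv_mul_cancel, map_one]; rfl)
      right_inv := fun w => Subtype.ext (by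
        show θ (c : A) (θ (c : A)⁻¹ w) = w
        rw [← MulAut.mul_apply, ← map_mul, mul_inv_cancel, map_one]; rfl)
      map_mul' := fun w w' => Subtype.ext (by
        show θ c ((w : W) * w') = θ c w * θ c w'
        rw [map_mul]) }
  map_one' := MulEquiv.ext fun w => Subtype.ext (by
    show θ ((1 : centralizer ({α} : Set A)) : A) w = w
    rw [Subgroup.coe_one, map_one]; rfl)
  map_mul' := fun c c' => MulEquiv.ext fun w => Subtype.ext (by
    show θ ((c * c' : centralizer ({α} : Set A)) : A) w = θ c (θ c' w)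
    rw [Subgroup.coe_mul, map_mul]; rfl)

theorem resAct_coe {W : Type u} [CommGroup W] (θ : A →* MulAut W) (α : A) (c : centralizer ({α} : Set A))
    (w : fixSub (θ α)) : ((resAct θ α c w : fixSub (θ α)) : W) = θ c w := rfl

/-- the condition on the centralizer of an element of order `r` -/
def CBad (C : Type v) [Group C] (Om : Set ℕ) (p r : ℕ) : Prop :=
  ∀ (W : Type u) [CommGroup W] (θ : C →* MulAut W), (∀ w : W, w ^ p = 1) → (∃ w : W, w ≠ 1) →
    ∃ c : C, Nat.Coprime (orderOf c) r ∧ orderOf c * p * r ∉ Om ∧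
      ∃ w : W, ∏ i ∈ range (orderOf c), θ (c ^ i) w ≠ 1

/-- **No element of order `p` of the radical commutes with an element of order `r`.** -/
theorem no_commute {Om : Set ℕ} {S : Subgroup A} {s : ℕ} {y : A} (hb : Base Om S s y) {p r : ℕ} (hp : p.Prime)
    (hr : r.Prime) (hrp : r ≠ p) (hsp : s ≠ p) (hps : s * p ∉ Om) {α : A}
    (hB : CBad.{u} (centralizer ({α} : Set A)) Om p r) (N : ℕ) :
    ∀ (G : Type u) [Group G] [Finite G] (φ : G →* A), Nat.card G = N → Function.Surjective φ → Group.IsSolvable φ.ker →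
      (∀ g : G, orderOf g ∈ Om) → ¬ s ∣ Nat.card φ.ker → ¬ r ∣ Nat.card φ.ker → ∀ a u : G, φ a = α → orderOf a = r →
      u ∈ φ.ker → orderOf u = p → ¬ Commute u a := by
  classical
  induction N using Nat.strong_induction_on with
  | _ N ih =>
  intro G _ _ φ hN hφ hsol hOm hsK hrK a u haα har huK hup hcomm
  have := Fact.mk hp
  have := Fact.mk hr
  have hker : φ.ker ≠ ⊥ := by
    intro h
    rw [h, mem_bot] at huK
    rw [huK, orderOf_one] at hup
    exact hp.one_lt.ne hup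
  obtain ⟨t', V, ht', hVn, hVK, hV1, hVc, hVt, hmin⟩ := exists_min_elem φ.ker hsol hker
  have hfinA : Finite A := Finite.of_surjective φ hφ
  by_cases huV : u ∈ V
  · have htt : t' = p := by
      have h1 : orderOf u ∣ t' := orderOf_dvd_of_pow_eq_one (hVt u huV)
      rw [hup] at h1
      exact ((Nat.prime_dvd_prime_iff_eq hp ht').1 h1).symm
    subst htt
    have hcen := centralizes φ hφ hsol hOm hb.dvd hp hb.hs hsp hsK hps hb.hy hb.hyS hb.hub hVK hV1 hVc hVt hmin
    let e := QuotientGroup.quotientKerEquivOfSurjective φ hφ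
    have he : ∀ g : G, e (g : G ⧸ φ.ker) = φ g := fun g => rfl
    have he' : ∀ g : G, e.symm (φ g) = (g : G ⧸ φ.ker) := fun g => by rw [← he, MulEquiv.symm_apply_apply]
    let θ : A →* MulAut (zt φ.ker t') := (act φ.ker t').comp e.symm.toMonoidHom
    have hθ : ∀ a, θ a = act φ.ker t' (e.symm a) := fun a => rfl
    have hαe : e.symm α = (a : G ⧸ φ.ker) := by rw [← haα, he']
    have huz : u ∈ zt φ.ker t' := ⟨huK, fun k hk => (hcen k hk u huV).symm, hVt u huV⟩
    have hu1 : u ≠ 1 := by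
      rintro rfl
      rw [orderOf_one] at hup
      exact hp.one_lt.ne hup
    have hfixu : θ α ⟨u, huz⟩ = ⟨u, huz⟩ := by
      apply Subtype.ext
      rw [hθ, ← haα, he', act_mk]
      show a * u * a⁻¹ = u
      rw [← hcomm.eq, mul_inv_cancel_right]
    obtain ⟨c, hcr, hcOm, w, hw⟩ := hB (fixSub (θ α)) (resAct θ α) (fun w => Subtype.ext (pow_eq φ.ker t' w.1))
      ⟨⟨⟨u, huz⟩, hfixu⟩, fun h => hu1 (congrArg (fun x : fixSub (θ α) => ((x : zt φ.ker t') : G)) h)⟩
    -- a lift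
    obtain ⟨g, hg, hga⟩ := exists_commute_lift φ.ker hr hrK har (x := e.symm (c : A)) (by
      have h1 : α * (c : A) = c * α := mem_centralizer_iff.1 c.2 α rfl
      have h2 : e.symm (α * (c : A)) = e.symm ((c : A) * α) := congrArg e.symm h1
      rw [map_mul, map_mul] at h2
      show e.symm (c : A) * (a : G ⧸ φ.ker) = (a : G ⧸ φ.ker) * e.symm (c : A)
      rw [← hαe]
      exact h2.symm)
    have hgo : orderOf (g : G ⧸ φ.ker) = orderOf c := by
      rw [hg, MulEquiv.orderOf_eq, Subgroup.orderOf_coe]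
    have hwa : Commute (((w : zt φ.ker t') : G)) a := by
      have h1 : θ α (w : zt φ.ker t') = w := w.2
      have h2 : act φ.ker t' (a : G ⧸ φ.ker) (w : zt φ.ker t') = w := by
        rw [← hαe]
        exact h1
      exact (exists_commute φ.ker h2).symm
    have hnorm : ∏ i ∈ range (orderOf (g : G ⧸ φ.ker)), act φ.ker t' ((g : G ⧸ φ.ker) ^ i) (w : zt φ.ker t') ≠ 1 := by
      intro h
      apply hw
      apply Subtype.ext
      rw [hgo] at h
      have h1 : ((∏ i ∈ range (orderOf c), resAct θ α (c ^ i) w : fixSub (θ α)) : zt φ.ker t') =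
          ∏ i ∈ range (orderOf c), ((resAct θ α (c ^ i) w : fixSub (θ α)) : zt φ.ker t') :=
        map_prod (fixSub (θ α)).subtype _ _
      rw [h1]
      refine Eq.trans ?_ h
      apply Finset.prod_congr rfl
      intro i _
      rw [resAct_coe, hθ, hg]
      congr 2
      rw [← map_pow, SubgroupClass.coe_pow]
    have hfin : ∀ x : G, orderOf (g : G ⧸ φ.ker) * t' ∣ orderOf x → Commute x a → False := by
      intro x hx hxa
      apply hcOm
      rw [hgo] at hx
      exact order_mem hOm (Nat.Coprime.mul_left hcr ((Nat.coprime_primes hp hr).2 hrp.symm)) hx (dvd_of_eq har.symm) hxa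
    rcases dvd_or_dvd φ.ker hp g w hnorm with h | h
    · exact hfin g h hga
    · exact hfin _ h (hwa.mul_left hga)
  · obtain ⟨φ', hφ'1, hφ's, hφ'sol, hφ'c⟩ := quot_step φ hφ hsol hVK
    have hV1' : 1 < Nat.card V := (Subgroup.one_lt_card_iff_ne_bot V).2 hV1
    have hlt : Nat.card (G ⧸ V) < N := by
      have h2 := Subgroup.card_eq_card_quotient_mul_card_subgroup V
      have h3 : 0 < Nat.card (G ⧸ V) := Nat.card_pos
      rw [← hN, h2]
      nlinarith only [hV1', h3]
    refine ih _ hlt (G ⧸ V) φ' rfl hφ's hφ'sol (om_quot hOm hb.dvd V) (fun h => hsK (hφ'c ▸ h.mul_right _))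
      (fun h => hrK (hφ'c ▸ h.mul_right _)) (a : G ⧸ V) (u : G ⧸ V) (by rw [hφ'1, haα]) ?_ ?_ ?_ ?_
    · apply orderOf_eq_prime
      · rw [← QuotientGroup.mk_pow, ← har, pow_orderOf_eq_one, QuotientGroup.mk_one]
      · rw [Ne, QuotientGroup.eq_one_iff]
        intro h
        apply hrK
        rw [← har]
        exact Subgroup.orderOf_dvd_natCard _ (hVK h)
    · rw [MonoidHom.mem_ker, hφ'1]
      exact huK
    · apply orderOf_eq_prime
      · rw [← QuotientGroup.mk_pow, ← hup, pow_orderOf_eq_one, QuotientGroup.mk_one]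
      · rw [Ne, QuotientGroup.eq_one_iff]
        exact huV
    · have h1 : (u : G ⧸ V) * (a : G ⧸ V) = (a : G ⧸ V) * (u : G ⧸ V) := by
        rw [← QuotientGroup.mk_mul, hcomm.eq, QuotientGroup.mk_mul]
      exact h1

/-- **The order of the image.** -/
theorem order_image {G : Type u} [Group G] [Finite G] (φ : G →* A) {p r : ℕ} (hp : p.Prime) (hr : r.Prime)
    (h2K : ¬ 2 ∣ Nat.card φ.ker) (hrK : ¬ r ∣ Nat.card φ.ker)
    (h : ∀ a u : G, orderOf a = r → u ∈ φ.ker → orderOf u = p → ¬ Commute u a) {j b : ℕ} {g : G}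
    (hg : orderOf g = p ^ j * r * 2 ^ b) : orderOf (φ g) = p ^ j * r * 2 ^ b := by
  have hd : orderOf (φ g) ∣ orderOf g := orderOf_map_dvd φ g
  obtain ⟨k, hk⟩ := hd
  have hg0 : 0 < orderOf g := orderOf_pos g
  have hm0 : 0 < orderOf (φ g) := Nat.pos_of_ne_zero (fun h => by rw [h, zero_mul] at hk; omega)
  have hgk : orderOf (g ^ orderOf (φ g)) = k := by
    rw [orderOf_pow_of_dvd hm0.ne' ⟨k, hk⟩, hk, Nat.mul_div_cancel_left _ hm0]
  have hgker : g ^ orderOf (φ g) ∈ φ.ker := by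
    rw [MonoidHom.mem_ker, map_pow, pow_orderOf_eq_one]
  have hkK : k ∣ Nat.card φ.ker := by
    rw [← hgk]
    exact Subgroup.orderOf_dvd_natCard _ hgker
  have hk1 : k = 1 := by
    by_contra hk1
    obtain ⟨w, hw, hwk⟩ := Nat.exists_prime_and_dvd hk1
    have hwg : w ∣ p ^ j * r * 2 ^ b := by
      rw [← hg, hk]
      exact hwk.mul_left _
    have hwp : w = p := by
      rcases hw.dvd_mul.1 hwg with h1 | h1
      · rcases hw.dvd_mul.1 h1 with h3 | h3
        · exact (Nat.prime_dvd_prime_iff_eq hw hp).1 (hw.dvd_of_dvd_pow h3)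
        · rw [(Nat.prime_dvd_prime_iff_eq hw hr).1 h3] at hwk
          exact absurd (hwk.trans hkK) hrK
      · rw [(Nat.prime_dvd_prime_iff_eq hw Nat.prime_two).1 (hw.dvd_of_dvd_pow h1)] at hwk
        exact absurd (hwk.trans hkK) h2K
    subst hwp
    have hrg : r ∣ orderOf g := by
      rw [hg]
      exact (Nat.dvd_mul_left r _).mul_right _
    refine h (g ^ (orderOf g / r)) ((g ^ orderOf (φ g)) ^ (k / w)) ?_ (φ.ker.pow_mem hgker _) ?_ ?_
    · rw [orderOf_pow_of_dvd (Nat.div_pos (Nat.le_of_dvd hg0 hrg) hr.pos).ne' (Nat.div_dvd_of_dvd hrg),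
        Nat.div_div_self hrg hg0.ne']
    · have hk0 : 0 < k := Nat.pos_of_ne_zero (fun h => by rw [h, mul_zero] at hk; omega)
      rw [← hgk] at hwk hk0
      have := orderOf_pow_of_dvd (x := g ^ orderOf (φ g)) (Nat.div_pos (Nat.le_of_dvd hk0 hwk) hw.pos).ne'
        (Nat.div_dvd_of_dvd hwk)
      rw [hgk] at this hwk hk0
      rw [this, Nat.div_div_self hwk hk0.ne']
    · exact (((Commute.refl g).pow_left _).pow_left _).pow_right _
  rw [hk1, mul_one] at hk
  rw [← hk, hg]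

end

end Cfsg.Agent.H403.S88.Grp
end

-- part: H403/S88/LSideB
section
prune_inst 0x4e0104840750200000018001682000020680000000000080020200b0203090000804288010a0004061002800038040028100000800040000004000400000501209080420002400104040001000000000000000000000000000000000000000000000000000
set_option linter.all false
open scoped Cfsg.Agent.FastGrp

-- part: H352/Tor
section
/-!
# S3588 L6: the tori centralising an isometry of prime order (helper352)
-/

set_option autoImplicit false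
set_option linter.unusedSectionVars false

namespace Cfsg.Agent.H352.Tor

open Module Polynomial Cfsg.Agent.H200.LinFix

variable {F V : Type*} [Field F] [AddCommGroup V] [Module F V] {b : LinearMap.BilinForm F V} [Finite V]
variable {l : ℕ} [hl : Fact l.Prime]

/-- The even class: `R y` of dimension `2 d`, irreducible. -/
theorem tor_even [Finite F] (hl2 : l ≠ 2) (hlF : (l : F) ≠ 0) {y : Module.End F V} (hy : y ^ l = 1) (hyb : Isom b y)
    (hb : ∀ v, (∀ u, b u v = 0) → v = 0) {d : ℕ} (hd1 : 1 ≤ d) (hd : Ordd l (Nat.card F) (2 * d))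
    (hfr : finrank F (R y) = 2 * d) {s : Module.End F V} (hsb : Isom b s) (hsy : s * y = y * s) :
    ∀ w ∈ R y, (s ^ (Nat.card F ^ d + 1)) w = w := by
  have hfd : FiniteDimensional F V := inferInstance
  have hyW : ∀ w ∈ R y, y w ∈ R y := fun w hw => R_inv rfl hw
  have hsW : ∀ w ∈ R y, s w ∈ R y := fun w hw => R_inv hsy hw
  have hsy' : ∀ w, s (y w) = y (s w) := fun w => LinearMap.congr_fun hsy w
  have hW : R y ≠ ⊥ := by
    intro h
    rw [h, finrank_bot] at hfr
    omega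
  have hirr : Irr y (R y) := irr_of_lt hd hlF hy le_rfl hyW (by omega)
  obtain ⟨w, hw, hw0⟩ := Submodule.exists_mem_ne_zero_of_ne_bot hW
  obtain ⟨m, hm, hU⟩ := unitary_on (l := l - 1) hW hyW hirr b (fun u _ v _ => hyb u v)
    (fun v hv hv' => nondeg_R hyb hb hy hlF hv hv')
    (by rw [Nat.sub_add_cancel hl.out.one_le, hy])
    ⟨w, hw, fun h1 => hw0 (eq_zero_of_mem hy hlF (fix_of_sq hl2 hy h1) hw)⟩
  have hmd : m = d := by omega
  subst hmd
  exact hU s hsW (fun w _ => hsy' w) (fun u _ v _ => hsb u v)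

/-- An invariant complement (Maschke). -/
theorem exists_compl (hlF : (l : F) ≠ 0) {y : Module.End F V} (hy : y ^ l = 1) {E W : Submodule F V}
    (hE : ∀ w ∈ E, y w ∈ E) (hW : ∀ w ∈ W, y w ∈ W) (hEW : E ≤ W) :
    ∃ C : Submodule F V, C ≤ W ∧ (∀ w ∈ C, y w ∈ C) ∧ E ⊓ C = ⊥ ∧ E ⊔ C = W := by
  have hfd : FiniteDimensional F V := inferInstance
  have hsq : Squarefree (X ^ l - 1 : F[X]) := (X_pow_sub_one_separable_iff.2 hlF).squarefree
  have hae : aeval y (X ^ l - 1 : F[X]) = 0 := by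
    rw [map_sub, map_pow, aeval_X, map_one, hy, sub_self]
  have hss : y.IsSemisimple := Module.End.isSemisimple_of_squarefree_aeval_eq_zero hsq hae
  have hfs : y.IsFinitelySemisimple := Module.End.isFinitelySemisimple_iff_isSemisimple.2 hss
  rw [Module.End.isFinitelySemisimple_iff] at hfs
  obtain ⟨C, hC, hCy, hdis, hsup⟩ := hfs W ((Module.End.mem_invtSubmodule_iff_forall_mem_of_mem y).2 hW) inferInstance E
    ((Module.End.mem_invtSubmodule_iff_forall_mem_of_mem y).2 hE) hEW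
  exact ⟨C, hC, (Module.End.mem_invtSubmodule_iff_forall_mem_of_mem y).1 hCy, disjoint_iff.1 hdis, hsup⟩

theorem isom_inj (hb : ∀ v, (∀ u, b u v = 0) → v = 0) {s : Module.End F V} (hsb : Isom b s) :
    Function.Injective s := by
  rw [← LinearMap.ker_eq_bot, LinearMap.ker_eq_bot']
  intro v hv
  apply hb
  intro u
  rw [← hsb, hv, map_zero]

/-- The odd class: `R y` of dimension `2 d`, `d` odd, the sum of two dual irreducible modules. -/
theorem tor_odd [Finite F] (hl2 : l ≠ 2) (hlF : (l : F) ≠ 0) {y : Module.End F V} (hy : y ^ l = 1) (hyb : Isom b y)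
    (hb : ∀ v, (∀ u, b u v = 0) → v = 0) {d : ℕ} (hd : Ordd l (Nat.card F) d) (hld : l ∣ Nat.card F ^ d - 1)
    (hdo : Odd d) (hfr : finrank F (R y) = 2 * d) {s : Module.End F V} (hsb : Isom b s) (hsy : s * y = y * s) :
    ∀ w ∈ R y, (s ^ (Nat.card F ^ d - 1)) w = w := by
  have hfd : FiniteDimensional F V := inferInstance
  have hd0 : 0 < d := hdo.pos
  have hyW : ∀ w ∈ R y, y w ∈ R y := fun w hw => R_inv rfl hw
  have hsW : ∀ w ∈ R y, s w ∈ R y := fun w hw => R_inv hsy hw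
  have hsy' : ∀ w, s (y w) = y (s w) := fun w => LinearMap.congr_fun hsy w
  have hW : R y ≠ ⊥ := by
    intro h
    rw [h, finrank_bot] at hfr
    omega
  have hsinj : Function.Injective s := isom_inj hb hsb
  have hq1 : 1 ≤ Nat.card F ^ d := Nat.one_le_pow _ _ Nat.card_pos
  -- a proper invariant subspace
  obtain ⟨E, hEW, hyE, hE0, hEne⟩ : ∃ E : Submodule F V, E ≤ R y ∧ (∀ w ∈ E, y w ∈ E) ∧ E ≠ ⊥ ∧ E ≠ R y := by
    by_contra hcon
    push Not at hcon
    have hirr : Irr y (R y) := fun U hU hyU => by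
      by_cases h : U = ⊥
      · exact Or.inl h
      · exact Or.inr (hcon U hU hyU h)
    obtain ⟨w, hw, hw0⟩ := Submodule.exists_mem_ne_zero_of_ne_bot hW
    obtain ⟨m, hm, hU⟩ := unitary_on (l := l - 1) hW hyW hirr b (fun u _ v _ => hyb u v)
      (fun v hv hv' => nondeg_R hyb hb hy hlF hv hv')
      (by rw [Nat.sub_add_cancel hl.out.one_le, hy])
      ⟨w, hw, fun h1 => hw0 (eq_zero_of_mem hy hlF (fix_of_sq hl2 hy h1) hw)⟩
    have hmd : m = d := by omega
    subst hmd
    apply hw0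
    refine eq_zero_of_mem hy hlF ?_ hw
    refine fix_of_coprime (hU y hyW (fun w _ => rfl) (fun u _ v _ => hyb u v) w hw)
      (by rw [hy]; rfl) ?_
    refine ((Nat.Prime.coprime_iff_not_dvd hl.out).2 fun h => ?_).symm
    apply hl2
    have h3 : l ∣ 2 := by
      have h4 : Nat.card F ^ m + 1 - (Nat.card F ^ m - 1) = 2 := by omega
      rw [← h4]
      exact Nat.dvd_sub h hld
    exact (Nat.prime_dvd_prime_iff_eq hl.out Nat.prime_two).1 h3
  have hEd : finrank F E = d := by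
    obtain ⟨c, hc⟩ := dvd_finrank_le hd hlF hy hEW hyE
    have h1 : finrank F E < finrank F (R y) := Submodule.finrank_lt_finrank_of_lt (lt_of_le_of_ne hEW hEne)
    have h2 : finrank F E ≠ 0 := fun h => hE0 (Submodule.finrank_eq_zero.1 h)
    have h3 : c < 2 := by
      by_contra h
      push Not at h
      nlinarith
    interval_cases c <;> omega
  have hirr : Irr y E := irr_of_lt hd hlF hy hEW hyE (by omega)
  have hnotEven : ¬ Even (finrank F E) := by rw [hEd]; exact Nat.not_even_iff_odd.2 hdo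
  -- totally isotropic
  have hti : ∀ v ∈ E, ∀ u ∈ E, b u v = 0 := by
    rcases rad_of_irr hy hyb hyE hirr with h | h
    · exact absurd (even_of_irr hl2 hlF hy hEW hyE hirr hE0 b (fun u _ v _ => hyb u v) h) hnotEven
    · exact h
  -- `E` is `s`-invariant
  have hsE : ∀ w ∈ E, s w ∈ E := by
    have hE'y : ∀ w ∈ E.map s, y w ∈ E.map s := by
      rintro _ ⟨w, hw, rfl⟩
      exact ⟨y w, hyE w hw, hsy' w⟩
    have hE'd : finrank F (E.map s) = d := by
      rw [← hEd]
      exact (Submodule.equivMapOfInjective s hsinj E).symm.finrank_eq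
    have hE'W : E.map s ≤ R y := by
      rintro _ ⟨w, hw, rfl⟩
      exact hsW w (hEW hw)
    rcases hirr (E ⊓ E.map s) inf_le_left (fun u hu => ⟨hyE u hu.1, hE'y u hu.2⟩) with h | h
    · exfalso
      have hsup : E ⊔ E.map s = R y := by
        apply Submodule.eq_of_le_of_finrank_le (sup_le hEW hE'W)
        have h1 := Submodule.finrank_sup_add_finrank_inf_eq E (E.map s)
        rw [h, finrank_bot, hE'd, hEd] at h1
        omega
      apply hnotEven
      refine even_of_irr hl2 hlF hy hEW hyE hirr hE0 (b.compRight s) (fun u _ v _ => ?_) ?_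
      · rw [LinearMap.BilinForm.compRight_apply, LinearMap.BilinForm.compRight_apply, hsy', hyb]
      · intro v hv hv'
        apply hsinj
        rw [map_zero]
        refine nondeg_R hyb hb hy hlF (hsW v (hEW hv)) fun u hu => ?_
        rw [← hsup] at hu
        obtain ⟨u1, hu1, u2, ⟨u3, hu3, rfl⟩, rfl⟩ := Submodule.mem_sup.1 hu
        rw [map_add, LinearMap.add_apply, hsb, hti v hv u3 hu3, add_zero]
        exact hv' u1 hu1
    · intro w hw
      have h1 : E = E.map s := Submodule.eq_of_le_of_finrank_eq (by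
        intro x hx
        have h2 : x ∈ E ⊓ E.map s := by rw [h]; exact hx
        exact h2.2) (by rw [hE'd, hEd])
      rw [h1]
      exact ⟨w, hw, rfl⟩
  -- `s ^ (q ^ d - 1)` is trivial on `E`
  set N := Nat.card F ^ d - 1 with hN
  have hsN : ∀ w ∈ E, (s ^ N) w = w := by
    have hn : Nontrivial E := Submodule.nontrivial_iff_ne_bot.2 hE0
    have hnt : Nontrivial (Module.End F E) := Module.End.instNontrivial
    have h1 := pow_card_sub_one (g := y.restrict hyE) (hirr.restrict hyE) (s := s.restrict hsE)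
      (by ext ⟨v, hv⟩; exact hsy' v)
      (by
        intro h0
        obtain ⟨w, hw, hw0⟩ := Submodule.exists_mem_ne_zero_of_ne_bot hE0
        apply hw0
        apply hsinj
        rw [map_zero]
        exact congrArg Subtype.val (LinearMap.congr_fun h0 ⟨w, hw⟩))
    have h2 : Nat.card E = Nat.card F ^ d := by rw [Module.natCard_eq_pow_finrank (K := F), hEd]
    have h3 : ∀ (n : ℕ) (v : E), ((((s.restrict hsE) ^ n) v : E) : V) = (s ^ n) v := by
      intro n
      induction n with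
      | zero => intro v; rfl
      | succ n ih => intro v; rw [pow_succ, pow_succ, Module.End.mul_apply, Module.End.mul_apply, ih]; rfl
    intro w hw
    rw [hN, ← h2]
    have h4 := congrArg Subtype.val (LinearMap.congr_fun h1 ⟨w, hw⟩)
    rw [h3] at h4
    exact h4
  have hsNb : ∀ (n : ℕ) (u v : V), b ((s ^ n) u) ((s ^ n) v) = b u v := by
    intro n
    induction n with
    | zero => intro u v; rfl
    | succ n ih => intro u v; rw [pow_succ, Module.End.mul_apply, Module.End.mul_apply, ih, hsb]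
  have hsNy : ∀ w, (s ^ N) (y w) = y ((s ^ N) w) := by
    have h1 : s ^ N * y = y * s ^ N := (Commute.pow_left (show Commute s y from hsy) N)
    exact fun w => LinearMap.congr_fun h1 w
  have hsNW : ∀ (n : ℕ), ∀ w ∈ R y, (s ^ n) w ∈ R y := fun n => pow_inv_mem hsW n
  -- the complement
  obtain ⟨C, hCW, hyC, hinf, hsup⟩ := exists_compl hlF hy hyE hyW hEW
  have hCd : finrank F C = d := by
    have h1 := Submodule.finrank_sup_add_finrank_inf_eq E C
    rw [hinf, hsup, finrank_bot, hEd, hfr] at h1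
    omega
  have hC0 : C ≠ ⊥ := by
    intro h
    rw [h, finrank_bot] at hCd
    omega
  have hirrC : Irr y C := irr_of_lt hd hlF hy hCW hyC (by omega)
  set f : Module.End F V := s ^ N - 1 with hf
  have hfa : ∀ w, f w = (s ^ N) w - w := fun w => rfl
  have hfy : ∀ w, f (y w) = y (f w) := by
    intro w
    rw [hfa, hfa, map_sub, hsNy]
  have hfW : ∀ w ∈ R y, f w ∈ R y := fun w hw => by
    rw [hfa]; exact Submodule.sub_mem _ (hsNW N w hw) hw
  rcases zero_or_inj (a := f) hirrC hyC (fun w _ => hfy w) with h | h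
  · intro w hw
    rw [← hsup] at hw
    obtain ⟨e, he, c, hc, rfl⟩ := Submodule.mem_sup.1 hw
    have h1 := h c hc
    rw [hfa, sub_eq_zero] at h1
    rw [map_add, hsN e he, h1]
  · exfalso
    have hev : Even (finrank F C) := by
      refine even_of_irr hl2 hlF hy hCW hyC hirrC hC0 (b.compRight f) (fun u _ v _ => ?_) ?_
      · rw [LinearMap.BilinForm.compRight_apply, LinearMap.BilinForm.compRight_apply, hfy, hyb]
      · intro v hv hv'
        apply h v hv
        refine nondeg_R hyb hb hy hlF (hfW v (hCW hv)) fun u hu => ?_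
        rw [← hsup] at hu
        obtain ⟨e, he, c, hc, rfl⟩ := Submodule.mem_sup.1 hu
        have h1 := hv' c hc
        rw [LinearMap.BilinForm.compRight_apply] at h1
        rw [map_add, LinearMap.add_apply, h1, add_zero, hfa, map_sub, sub_eq_zero]
        nth_rewrite 1 [← hsN e he]
        rw [hsNb]
    rw [hCd] at hev
    exact (Nat.not_even_iff_odd.2 hdo) hev

end Cfsg.Agent.H352.Tor
end

-- part: H403/S88/LSideA
section
/-!
# S3588: elements of `PSp_2n(q)`, `q` odd, of order divisible by a prime `r` of a large class (helper403)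

* `bJ` : the alternating form; `exists_lin` : linear isometries for the elements of `PSp n F`;
* `Cls q r d E` : `r` an odd prime of class `2 d`, `E = q ^ d + 1`, or of odd class `d`, `E = q ^ d - 1`;
* `Cls.finrank_R`, `Cls.tor` : the commutator space of an element of order `r` and its centralizer.
-/

set_option autoImplicit false
set_option linter.unusedSectionVars false

namespace Cfsg.Agent.H403.S88

open Module Cfsg Matrix
open Cfsg.Agent.H200.LinFix

section form

variable {F : Type*} [Field F] {n : ℕ}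

/-- the alternating form -/
noncomputable def bJ (n : ℕ) (F : Type*) [Field F] : LinearMap.BilinForm F (Fin n ⊕ Fin n → F) :=
  Matrix.toBilin' (Matrix.J (Fin n) F)

theorem bJ_apply (u v : Fin n ⊕ Fin n → F) : bJ n F u v = u ⬝ᵥ (Matrix.J (Fin n) F) *ᵥ v :=
  Matrix.toBilin'_apply' _ _ _

theorem bJ_isom {A : Matrix (Fin n ⊕ Fin n) (Fin n ⊕ Fin n) F} (hA : A ∈ Matrix.symplecticGroup (Fin n) F) :
    Isom (bJ n F) (Matrix.toLin' A) := by
  intro u v
  have h1 : Aᵀ * Matrix.J (Fin n) F * A = Matrix.J (Fin n) F := (SymplecticGroup.mem_iff').1 hA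
  rw [bJ_apply, bJ_apply, Matrix.toLin'_apply, Matrix.toLin'_apply, Matrix.mulVec_mulVec, dotProduct_comm,
    Matrix.dotProduct_mulVec, ← Matrix.mulVec_transpose, dotProduct_comm, Matrix.mulVec_mulVec, ← Matrix.mul_assoc, h1]

theorem bJ_nondeg (v : Fin n ⊕ Fin n → F) (h : ∀ u, bJ n F u v = 0) : v = 0 := by
  have h1 : (Matrix.J (Fin n) F) *ᵥ v = 0 := by
    funext i
    have h2 := h (Pi.single i 1)
    rw [bJ_apply, single_one_dotProduct] at h2
    exact h2
  have h2 : (Matrix.J (Fin n) F) *ᵥ ((Matrix.J (Fin n) F) *ᵥ v) = 0 := by rw [h1, Matrix.mulVec_zero]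
  rw [Matrix.mulVec_mulVec, Matrix.J_squared, Matrix.neg_mulVec, Matrix.one_mulVec, neg_eq_zero] at h2
  exact h2

/-- elements of `PSp` as linear isometries -/
theorem exists_lin (x : PSp n F) : ∃ T : Module.End F (Fin n ⊕ Fin n → F), Isom (bJ n F) T ∧
    ∀ j : ℕ, x ^ j = 1 ↔ (T ^ j = 1 ∨ T ^ j = -1) := by
  obtain ⟨g, rfl⟩ := QuotientGroup.mk_surjective x
  refine ⟨Matrix.toLin' (g : Matrix (Fin n ⊕ Fin n) (Fin n ⊕ Fin n) F), bJ_isom g.2, fun j => ?_⟩
  have h3 : (Matrix.toLin' (g : Matrix (Fin n ⊕ Fin n) (Fin n ⊕ Fin n) F)) ^ j =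
      Matrix.toLin' ((g : Matrix (Fin n ⊕ Fin n) (Fin n ⊕ Fin n) F) ^ j) := (Matrix.toLin'_pow _ j).symm
  have h5 : (-1 : Module.End F (Fin n ⊕ Fin n → F)) = Matrix.toLin' (-1 : Matrix (Fin n ⊕ Fin n) (Fin n ⊕ Fin n) F) := by
    rw [map_neg, Matrix.toLin'_one]; rfl
  have h6 : (1 : Module.End F (Fin n ⊕ Fin n → F)) = Matrix.toLin' (1 : Matrix (Fin n ⊕ Fin n) (Fin n ⊕ Fin n) F) := by
    rw [Matrix.toLin'_one]; rfl
  rw [h3]
  conv_rhs => rw [h5, h6]
  rw [Matrix.toLin'.injective.eq_iff, Matrix.toLin'.injective.eq_iff, ← QuotientGroup.mk_pow, QuotientGroup.eq_one_iff]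
  constructor
  · intro h
    have h1 := ClassicalGeometry.SympInvolutions.center_eq h
    rcases h1 with h1 | h1
    · left
      exact h1
    · right
      exact h1
  · intro h
    rw [Subgroup.mem_center_iff]
    intro z
    apply Subtype.ext
    show (z : Matrix (Fin n ⊕ Fin n) (Fin n ⊕ Fin n) F) * (g : Matrix (Fin n ⊕ Fin n) (Fin n ⊕ Fin n) F) ^ j =
      (g : Matrix (Fin n ⊕ Fin n) (Fin n ⊕ Fin n) F) ^ j * z
    rcases h with h | h <;> rw [h] <;> simp

end form

section cls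

/-- the class of an odd prime -/
structure Cls (q r d E : ℕ) : Prop where
  hr : r.Prime
  hr2 : r ≠ 2
  hrq : ¬ r ∣ q
  hd : 1 ≤ d
  cls : (Ordd r q (2 * d) ∧ E = q ^ d + 1) ∨ (Odd d ∧ Ordd r q d ∧ r ∣ q ^ d - 1 ∧ E = q ^ d - 1)

theorem ordd_of_orderOf {q r e : ℕ} (hq : 1 ≤ q) (h : orderOf (q : ZMod r) = e) : Ordd r q e := by
  intro m hm
  rw [← h]
  apply orderOf_dvd_of_pow_eq_one
  rw [← ZMod.natCast_eq_zero_iff, Nat.cast_sub (Nat.one_le_pow _ _ hq)] at hm
  push_cast at hm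
  exact sub_eq_zero.1 hm

theorem cls_even {q r d : ℕ} (hq : 1 ≤ q) (hd : 2 ≤ d) (hr : r.Prime) (h : orderOf (q : ZMod r) = 2 * d) :
    Cls q r d (q ^ d + 1) := by
  obtain ⟨h2, -, h3, -, -⟩ := H390.prim_cond hr h (by omega)
  exact ⟨hr, h2, h3, by omega, Or.inl ⟨ordd_of_orderOf hq h, rfl⟩⟩

theorem cls_odd {q r d : ℕ} (hq : 1 ≤ q) (hd : 3 ≤ d) (hdo : Odd d) (hr : r.Prime) (h : orderOf (q : ZMod r) = d) :
    Cls q r d (q ^ d - 1) := by
  obtain ⟨h2, -, h3, -, -⟩ := H390.prim_cond hr h (by omega)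
  refine ⟨hr, h2, h3, by omega, Or.inr ⟨hdo, ordd_of_orderOf hq h, ?_, rfl⟩⟩
  rw [← ZMod.natCast_eq_zero_iff, Nat.cast_sub (Nat.one_le_pow _ _ hq), Nat.cast_pow, Nat.cast_one, sub_eq_zero, ← h]
  exact pow_orderOf_eq_one _

variable {F V : Type*} [Field F] [Finite F] [AddCommGroup V] [Module F V] [Finite V] {b : LinearMap.BilinForm F V}
  {q r d E : ℕ}

theorem Cls.ne (h : Cls (Nat.card F) r d E) : (r : F) ≠ 0 := by
  have : Fintype F := Fintype.ofFinite F
  exact H390.natCast_ne_zero h.hr h.hrq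

/-- the dimension of the commutator space -/
theorem Cls.finrank_R (h : Cls (Nat.card F) r d E) {y : Module.End F V} (hy : y ^ r = 1) (hy1 : y ≠ 1)
    (hyb : Isom b y) (hb : ∀ v, (∀ u, b u v = 0) → v = 0) (hle : finrank F (R y) < 4 * d)
    (hle' : E = Nat.card F ^ d - 1 → finrank F (R y) < 3 * d) : finrank F (R y) = 2 * d := by
  have := Fact.mk h.hr
  have hfd : FiniteDimensional F V := inferInstance
  have h0 : 0 < finrank F (R y) := by
    rw [Nat.pos_iff_ne_zero, Ne, Submodule.finrank_eq_zero]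
    exact R_ne_bot hy1
  rcases h.cls with ⟨hd, -⟩ | ⟨hdo, hd, hrd, hEd⟩
  · obtain ⟨c, hc⟩ := dvd_finrank_R hd h.ne hy
    have hc1 : c < 2 := by
      by_contra hc2
      have : 2 * d * 2 ≤ 2 * d * c := Nat.mul_le_mul_left _ (by omega)
      omega
    have hc0 : c ≠ 0 := by
      rintro rfl
      omega
    have : c = 1 := by omega
    rw [hc, this, mul_one]
  · obtain ⟨c, hc⟩ := dvd_finrank_R hd h.ne hy
    have hc3 : c < 3 := by
      by_contra hc2
      have h1 : d * 3 ≤ d * c := Nat.mul_le_mul_left _ (by omega)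
      have h2 := hle' hEd
      omega
    have hc0 : c ≠ 0 := by
      rintro rfl
      omega
    have hc1 : c ≠ 1 := by
      rintro rfl
      have hd0 := hdo.pos
      have hirr : Irr y (R y) := irr_of_lt hd h.ne hy le_rfl (fun w hw => R_inv rfl hw) (by omega)
      have h1 := even_of_irr h.hr2 h.ne hy le_rfl (fun w hw => R_inv rfl hw) hirr (R_ne_bot hy1) b
        (fun u _ v _ => hyb u v) (fun v hv hu => nondeg_R hyb hb hy h.ne hv hu)
      rw [hc, mul_one] at h1
      exact (Nat.not_even_iff_odd.2 hdo) h1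
    have : c = 2 := by omega
    rw [hc, this]
    ring

/-- the centralizer on the commutator space -/
theorem Cls.tor (h : Cls (Nat.card F) r d E) {y : Module.End F V} (hy : y ^ r = 1)
    (hyb : Isom b y) (hb : ∀ v, (∀ u, b u v = 0) → v = 0) (hfr : finrank F (R y) = 2 * d) {s : Module.End F V}
    (hsb : Isom b s) (hsy : s * y = y * s) : ∀ w ∈ R y, (s ^ E) w = w := by
  have := Fact.mk h.hr
  rcases h.cls with ⟨hd, rfl⟩ | ⟨hdo, hd, hrd, rfl⟩
  · exact Cfsg.Agent.H352.Tor.tor_even h.hr2 h.ne hy hyb hb h.hd hd hfr hsb hsy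
  · exact Cfsg.Agent.H352.Tor.tor_odd h.hr2 h.ne hy hyb hb hd hrd hdo hfr hsb hsy

theorem Isom.pow {g : Module.End F V} (hg : Isom b g) (k : ℕ) : Isom b (g ^ k) := by
  induction k with
  | zero => intro u v; rfl
  | succ k ih => rw [pow_succ]; exact ih.mul hg

/-- powers of a map with `(T ^ j = ± 1) ↔ N ∣ j` -/
theorem prime_part {T : Module.End F V} {N : ℕ} (hN : 0 < N) (hT : ∀ j : ℕ, (T ^ j = 1 ∨ T ^ j = -1) ↔ N ∣ j) {r : ℕ}
    (hr : r.Prime) (hr2 : r ≠ 2) (hrN : r ∣ N) : (T ^ (2 * (N / r))) ^ r = 1 ∧ T ^ (2 * (N / r)) ≠ 1 := by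
  obtain ⟨k, rfl⟩ := hrN
  rw [Nat.mul_div_cancel_left _ hr.pos]
  have hk : 0 < k := Nat.pos_of_mul_pos_left hN |> fun _ => Nat.pos_of_ne_zero (by rintro rfl; omega)
  constructor
  · rw [← pow_mul, show 2 * k * r = (r * k) * 2 by ring, pow_mul]
    rcases (hT (r * k)).2 dvd_rfl with h | h <;> rw [h]
    · exact one_pow 2
    · exact neg_one_sq
  · intro h
    have h1 := (hT _).1 (Or.inl h)
    have h2 : r ∣ 2 := Nat.dvd_of_mul_dvd_mul_right hk h1
    exact hr2 ((Nat.prime_dvd_prime_iff_eq hr Nat.prime_two).1 h2)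

/-- `T ^ a = T ^ b = 1` on an invariant set gives `T ^ gcd = 1` -/
theorem fix_gcd {T : Module.End F V} {w : V} {a c : ℕ} (h1 : (T ^ a) w = w) (h2 : (T ^ c) w = w) :
    (T ^ Nat.gcd a c) w = w := by
  induction a, c using Nat.gcd.induction with
  | H0 c => rwa [Nat.gcd_zero_left]
  | H1 a c ha ih =>
    rw [Nat.gcd_rec]
    refine ih ?_ h1
    have h3 : ∀ k : ℕ, (T ^ (a * k)) w = w := by
      intro k
      induction k with
      | zero => simp
      | succ k ih => rw [mul_add, mul_one, pow_add, Module.End.mul_apply, h1, ih]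
    have h4 : (T ^ c) w = (T ^ (c % a)) ((T ^ (a * (c / a))) w) := by
      rw [← Module.End.mul_apply, ← pow_add, Nat.mod_add_div]
    rw [h3] at h4
    rw [← h4]
    exact h2

theorem fix_dvd {T : Module.End F V} {w : V} {a c : ℕ} (h1 : (T ^ a) w = w) (h : a ∣ c) : (T ^ c) w = w := by
  obtain ⟨k, rfl⟩ := h
  induction k with
  | zero => simp
  | succ k ih => rw [mul_add, mul_one, pow_add, Module.End.mul_apply, h1, ih]

end cls

end Cfsg.Agent.H403.S88
end

-- part: H403/S88/LSideB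
section
/-!
# S3588: orders of elements of `PSp_2n(q)`, `q` odd (helper403)

`y` a power of `T` of prime order `r`, class `d`, `dim R y = 2 d`, `dim K y = 2 (n - d)`.
-/

set_option autoImplicit false
set_option linter.unusedSectionVars false

namespace Cfsg.Agent.H403.S88

open Module Cfsg Matrix
open Cfsg.Agent.H200.LinFix

section lin

variable {F V : Type*} [Field F] [Finite F] [AddCommGroup V] [Module F V] [Finite V] {b : LinearMap.BilinForm F V}

/-- a nontrivial map of order `p` on a plane: its centralizer -/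
theorem plane {p : ℕ} [Fact p.Prime] [CharP F p] {W : Submodule F V} (hW : finrank F W = 2)
    (hWb : ∀ v ∈ W, (∀ u ∈ W, b u v = 0) → v = 0) {u T : Module.End F V} (hu : ∀ w ∈ W, u w ∈ W)
    (hT : ∀ w ∈ W, T w ∈ W) (hTb : Isom b T) (hcomm : ∀ w ∈ W, T (u w) = u (T w)) (hup : ∀ w ∈ W, (u ^ p) w = w)
    (hu1 : ∃ w ∈ W, u w ≠ w) : ∀ w ∈ W, (T ^ (2 * p)) w = w := by
  have hp : p.Prime := Fact.out
  have hfd : FiniteDimensional F V := inferInstance
  -- the restrictions
  let u' : Module.End F W := u.restrict hu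
  let T' : Module.End F W := T.restrict hT
  have hu'c : ∀ w : W, ((u' w : W) : V) = u w := fun w => rfl
  have hT'c : ∀ w : W, ((T' w : W) : V) = T w := fun w => rfl
  have hcomm' : Commute T' u' := LinearMap.ext fun w => Subtype.ext (hcomm w w.2)
  have hpow : ∀ (f : Module.End F V) (hf : ∀ w ∈ W, f w ∈ W) (k : ℕ) (w : W), ((((f.restrict hf) ^ k) w : W) : V) = (f ^ k) w := by
    intro f hf k
    induction k with
    | zero => intro w; rfl
    | succ k ih =>
      intro w
      rw [pow_succ, pow_succ, Module.End.mul_apply, Module.End.mul_apply, ih]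
      rfl
  have hu'p : u' ^ p = 1 := LinearMap.ext fun w => Subtype.ext (by rw [hpow]; exact hup w w.2)
  set ν : Module.End F W := u' - 1 with hν
  have hWnt : Nontrivial W := Module.nontrivial_of_finrank_pos (R := F) (by omega)
  have hEnt : Nontrivial (Module.End F W) := Module.End.instNontrivial
  have hchar : CharP (Module.End F W) p := charP_of_injective_algebraMap (algebraMap F (Module.End F W)).injective p
  have hνp : ν ^ p = 0 := by
    have hc : Commute u' (1 : Module.End F W) := Commute.one_right u'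
    rw [hν, sub_pow_char_of_commute p hc, hu'p, one_pow, sub_self]
  have hν2 : ν ^ 2 = 0 := by
    have h1 : ν ^ finrank F W = 0 := H390.pow_finrank_eq_zero ⟨p, hνp⟩
    rwa [hW] at h1
  have hν0 : ν ≠ 0 := by
    intro h
    obtain ⟨w, hw, hw1⟩ := hu1
    apply hw1
    have h1 := LinearMap.congr_fun h ⟨w, hw⟩
    have h2 := congrArg Subtype.val h1
    have h3 : u w - w = 0 := h2
    exact sub_eq_zero.1 h3
  obtain ⟨f, hf⟩ : ∃ f, ν f ≠ 0 := by
    by_contra hcon
    push Not at hcon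
    exact hν0 (LinearMap.ext hcon)
  have hνT : Commute T' ν := by
    rw [hν]
    exact hcomm'.sub_right (Commute.one_right T')
  have hνν : ν (ν f) = 0 := by
    have := LinearMap.congr_fun hν2 f
    rwa [pow_two, Module.End.mul_apply] at this
  -- `f`, `ν f` is a basis
  have hli : LinearIndependent F ![f, ν f] := by
    rw [LinearIndependent.pair_iff]
    intro s t h
    have h1 := congrArg ν h
    rw [map_add, map_smul, map_smul, hνν, smul_zero, add_zero, map_zero] at h1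
    have hs : s = 0 := (smul_eq_zero.1 h1).resolve_right hf
    rw [hs, zero_smul, zero_add] at h
    exact ⟨hs, (smul_eq_zero.1 h).resolve_right hf⟩
  have hspan : ∀ w : W, ∃ s t : F, w = s • f + t • ν f := by
    have h1 : Submodule.span F (Set.range ![f, ν f]) = ⊤ := by
      apply hli.span_eq_top_of_card_eq_finrank'
      rw [hW]
      rfl
    intro w
    have h2 : w ∈ Submodule.span F (Set.range ![f, ν f]) := by rw [h1]; exact Submodule.mem_top
    rw [Matrix.range_cons, Matrix.range_cons, Matrix.range_empty, Set.union_empty, Set.singleton_union,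
      Submodule.mem_span_pair] at h2
    obtain ⟨s, t, h3⟩ := h2
    exact ⟨s, t, h3.symm⟩
  obtain ⟨α, β, hα⟩ := hspan (T' f)
  have hTν : T' (ν f) = ν (T' f) := LinearMap.congr_fun hνT f
  have hTeq : T' = α • (1 : Module.End F W) + β • ν := by
    apply LinearMap.ext
    intro w
    obtain ⟨s, t, rfl⟩ := hspan w
    rw [map_add, map_smul, map_smul, hTν, hα]
    simp only [map_add, map_smul, LinearMap.add_apply, LinearMap.smul_apply, Module.End.one_apply, hνν, smul_zero,
      add_zero, smul_add, smul_smul, mul_comm]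
  have hTp : T' ^ p = (α ^ p) • (1 : Module.End F W) := by
    have hc : Commute (α • (1 : Module.End F W)) (β • ν) := by
      refine LinearMap.ext fun w => ?_
      simp only [Module.End.mul_apply, LinearMap.smul_apply, Module.End.one_apply, map_smul, smul_smul, mul_comm]
    rw [hTeq, add_pow_char_of_commute p hc, smul_pow, smul_pow, one_pow, hνp, smul_zero, add_zero]
  -- the scalar
  have hTpb : Isom b (T ^ p) := Isom.pow hTb p
  have hsc : α ^ p * α ^ p = 1 := by
    have h1 : ∀ w ∈ W, (T ^ p) w = (α ^ p) • w := by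
      intro w hw
      have h2 := congrArg Subtype.val (LinearMap.congr_fun hTp ⟨w, hw⟩)
      rw [hpow] at h2
      exact h2
    obtain ⟨w, hw, hw0⟩ : ∃ w ∈ W, b w f ≠ 0 := by
      by_contra hcon
      push Not at hcon
      have h3 := hWb f f.2 hcon
      apply hf
      have h4 : f = 0 := Subtype.ext h3
      rw [h4, map_zero]
    have h5 := hTpb w f
    rw [h1 w hw, h1 f f.2] at h5
    simp only [map_smul, LinearMap.smul_apply, smul_eq_mul] at h5
    have h6 : (α ^ p * α ^ p - 1) * b w f = 0 := by linear_combination h5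
    exact sub_eq_zero.1 ((mul_eq_zero.1 h6).resolve_right hw0)
  intro w hw
  have h1 : ∀ w ∈ W, (T ^ p) w = (α ^ p) • w := by
    intro w hw
    have h2 := congrArg Subtype.val (LinearMap.congr_fun hTp ⟨w, hw⟩)
    rw [hpow] at h2
    exact h2
  rw [two_mul, pow_add, Module.End.mul_apply, h1 w hw, map_smul, h1 w hw, smul_smul, hsc, one_smul]

theorem comm_pow (T : Module.End F V) (i k : ℕ) : T ^ i * T ^ k = T ^ k * T ^ i := by
  rw [← pow_add, ← pow_add, add_comm]

/-- the space is the sum -/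
theorem eq_one_of_KR {r : ℕ} {y S : Module.End F V} (hy : y ^ r = 1) (hr : (r : F) ≠ 0)
    (hK : ∀ w ∈ K y, S w = w) (hR : ∀ w ∈ R y, S w = w) : S = 1 := by
  refine LinearMap.ext fun v => ?_
  have hfd : FiniteDimensional F V := inferInstance
  obtain ⟨k, hk, r, hr, rfl⟩ := decomp hy hr v
  rw [map_add, hK k hk, hR r hr]
  rfl

variable {N r d E : ℕ} {T : Module.End F V}

theorem fix_coprime {T : Module.End F V} {w : V} {a c : ℕ} (h : Nat.Coprime a c) (h1 : (T ^ a) w = w)
    (h2 : (T ^ c) w = w) : T w = w := by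
  have h3 := fix_gcd h1 h2
  rwa [h, pow_one] at h3

/-- the data of an element of order divisible by `r` -/
structure Dec (b : LinearMap.BilinForm F V) (T : Module.End F V) (N r d E : ℕ) (y : Module.End F V) : Prop where
  hy : y ^ r = 1
  hy1 : y ≠ 1
  hyb : Isom b y
  fr : finrank F (R y) = 2 * d
  tor : ∀ k : ℕ, ∀ w ∈ R y, ((T ^ k) ^ E) w = w
  invR : ∀ k : ℕ, ∀ w ∈ R y, (T ^ k) w ∈ R y
  invK : ∀ k : ℕ, ∀ w ∈ K y, (T ^ k) w ∈ K y

theorem exists_dec (hb : ∀ v, (∀ u, b u v = 0) → v = 0) (hTb : Isom b T) (hN : 0 < N)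
    (hT : ∀ j : ℕ, (T ^ j = 1 ∨ T ^ j = -1) ↔ N ∣ j) (hc : Cls (Nat.card F) r d E) (hrN : r ∣ N)
    (hle : finrank F V < 4 * d) (hle' : E = Nat.card F ^ d - 1 → finrank F V < 3 * d) :
    Dec b T N r d E (T ^ (2 * (N / r))) := by
  have hfd : FiniteDimensional F V := inferInstance
  obtain ⟨hy, hy1⟩ := prime_part hN hT hc.hr hc.hr2 hrN
  have hyb : Isom b (T ^ (2 * (N / r))) := Isom.pow hTb _
  have hR : finrank F (R (T ^ (2 * (N / r)))) ≤ finrank F V := Submodule.finrank_le _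
  have hfr := hc.finrank_R hy hy1 hyb hb (by omega) (fun h => by have := hle' h; omega)
  exact ⟨hy, hy1, hyb, hfr, fun k => hc.tor hy hyb hb hfr (Isom.pow hTb k) (comm_pow T _ _),
    fun k w hw => R_inv (comm_pow T _ _) hw, fun k w hw => K_inv (comm_pow T _ _) hw⟩

/-- **`c = 1`: orders divisible by `p r`.** -/
theorem dvd_pE {p : ℕ} [Fact p.Prime] [CharP F p] (hp2 : p ≠ 2) (hb : ∀ v, (∀ u, b u v = 0) → v = 0)
    (hTb : Isom b T) (hN : 0 < N) (hT : ∀ j : ℕ, (T ^ j = 1 ∨ T ^ j = -1) ↔ N ∣ j) {n : ℕ} (hn : 4 ≤ n)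
    (hV : finrank F V = 2 * n) (hc : Cls (Nat.card F) r (n - 1) E) (hE2 : 2 ∣ E) (hEp : ¬ p ∣ E)
    (hrN : r ∣ N) (hpN : p ∣ N) : N ∣ p * E := by
  have hp : p.Prime := Fact.out
  have hfd : FiniteDimensional F V := inferInstance
  have D := exists_dec hb hTb hN hT hc hrN (by rw [hV]; omega) (fun _ => by rw [hV]; omega)
  set y := T ^ (2 * (N / r)) with hydef
  obtain ⟨hu, hu1⟩ := prime_part hN hT hp hp2 hpN
  set u := T ^ (2 * (N / p)) with hudef
  have huR : ∀ w ∈ R y, u w = w := fun w hw =>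
    fix_coprime ((Nat.Prime.coprime_iff_not_dvd hp).2 hEp) (by rw [hu]; rfl) (D.tor _ w hw)
  have hK2 : finrank F (K y) = 2 := by
    have := finrank_add y
    rw [D.fr, hV] at this
    omega
  have huK : ∃ w ∈ K y, u w ≠ w := by
    by_contra hcon
    push Not at hcon
    exact hu1 (eq_one_of_KR D.hy hc.ne hcon huR)
  have hpl := plane (b := b) (p := p) (W := K y) hK2 (fun v hv h => nondeg_K D.hyb hb D.hy hc.ne hv h) (u := u) (T := T)
    (D.invK _) (fun w hw => by have := D.invK 1 w hw; rwa [pow_one] at this) hTb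
    (fun w _ => by
      have := LinearMap.congr_fun (comm_pow T 1 (2 * (N / p))) w
      rwa [pow_one] at this)
    (fun w _ => by rw [hu]; rfl) huK
  apply (hT _).1
  left
  refine eq_one_of_KR D.hy hc.ne (fun w hw => fix_dvd (hpl w hw) ?_) (fun w hw => ?_)
  · rw [mul_comm 2 p]
    exact Nat.mul_dvd_mul_left p hE2
  · have h1 := D.tor 1 w hw
    rw [pow_one] at h1
    exact fix_dvd h1 (Nat.dvd_mul_left _ _)

/-- **No elements of order `p t r`.** -/
theorem no_ptr {p : ℕ} [Fact p.Prime] [CharP F p] (hp2 : p ≠ 2) (hb : ∀ v, (∀ u, b u v = 0) → v = 0)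
    (hTb : Isom b T) (hN : 0 < N) (hT : ∀ j : ℕ, (T ^ j = 1 ∨ T ^ j = -1) ↔ N ∣ j) {c t E' : ℕ}
    (hcd : c < d) (hV : finrank F V = 2 * (c + d)) (hc : Cls (Nat.card F) r d E) (hdo : E = Nat.card F ^ d - 1 → 2 * c < d)
    (hc' : Cls (Nat.card F) t c E') (hEp : ¬ p ∣ E) (hEp' : ¬ p ∣ E') (htE : ¬ t ∣ E) (hrN : r ∣ N) (hpN : p ∣ N)
    (htN : t ∣ N) : False := by
  have hp : p.Prime := Fact.out
  have hfd : FiniteDimensional F V := inferInstance
  have D := exists_dec hb hTb hN hT hc hrN (by rw [hV]; omega) (fun h => by rw [hV]; have := hdo h; omega)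
  set y := T ^ (2 * (N / r)) with hydef
  obtain ⟨hu, hu1⟩ := prime_part hN hT hp hp2 hpN
  set u := T ^ (2 * (N / p)) with hudef
  obtain ⟨hx, hx1⟩ := prime_part hN hT hc'.hr hc'.hr2 htN
  set x := T ^ (2 * (N / t)) with hxdef
  have huR : ∀ w ∈ R y, u w = w := fun w hw =>
    fix_coprime ((Nat.Prime.coprime_iff_not_dvd hp).2 hEp) (by rw [hu]; rfl) (D.tor _ w hw)
  have hxR : ∀ w ∈ R y, x w = w := fun w hw =>
    fix_coprime ((Nat.Prime.coprime_iff_not_dvd hc'.hr).2 htE) (by rw [hx]; rfl) (D.tor _ w hw)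
  have hKc : finrank F (K y) = 2 * c := by
    have := finrank_add y
    rw [D.fr, hV] at this
    omega
  have hRK : R x ≤ K y := by
    rintro _ ⟨v, rfl⟩
    obtain ⟨k, hk, r, hr, rfl⟩ := decomp D.hy hc.ne v
    have h1 : (x - 1) (k + r) = x k - k := by
      rw [map_add, LinearMap.sub_apply, LinearMap.sub_apply, Module.End.one_apply, Module.End.one_apply, hxR r hr,
        sub_self, add_zero]
    rw [h1]
    exact (K y).sub_mem (D.invK _ k hk) hk
  have hle : finrank F (R x) ≤ 2 * c := by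
    rw [← hKc]
    exact Submodule.finrank_mono hRK
  have hc1 := hc'.hd
  have hxb : Isom b x := Isom.pow hTb _
  have hfx := hc'.finrank_R hx hx1 hxb hb (by omega) (fun _ => by omega)
  have hRKe : R x = K y := Submodule.eq_of_le_of_finrank_eq hRK (by rw [hfx, hKc])
  have huK : ∀ w ∈ K y, u w = w := fun w hw => by
    rw [← hRKe] at hw
    exact fix_coprime ((Nat.Prime.coprime_iff_not_dvd hp).2 hEp') (by rw [hu]; rfl)
      (hc'.tor hx hxb hb hfx (s := u) (Isom.pow hTb _) (comm_pow T _ _) w hw)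
  exact hu1 (eq_one_of_KR D.hy hc.ne huK huR)

end lin

section two

/-- the 2-part of `E` -/
theorem two_part {q d E j a : ℕ} (hq : Odd q) (hq1 : 1 < q) (hj : 1 ≤ j) (ha : 2 ^ a ∣ q ^ 2 ^ j - 1)
    (ha' : ¬ 2 ^ (a + 1) ∣ q ^ 2 ^ j - 1) (hE : E = q ^ d + 1 ∨ (Odd d ∧ E = q ^ d - 1)) : ¬ 2 ^ a ∣ E := by
  have h1q : ∀ k, 1 ≤ q ^ k := fun k => Nat.one_le_pow _ _ (by omega)
  have hsq : q ^ 2 - 1 ∣ q ^ 2 ^ j - 1 := by
    have h1 : q ^ 2 ^ j = (q ^ 2) ^ 2 ^ (j - 1) := by
      rw [← pow_mul, ← pow_succ']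
      congr 2
      omega
    rw [h1]
    have := Nat.sub_dvd_pow_sub_pow (q ^ 2) 1 (2 ^ (j - 1))
    rwa [one_pow] at this
  have hfac : q ^ 2 - 1 = (q + 1) * (q - 1) := by
    have := Nat.sq_sub_sq q 1
    rwa [one_pow] at this
  -- neither `q + 1` nor `q - 1`
  have hne : ¬ 2 ^ a ∣ q + 1 ∧ ¬ 2 ^ a ∣ q - 1 := by
    obtain ⟨k, hk⟩ := hq
    constructor
    · intro h
      apply ha'
      refine Dvd.dvd.trans ?_ hsq
      rw [hfac, pow_succ]
      exact Nat.mul_dvd_mul h ⟨k, by omega⟩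
    · intro h
      apply ha'
      refine Dvd.dvd.trans ?_ hsq
      rw [hfac, pow_succ, mul_comm (2 ^ a) 2]
      exact Nat.mul_dvd_mul ⟨k + 1, by omega⟩ h
  have hcast : ∀ k : ℕ, ((q ^ k - 1 : ℕ) : ZMod (2 ^ a)) = (q : ZMod (2 ^ a)) ^ k - 1 := by
    intro k
    rw [Nat.cast_sub (h1q k)]
    push_cast
    rfl
  have h2j : (q : ZMod (2 ^ a)) ^ 2 ^ j = 1 := by
    have := (ZMod.natCast_eq_zero_iff _ _).2 ha
    rw [hcast] at this
    exact sub_eq_zero.1 this
  intro hEa
  rcases hE with rfl | ⟨hdo, rfl⟩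
  · rcases Nat.even_or_odd d with hde | hdo
    · -- `d` even
      obtain ⟨m, rfl⟩ := hde
      have h4 : q ^ (m + m) % 4 = 1 := by
        have h5 : q ^ (m + m) = (q ^ m) * (q ^ m) := by rw [pow_add]
        have h6 : Odd (q ^ m) := hq.pow
        obtain ⟨k, hk⟩ := h6
        rw [h5, hk]
        have : (2 * k + 1) * (2 * k + 1) = 4 * (k * k + k) + 1 := by ring
        rw [this]
        omega
      have ha1 : a ≤ 1 := by
        by_contra h
        have h7 : 4 ∣ 2 ^ a := by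
          obtain ⟨c, rfl⟩ : ∃ c, a = 2 + c := ⟨a - 2, by omega⟩
          rw [pow_add]
          exact Dvd.intro _ rfl
        have := h7.trans hEa
        omega
      apply ha'
      refine (pow_dvd_pow 2 (show a + 1 ≤ 3 by omega)).trans (Dvd.dvd.trans ?_ hsq)
      obtain ⟨k, rfl⟩ := hq
      have h8 : (2 * k + 1) ^ 2 - 1 = 4 * (k * (k + 1)) := by
        have : (2 * k + 1) ^ 2 = 4 * (k * (k + 1)) + 1 := by ring
        omega
      rw [h8]
      obtain ⟨c, hc⟩ := Nat.even_mul_succ_self k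
      rw [hc]
      exact ⟨c, by ring⟩
    · -- `d` odd
      apply hne.1
      have h5 : (-(q : ZMod (2 ^ a))) ^ d = 1 := by
        have h6 := (ZMod.natCast_eq_zero_iff _ _).2 hEa
        push_cast at h6
        rw [hdo.neg_pow]
        linear_combination -h6
      have h6 : (-(q : ZMod (2 ^ a))) ^ 2 ^ j = 1 := by
        rw [Even.neg_pow ((Nat.even_pow.2 ⟨even_two, by omega⟩)), h2j]
      have h7 : Nat.gcd d (2 ^ j) = 1 := Nat.Coprime.pow_right j (Nat.coprime_two_right.2 hdo)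
      have h8 := Nat.dvd_gcd (orderOf_dvd_of_pow_eq_one h5) (orderOf_dvd_of_pow_eq_one h6)
      rw [h7, Nat.dvd_one, orderOf_eq_one_iff] at h8
      rw [← ZMod.natCast_eq_zero_iff]
      push_cast
      linear_combination -h8
  · apply hne.2
    have h5 : (q : ZMod (2 ^ a)) ^ d = 1 := by
      have h6 := (ZMod.natCast_eq_zero_iff _ _).2 hEa
      rw [hcast] at h6
      exact sub_eq_zero.1 h6
    have h7 : Nat.gcd d (2 ^ j) = 1 := Nat.Coprime.pow_right j (Nat.coprime_two_right.2 hdo)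
    have h8 := Nat.dvd_gcd (orderOf_dvd_of_pow_eq_one h5) (orderOf_dvd_of_pow_eq_one h2j)
    rw [h7, Nat.dvd_one, orderOf_eq_one_iff] at h8
    rw [← ZMod.natCast_eq_zero_iff, Nat.cast_sub (by omega), h8]
    simp

end two

end Cfsg.Agent.H403.S88
end
end

-- part: H403/S88/K8A
section
prune_inst 0x400104c00414000000000058681001c62ca00042000080000002008020588600000028020b0100400108000054035006000000000404000000e000000011d01a09000000001000004040001000000000000000000000000000000000000000000000000000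
set_option linter.all false
open scoped Cfsg.Agent.FastGrp

-- part: H415/SpTwo
section
/-!
# 2-elements of symplectic groups in odd characteristic (helper415, task 2334 for S3588)

`two_elt`, `no_two`.
-/

set_option autoImplicit false
set_option linter.unusedSectionVars false

namespace Cfsg.Agent.H415.SpTwo

open Module Polynomial Cfsg.Agent.H200.LinFix

/-! ### Numbers -/

theorem sq_sub {q : ℕ} (n : ℕ) : q ^ (2 * n) - 1 = (q ^ n - 1) * (q ^ n + 1) := by
  rcases Nat.eq_zero_or_pos (q ^ n) with h | h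
  · have h0 : q = 0 := by
      by_contra h0
      exact absurd h (pow_ne_zero n h0)
    have hn : n ≠ 0 := by
      rintro rfl
      simp at h
    rw [h, h0, zero_pow (by omega)]
    rfl
  · obtain ⟨k, hk⟩ : ∃ k, q ^ n = k + 1 := ⟨q ^ n - 1, by omega⟩
    rw [two_mul, pow_add, hk]
    have : (k + 1) * (k + 1) = k * (k + 1 + 1) + 1 := by ring
    rw [this]
    rfl

theorem num2 {q j a : ℕ} (hq : Odd q) (hj : 1 ≤ j) (ha' : ¬ 2 ^ (a + 1) ∣ q ^ 2 ^ j - 1) :
    ¬ 2 ^ a ∣ q ^ 2 ^ (j - 1) + 1 ∧ ¬ 2 ^ a ∣ q ^ 2 ^ (j - 1) - 1 := by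
  have e : q ^ 2 ^ j - 1 = (q ^ 2 ^ (j - 1) - 1) * (q ^ 2 ^ (j - 1) + 1) := by
    rw [← sq_sub, ← pow_succ', Nat.sub_add_cancel hj]
  have ho : Odd (q ^ 2 ^ (j - 1)) := hq.pow
  obtain ⟨k, hk⟩ := ho
  rw [e] at ha'
  constructor
  · intro h
    apply ha'
    rw [pow_succ']
    exact mul_dvd_mul ⟨k, by omega⟩ h
  · intro h
    apply ha'
    rw [pow_succ]
    exact mul_dvd_mul h ⟨k + 1, by omega⟩

theorem num1 {q j a : ℕ} (hq : Odd q) (hj : 1 ≤ j) (ha : 2 ^ a ∣ q ^ 2 ^ j - 1) (ha' : ¬ 2 ^ (a + 1) ∣ q ^ 2 ^ j - 1)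
    (d : ℕ) (hd : 2 ^ a ∣ q ^ d - 1) : 2 ^ j ∣ d := by
  have key : ∀ n, ((q : ZMod (2 ^ a)) ^ n = 1 ↔ 2 ^ a ∣ q ^ n - 1) := by
    intro n
    have h1 : 1 ≤ q ^ n := Nat.one_le_iff_ne_zero.2 (pow_ne_zero n (by rintro rfl; exact absurd hq (by decide)))
    rw [← Nat.cast_pow, ← Nat.cast_one, ZMod.natCast_eq_natCast_iff, Nat.ModEq.comm]
    exact Nat.modEq_iff_dvd' h1
  have h1 : orderOf (q : ZMod (2 ^ a)) = 2 ^ (j - 1 + 1) := by
    refine orderOf_eq_prime_pow ?_ ?_
    · rw [key]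
      exact (num2 hq hj ha').2
    · rw [key, Nat.sub_add_cancel hj]
      exact ha
  rw [Nat.sub_add_cancel hj] at h1
  rw [← h1]
  exact orderOf_dvd_of_pow_eq_one ((key d).2 hd)

theorem num3 {q j a : ℕ} (hq : Odd q) (hj : 1 ≤ j) (ha' : ¬ 2 ^ (a + 1) ∣ q ^ 2 ^ j - 1) : 2 ≤ a := by
  by_contra h
  apply ha'
  have h8 : 4 ∣ q ^ 2 ^ j - 1 := by
    have e : q ^ 2 ^ j - 1 = (q ^ 2 ^ (j - 1) - 1) * (q ^ 2 ^ (j - 1) + 1) := by
      rw [← sq_sub, ← pow_succ', Nat.sub_add_cancel hj]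
    have ho : Odd (q ^ 2 ^ (j - 1)) := hq.pow
    obtain ⟨k, hk⟩ := ho
    rw [e, hk, show 2 * k + 1 - 1 = 2 * k by omega, show 2 * k + 1 + 1 = 2 * (k + 1) by omega]
    exact ⟨k * (k + 1), by ring⟩
  refine dvd_trans ?_ h8
  exact pow_dvd_pow 2 (show a + 1 ≤ 2 by omega)

/-! ### The core -/

variable {F V : Type*} [Field F] [Fintype F] [AddCommGroup V] [Module F V] [FiniteDimensional F V]

theorem isom_pow {b : LinearMap.BilinForm F V} {g : Module.End F V} (hg : ∀ u v, b (g u) (g v) = b u v) (n : ℕ)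
    (u v : V) : b ((g ^ n) u) ((g ^ n) v) = b u v := by
  induction n generalizing u v with
  | zero => rfl
  | succ n ih => rw [pow_succ', Module.End.mul_apply, Module.End.mul_apply, hg, ih]

theorem odd_card (h2 : (2 : F) ≠ 0) : Odd (Fintype.card F) := by
  rw [Nat.odd_iff]
  apply FiniteField.odd_card_of_char_ne_two
  intro h
  apply h2
  have := CharP.cast_eq_zero F (ringChar F)
  rwa [h] at this

theorem exists_min [Nontrivial V] (g : Module.End F V) :
    ∃ W : Submodule F V, W ≠ ⊥ ∧ (∀ w ∈ W, g w ∈ W) ∧ Irr g W := by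
  let S : Set (Submodule F V) := {W | W ≠ ⊥ ∧ ∀ w ∈ W, g w ∈ W}
  have hS : S.Nonempty := ⟨⊤, top_ne_bot, fun w _ => Submodule.mem_top⟩
  obtain ⟨W, hW, hmin⟩ := WellFounded.has_min (wellFounded_lt (α := Submodule F V)) S hS
  refine ⟨W, hW.1, hW.2, fun U hU hgU => ?_⟩
  by_cases h0 : U = ⊥
  · exact Or.inl h0
  · right
    by_contra h1
    exact hmin U ⟨h0, hgU⟩ (lt_of_le_of_ne hU h1)

/-- totally isotropic subspaces -/
theorem iso_le {b : LinearMap.BilinForm F V} (hb : ∀ v, (∀ u, b u v = 0) → v = 0) {W : Submodule F V}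
    (h : ∀ v ∈ W, ∀ u ∈ W, b u v = 0) : 2 * finrank F W ≤ finrank F V := by
  let ψ : W →ₗ[F] Dual F (V ⧸ W) :=
    { toFun := fun w => W.liftQ (b.flip (w : V)) (fun u hu => by
        rw [LinearMap.mem_ker]
        exact h w w.2 u hu)
      map_add' := fun w w' => by
        apply W.linearMap_qext
        ext v
        simp only [_root_.Submodule.coe_add, _root_.map_add, _root_.Submodule.liftQ_mkQ, _root_.LinearMap.add_apply, _root_.LinearMap.BilinForm.flip_apply, _root_.LinearMap.coe_comp, _root_.Function.comp_apply, _root_.Submodule.mkQ_apply, _root_.Submodule.liftQ_apply]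
      map_smul' := fun c w => by
        apply W.linearMap_qext
        ext v
        simp only [_root_.SetLike.val_smul, _root_.map_smul, _root_.Submodule.liftQ_mkQ, _root_.LinearMap.smul_apply, _root_.LinearMap.BilinForm.flip_apply, _root_.smul_eq_mul, _root_.RingHom.id_apply, _root_.LinearMap.coe_comp, _root_.LinearMap.coe_smul, _root_.Function.comp_apply, _root_.Submodule.mkQ_apply, _root_.Pi.smul_apply, _root_.Submodule.liftQ_apply] }
  have hψ : Function.Injective ψ := by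
    rw [injective_iff_map_eq_zero]
    intro w hw
    apply Subtype.ext
    apply hb
    intro u
    have h1 := LinearMap.congr_fun hw (W.mkQ u)
    exact h1
  have h1 := LinearMap.finrank_le_finrank_of_injective hψ
  rw [Subspace.dual_finrank_eq] at h1
  have h2 := W.finrank_quotient_add_finrank
  omega

theorem core (h2 : (2 : F) ≠ 0) [Nontrivial V] (b : LinearMap.BilinForm F V) (hb : ∀ v, (∀ u, b u v = 0) → v = 0)
    (g : Module.End F V) (hg : ∀ u v, b (g u) (g v) = b u v) {j a : ℕ} (hj : 1 ≤ j)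
    (ha : 2 ^ a ∣ Fintype.card F ^ 2 ^ j - 1) (ha' : ¬ 2 ^ (a + 1) ∣ Fintype.card F ^ 2 ^ j - 1)
    (h3 : ∀ v, (g ^ 2 ^ (a - 1)) v = - v) : 2 * 2 ^ j ≤ finrank F V := by
  have hq := odd_card h2
  have ha2 := num3 hq hj ha'
  have hfinV : Finite V := Module.finite_of_finite F
  obtain ⟨W, hW, hgW, hirr⟩ := exists_min g
  have hn : Nontrivial W := Submodule.nontrivial_iff_ne_bot.2 hW
  set! g' : Module.End F W := g.restrict hgW with hg'
  have hpow : ∀ (n : ℕ) (w : W), (((g' ^ n) w : W) : V) = (g ^ n) w := by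
    intro n
    induction n with
    | zero => intro w; rfl
    | succ n ih =>
      intro w
      rw [pow_succ, pow_succ, Module.End.mul_apply, Module.End.mul_apply, ih]
      rfl
  have hirr' := hirr.restrict hgW
  have hneg : g' ^ 2 ^ (a - 1) = -1 := by
    refine LinearMap.ext fun w => Subtype.ext ?_
    rw [hpow, h3]
    rfl
  have hone : g' ^ 2 ^ (a - 1 + 1) = 1 := by
    rw [pow_succ, pow_mul, hneg, pow_two]
    exact LinearMap.ext fun v => neg_neg v
  have hne : ¬ g' ^ 2 ^ (a - 1) = 1 := by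
    rw [hneg]
    intro h
    obtain ⟨w, hw⟩ := exists_ne (0 : W)
    apply hw
    have h4 := LinearMap.congr_fun h w
    change - w = w at h4
    have h5 : (2 : F) • w = 0 := by
      rw [two_smul]
      nth_rewrite 1 [← h4]
      exact neg_add_cancel w
    rcases smul_eq_zero.1 h5 with h6 | h6
    · exact absurd h6 h2
    · exact h6
  have hord : orderOf g' = 2 ^ a := by
    have := orderOf_eq_prime_pow hne hone
    rwa [Nat.sub_add_cancel (by omega : 1 ≤ a)] at this
  have h0 : g' ≠ 0 := by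
    intro h
    rw [h, zero_pow (by positivity)] at hone
    exact absurd hone (by simp)
  have hcard : Nat.card W = Fintype.card F ^ finrank F W := by
    rw [Module.natCard_eq_pow_finrank (K := F), Nat.card_eq_fintype_card]
  have hd : 2 ^ j ∣ finrank F W := by
    apply num1 hq hj ha ha'
    rw [← hcard, ← hord]
    exact orderOf_dvd_of_pow_eq_one (pow_card_sub_one hirr' rfl h0)
  have hd0 : 0 < finrank F W := finrank_pos
  have hle : finrank F W ≤ finrank F V := Submodule.finrank_le W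
  -- the radical
  let U : Submodule F W :=
    { carrier := {v | ∀ u : W, b u v = 0}
      add_mem' := fun {x y} hx hy u => by
        rw [Submodule.coe_add, map_add, hx u, hy u, add_zero]
      zero_mem' := fun u => by rw [Submodule.coe_zero, map_zero]
      smul_mem' := fun c v hv u => by rw [Submodule.coe_smul, map_smul, hv u, smul_zero] }
  have hU : ∀ u ∈ U, g' u ∈ U := by
    intro v hv u
    have h1 : u = g' ((g' ^ (2 ^ a - 1)) u) := by
      rw [← Module.End.mul_apply, ← pow_succ', Nat.sub_add_cancel Nat.one_le_two_pow, ← hord, pow_orderOf_eq_one]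
      rfl
    rw [h1]
    change b (g _) (g v) = 0
    rw [hg]
    exact hv _
  rcases hirr' U hU with h | h
  · -- nondegenerate
    obtain ⟨m, hm, hun⟩ := _root_.Cfsg.Agent.H200.LinFix.unitary hirr' (b.restrict W) (fun u v => hg u v) (fun v hv => by
        have h1 : v ∈ U := hv
        rw [h] at h1
        exact h1) (l := 2 ^ a - 1) (by rw [Nat.sub_add_cancel Nat.one_le_two_pow, ← hord, pow_orderOf_eq_one]) (by
        intro h1
        have h4 := orderOf_dvd_of_pow_eq_one h1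
        rw [hord] at h4
        have h5 := Nat.le_of_dvd (by norm_num) h4
        have h6 : 2 ^ 2 ≤ 2 ^ a := Nat.pow_le_pow_right (by norm_num) ha2
        omega)
    have h1 := orderOf_dvd_of_pow_eq_one (hun g' rfl (fun u v => hg u v))
    rw [hord, Nat.card_eq_fintype_card] at h1
    by_contra hlt
    obtain ⟨c, hc⟩ := hd
    have hc1 : c = 1 := by
      have : 0 < 2 ^ j := Nat.two_pow_pos j
      rcases c with _ | _ | c
      · rw [hc] at hd0; omega
      · rfl
      · exfalso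
        have : 2 ^ j * (c + 1 + 1) = 2 * 2 ^ j + 2 ^ j * c := by ring
        omega
    have hm2 : m = 2 ^ (j - 1) := by
      have : 2 ^ j = 2 * 2 ^ (j - 1) := by rw [← pow_succ', Nat.sub_add_cancel hj]
      rw [hc1, mul_one, hm, this] at hc
      omega
    rw [hm2] at h1
    exact (num2 hq hj ha').1 h1
  · have h4 : 2 * finrank F W ≤ finrank F V := by
      apply iso_le hb
      intro v hv u hu
      have h1 : (⟨v, hv⟩ : W) ∈ U := by rw [h]; trivial
      exact h1 ⟨u, hu⟩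
    have h5 := Nat.le_of_dvd hd0 hd
    omega

/-- the `(-1)`-eigenspace -/
def Vm (t : Module.End F V) : Submodule F V := LinearMap.ker (t + 1)

theorem mem_Vm {t : Module.End F V} {v : V} : v ∈ Vm t ↔ t v = - v := by
  rw [Vm, LinearMap.mem_ker, LinearMap.add_apply, Module.End.one_apply, ← eq_neg_iff_add_eq_zero]

/-- **2-elements of symplectic groups**, refined form. -/
theorem two_elt' (h2 : (2 : F) ≠ 0) (b : LinearMap.BilinForm F V) (hb : ∀ v, (∀ u, b u v = 0) → v = 0)
    (g : Module.End F V) (hg : ∀ u v, b (g u) (g v) = b u v) {j a : ℕ} (hj : 1 ≤ j)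
    (ha : 2 ^ a ∣ Fintype.card F ^ 2 ^ j - 1) (ha' : ¬ 2 ^ (a + 1) ∣ Fintype.card F ^ 2 ^ j - 1)
    (h1 : g ^ 2 ^ a = 1) (h3 : g ^ 2 ^ (a - 1) ≠ 1) : 2 * 2 ^ j ≤ finrank F (Vm (g ^ 2 ^ (a - 1))) := by
  have hq := odd_card h2
  have ha2 := num3 hq hj ha'
  set t := g ^ 2 ^ (a - 1) with ht
  have htt : t * t = 1 := by
    rw [ht, ← pow_add, ← two_mul, ← pow_succ', Nat.sub_add_cancel (by omega), h1]
  have htt' : ∀ v, t (t v) = v := fun v => LinearMap.congr_fun htt v
  have htg : t * g = g * t := by rw [ht, ← pow_succ, ← pow_succ']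
  have hti : ∀ u v, b (t u) (t v) = b u v := isom_pow hg _
  have hgW : ∀ w ∈ Vm t, g w ∈ Vm t := by
    intro w hw
    rw [mem_Vm] at hw ⊢
    have h4 : t (g w) = g (t w) := LinearMap.congr_fun htg w
    rw [h4, hw, map_neg]
  have hn : Nontrivial (Vm t) := by
    rw [Submodule.nontrivial_iff_ne_bot, Submodule.ne_bot_iff]
    by_contra hc
    push Not at hc
    apply h3
    refine LinearMap.ext fun v => ?_
    have h4 := hc (t v - v) (by rw [mem_Vm, map_sub, htt', neg_sub])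
    exact sub_eq_zero.1 h4
  set! g' : Module.End F (Vm t) := g.restrict hgW with hg'
  have hpow : ∀ (n : ℕ) (w : Vm t), (((g' ^ n) w : Vm t) : V) = (g ^ n) w := by
    intro n
    induction n with
    | zero => intro w; rfl
    | succ n ih =>
      intro w
      rw [pow_succ, pow_succ, Module.End.mul_apply, Module.End.mul_apply, ih]
      rfl
  refine core h2 (b.restrict (Vm t)) ?_ g' (fun u v => hg u v) hj ha ha' ?_
  · intro v hv
    apply Subtype.ext
    apply hb
    intro u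
    have h5 : b (t u - u) v = 0 := hv ⟨t u - u, by rw [mem_Vm, map_sub, htt', neg_sub]⟩
    have h6 : b (t u + u) v = 0 := by
      have h7 := hti (t u + u) v
      rw [mem_Vm.1 v.2, map_add, htt', add_comm u, map_neg] at h7
      have h8 : (2 : F) * b (t u + u) v = 0 := by
        rw [two_mul]
        nth_rewrite 1 [← h7]
        exact neg_add_cancel _
      rcases mul_eq_zero.1 h8 with h9 | h9
      · exact absurd h9 h2
      · exact h9
    rw [map_sub, LinearMap.sub_apply] at h5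
    rw [map_add, LinearMap.add_apply] at h6
    have h8 : (2 : F) * b u v = 0 := by linear_combination h6 - h5
    rcases mul_eq_zero.1 h8 with h9 | h9
    · exact absurd h9 h2
    · exact h9
  · intro v
    apply Subtype.ext
    rw [hpow]
    exact mem_Vm.1 v.2

/-! ### `PSp` -/

theorem num4 {q k a : ℕ} (hq : Odd q) (hk : 1 ≤ k) (ha : 2 ^ a ∣ q ^ 2 ^ k - 1) (ha' : ¬ 2 ^ (a + 1) ∣ q ^ 2 ^ k - 1) :
    2 ^ (a + 1) ∣ q ^ 2 ^ (k + 1) - 1 ∧ ¬ 2 ^ (a + 1 + 1) ∣ q ^ 2 ^ (k + 1) - 1 := by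
  have e : q ^ 2 ^ (k + 1) - 1 = (q ^ 2 ^ k - 1) * (q ^ 2 ^ k + 1) := by
    rw [← sq_sub, ← pow_succ']
  obtain ⟨m, hm⟩ : ∃ m, q ^ 2 ^ k = 4 * m + 1 := by
    have e' : q ^ 2 ^ k = (q ^ 2 ^ (k - 1)) ^ 2 := by
      rw [← pow_mul, ← pow_succ, Nat.sub_add_cancel hk]
    have ho : Odd (q ^ 2 ^ (k - 1)) := hq.pow
    obtain ⟨r, hr⟩ := ho
    exact ⟨r * (r + 1), by rw [e', hr]; ring⟩
  rw [e]
  constructor
  · rw [pow_succ]
    exact mul_dvd_mul ha ⟨2 * m + 1, by omega⟩
  · intro h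
    apply ha'
    have h1 : q ^ 2 ^ k + 1 = 2 * (2 * m + 1) := by omega
    rw [h1, pow_succ, ← mul_assoc, mul_right_comm] at h
    have h2 := Nat.dvd_of_mul_dvd_mul_right (by norm_num) h
    refine Nat.Coprime.dvd_of_dvd_mul_right ?_ h2
    apply Nat.Coprime.pow_left
    rw [Nat.coprime_two_left]
    exact ⟨m, rfl⟩

open Cfsg.Agent.S0765 Cfsg.Agent.LieClassical.SympCenter in
theorem no_two {F : Type*} [Field F] [Fintype F] (h2 : (2 : F) ≠ 0) {n j a : ℕ} (_hj : 1 ≤ j) (hn : 1 ≤ n)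
    (hnm : n ≤ 2 * 2 ^ j) (ha : 2 ^ a ∣ Fintype.card F ^ 2 ^ (j + 1) - 1)
    (ha' : ¬ 2 ^ (a + 1) ∣ Fintype.card F ^ 2 ^ (j + 1) - 1) (x : Cfsg.PSp n F) : orderOf x ≠ 2 ^ a := by
  intro hx
  have hq := odd_card h2
  have ha2 := num3 hq (by omega) ha'
  obtain ⟨A, rfl⟩ := QuotientGroup.mk_surjective x
  let b : LinearMap.BilinForm F (Fin n ⊕ Fin n → F) :=
    LinearMap.mk₂ F (Cfsg.sympForm n F) form_add_left form_smul_left form_add_right form_smul_right
  have hb : ∀ v, (∀ u, b u v = 0) → v = 0 := by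
    intro v hv
    by_contra hv0
    obtain ⟨u, hu⟩ := form_nondeg v hv0
    exact hu (hv u)
  let ρ : Matrix.symplecticGroup (Fin n) F →* Module.End F (Fin n ⊕ Fin n → F) :=
    ((Matrix.toLinAlgEquiv' : Matrix (Fin n ⊕ Fin n) (Fin n ⊕ Fin n) F ≃ₐ[F] _) :
      Matrix (Fin n ⊕ Fin n) (Fin n ⊕ Fin n) F →* _).comp (Matrix.symplecticGroup (Fin n) F).subtype
  have hρ : ∀ (B : Matrix.symplecticGroup (Fin n) F) (v : Fin n ⊕ Fin n → F), ρ B v = (B : Matrix _ _ F).mulVec v :=
    fun B v => rfl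
  have hρi : ∀ B : Matrix.symplecticGroup (Fin n) F, ∀ u v, b (ρ B u) (ρ B v) = b u v :=
    fun B u v => form_mulVec B.1 B.2 u v
  have hscal : ∀ (B : Matrix.symplecticGroup (Fin n) F) (c : F), (∀ v, ρ B v = c • v) →
      B ∈ Subgroup.center (Matrix.symplecticGroup (Fin n) F) := by
    intro B c h
    rw [mem_center_iff]
    refine ⟨c, ?_⟩
    have h1 : Matrix.toLin' B.1 = Matrix.toLin' (c • (1 : Matrix (Fin n ⊕ Fin n) (Fin n ⊕ Fin n) F)) := by
      refine LinearMap.ext fun v => ?_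
      rw [Matrix.toLin'_apply, Matrix.toLin'_apply, Matrix.smul_mulVec, Matrix.one_mulVec]
      exact h v
    exact Matrix.toLin'.injective h1
  have hfr : finrank F (Fin n ⊕ Fin n → F) = 2 * n := by
    rw [Module.finrank_fintype_fun_eq_card, Fintype.card_sum, Fintype.card_fin]
    ring
  have hc : A ^ 2 ^ a ∈ Subgroup.center (Matrix.symplecticGroup (Fin n) F) := by
    rw [← QuotientGroup.eq_one_iff, QuotientGroup.mk_pow, ← hx, pow_orderOf_eq_one]
  have hc' : A ^ 2 ^ (a - 1) ∉ Subgroup.center (Matrix.symplecticGroup (Fin n) F) := by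
    intro h
    rw [← QuotientGroup.eq_one_iff, QuotientGroup.mk_pow] at h
    have h1 := orderOf_dvd_of_pow_eq_one h
    rw [hx] at h1
    have h3 := Nat.le_of_dvd (Nat.two_pow_pos _) h1
    have h4 : 2 ^ a = 2 * 2 ^ (a - 1) := by rw [← pow_succ', Nat.sub_add_cancel (by omega)]
    have := Nat.two_pow_pos (a - 1)
    omega
  obtain ⟨c, hcc⟩ := (mem_center_iff n _).1 hc
  have hc1 : c * c = 1 := sq_eq_one_of_smul_mem hn (hcc ▸ (A ^ 2 ^ a).2)
  have hcv : ∀ v, ρ (A ^ 2 ^ a) v = c • v := by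
    intro v
    rw [hρ, hcc, Matrix.smul_mulVec, Matrix.one_mulVec]
  rcases mul_self_eq_one_iff.1 hc1 with rfl | rfl
  · have h1 : ρ A ^ 2 ^ a = 1 := by
      rw [← map_pow]
      refine LinearMap.ext fun v => ?_
      rw [hcv, one_smul]
      rfl
    have h3 : ρ A ^ 2 ^ (a - 1) ≠ 1 := by
      intro h
      apply hc'
      refine hscal _ 1 fun v => ?_
      rw [map_pow, h, one_smul]
      rfl
    have h4 := two_elt' h2 b hb (ρ A) (hρi A) (by omega) ha ha' h1 h3
    have h5 : Vm (ρ A ^ 2 ^ (a - 1)) < ⊤ := by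
      rw [lt_top_iff_ne_top]
      intro h
      apply hc'
      refine hscal _ (-1) fun v => ?_
      have h6 : v ∈ Vm (ρ A ^ 2 ^ (a - 1)) := by rw [h]; trivial
      rw [map_pow, mem_Vm.1 h6, neg_smul, one_smul]
    have h6 := Submodule.finrank_lt_finrank_of_lt h5
    rw [finrank_top, hfr] at h6
    have : 2 ^ (j + 1) = 2 * 2 ^ j := pow_succ' 2 j
    omega
  · have h1 : ρ A ^ 2 ^ a = -1 := by
      rw [← map_pow]
      refine LinearMap.ext fun v => ?_
      rw [hcv, neg_smul, one_smul]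
      rfl
    have h3 : ρ A ^ 2 ^ (a + 1 - 1) ≠ 1 := by
      rw [Nat.add_sub_cancel, h1]
      intro h
      have h6 := LinearMap.congr_fun h (fun _ => 1)
      have h7 := congrFun h6 (Sum.inl ⟨0, hn⟩)
      change (-1 : F) = 1 at h7
      apply h2
      linear_combination (-1 : F) * h7
    have h4 : ρ A ^ 2 ^ (a + 1) = 1 := by
      rw [pow_succ, pow_mul, h1, pow_two]
      exact LinearMap.ext fun v => neg_neg v
    obtain ⟨h5, h6⟩ := num4 hq (by omega : 1 ≤ j + 1) ha ha'
    have h7 := (two_elt' h2 b hb (ρ A) (hρi A) (by omega) h5 h6 h4 h3).trans (Submodule.finrank_le _)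
    rw [hfr] at h7
    have : 2 ^ (j + 1 + 1) = 4 * 2 ^ j := by ring
    have := Nat.two_pow_pos j
    omega

end Cfsg.Agent.H415.SpTwo
end

-- part: H497/Spec/UnipTor
section
/-!
# Elements of order `p ^ j (q ^ d ± 1)` in `PSp_(2(c+d))(q)`, `q` odd (helper497)

* `exists_unip` : `Sp_(2c)(q)` has an element of order `p ^ j` if `p ^ (j-1) < 2 c`;
* `exists_unip_tor` : the elements of order `p ^ j (q ^ d + 1)` and `p ^ j (q ^ d - 1)`.
-/

set_option autoImplicit false

namespace Cfsg.Agent.H497.Spec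

open Matrix Cfsg.Agent.H376.SpEmb

/-- powers of a graded matrix -/
theorem pow_graded {ι F : Type*} [Fintype ι] [DecidableEq ι] [Field F] (N : Matrix ι ι F) (ρ : ι → ℕ) {m : ℕ}
    (hρ : Function.Injective ρ) (hm : ∀ i, ρ i < m) (hs : ∀ k < m, ∃ i, ρ i = k)
    (h0 : ∀ x y, ρ x ≤ ρ y → N x y = 0) (h1 : ∀ x y, ρ x = ρ y + 1 → N x y ≠ 0) (k : ℕ) :
    (∀ x y, ρ x < ρ y + k → (N ^ k) x y = 0) ∧ (∀ x y, ρ x = ρ y + k → (N ^ k) x y ≠ 0) := by
  induction k with
  | zero =>
    refine ⟨fun x y h => ?_, fun x y h => ?_⟩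
    · rw [pow_zero, Matrix.one_apply_ne]
      rintro rfl
      omega
    · have : x = y := hρ (by omega)
      rw [this, pow_zero, Matrix.one_apply_eq]
      exact one_ne_zero
  | succ k ih =>
    refine ⟨fun x y h => ?_, fun x y h => ?_⟩
    · rw [pow_succ, Matrix.mul_apply]
      refine Finset.sum_eq_zero fun z _ => ?_
      by_cases hz : ρ z ≤ ρ y
      · rw [h0 z y hz, mul_zero]
      · rw [ih.1 x z (by omega), zero_mul]
    · obtain ⟨z, hz⟩ := hs (ρ y + 1) (by have := hm x; omega)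
      rw [pow_succ, Matrix.mul_apply, Finset.sum_eq_single z]
      · exact mul_ne_zero (ih.2 x z (by omega)) (h1 z y hz)
      · intro w _ hw
        by_cases hwy : ρ w ≤ ρ y
        · rw [h0 w y hwy, mul_zero]
        · have : ρ w ≠ ρ z := fun e => hw (hρ e)
          rw [ih.1 x w (by omega), zero_mul]
      · intro h
        exact absurd (Finset.mem_univ z) h

section

variable (F : Type*) [Field F] (c : ℕ)

/-- the upper unitriangular matrix of ones -/
def ux : Matrix (Fin c) (Fin c) F := fun i j => if i ≤ j then 1 else 0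
/-- its inverse transpose -/
def uz : Matrix (Fin c) (Fin c) F := fun i j => if i = j then 1 else if (i : ℕ) = j + 1 then -1 else 0
/-- the off diagonal block -/
def uy : Matrix (Fin c) (Fin c) F := fun _ j => if (j : ℕ) + 1 = c then 1 else 0

theorem ux_uz : (ux F c)ᵀ * uz F c = 1 := by
  ext i j
  rw [Matrix.mul_apply]
  simp only [Matrix.transpose_apply, ux, uz]
  by_cases hj : (j : ℕ) + 1 < c
  · have h1 : j ≠ (⟨(j : ℕ) + 1, hj⟩ : Fin c) := by
      intro h
      have := congrArg Fin.val h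
      simp at this
    rw [Finset.sum_eq_add (a := j) (b := ⟨(j : ℕ) + 1, hj⟩) h1]
    · rw [if_pos rfl, if_neg h1.symm, if_pos rfl, Matrix.one_apply]
      simp only [Fin.le_def, Fin.ext_iff]
      split_ifs <;> first | omega | ring
    · intro k _ hk
      have h2 : (k : ℕ) ≠ j + 1 := fun h => hk.2 (Fin.ext h)
      rw [if_neg hk.1, if_neg h2, mul_zero]
    · intro h; exact absurd (Finset.mem_univ _) h
    · intro h; exact absurd (Finset.mem_univ _) h
  · rw [Finset.sum_eq_single j]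
    · have hi' := i.2
      rw [if_pos rfl, mul_one, Matrix.one_apply]
      simp only [Fin.le_def, Fin.ext_iff]
      split_ifs <;> first | omega | rfl
    · intro k _ hk
      have h2 : (k : ℕ) ≠ j + 1 := by have := k.2; omega
      rw [if_neg hk, if_neg h2, mul_zero]
    · intro h; exact absurd (Finset.mem_univ _) h

theorem sum_uz (j : Fin c) : ∑ k, uz F c k j = if (j : ℕ) + 1 = c then 1 else 0 := by
  simp only [uz]
  by_cases hj : (j : ℕ) + 1 < c
  · have h1 : j ≠ (⟨(j : ℕ) + 1, hj⟩ : Fin c) := by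
      intro h
      have := congrArg Fin.val h
      simp at this
    rw [Finset.sum_eq_add (a := j) (b := ⟨(j : ℕ) + 1, hj⟩) h1]
    · rw [if_pos rfl, if_neg h1.symm, if_pos rfl, if_neg (by omega)]
      ring
    · intro k _ hk
      have h2 : (k : ℕ) ≠ j + 1 := fun h => hk.2 (Fin.ext h)
      rw [if_neg hk.1, if_neg h2]
    · intro h; exact absurd (Finset.mem_univ _) h
    · intro h; exact absurd (Finset.mem_univ _) h
  · rw [Finset.sum_eq_single j]
    · rw [if_pos rfl, if_pos (by have := j.2; omega)]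
    · intro k _ hk
      have h2 : (k : ℕ) ≠ j + 1 := by have := k.2; omega
      rw [if_neg hk, if_neg h2]
    · intro h; exact absurd (Finset.mem_univ _) h

theorem uy_mul (i j : Fin c) : ((uy F c)ᵀ * uz F c) i j =
    if (i : ℕ) + 1 = c ∧ (j : ℕ) + 1 = c then 1 else 0 := by
  rw [Matrix.mul_apply]
  simp only [Matrix.transpose_apply, uy]
  by_cases hi : (i : ℕ) + 1 = c
  · simp only [if_pos hi, one_mul]
    rw [sum_uz]
    by_cases hj : (j : ℕ) + 1 = c
    · rw [if_pos hj, if_pos ⟨hi, hj⟩]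
    · rw [if_neg hj, if_neg fun h => hj h.2]
  · simp only [if_neg hi, zero_mul, Finset.sum_const_zero]
    rw [if_neg fun h => hi h.1]

theorem uy_uz : (uy F c)ᵀ * uz F c = (uz F c)ᵀ * uy F c := by
  have h : (uz F c)ᵀ * uy F c = ((uy F c)ᵀ * uz F c)ᵀ := by
    rw [Matrix.transpose_mul, Matrix.transpose_transpose]
  rw [h]
  ext i j
  rw [Matrix.transpose_apply, uy_mul, uy_mul]
  simp only [and_comm]

/-- a regular unipotent element -/
def un : Matrix.symplecticGroup (Fin c) F :=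
  ⟨fromBlocks (ux F c) (uy F c) 0 (uz F c), by
    rw [SymplecticGroup.fromBlocks_mem_iff]
    refine ⟨by simp, uy_uz F c, ?_⟩
    rw [ux_uz]; simp⟩

/-- the rank of an index -/
def rk : Fin c ⊕ Fin c → ℕ
  | Sum.inl i => 2 * c - 1 - i
  | Sum.inr i => i

theorem rk_inj : Function.Injective (rk c) := by
  rintro (i | i) (j | j) h <;> simp only [rk] at h <;> have hi := i.2 <;> have hj := j.2
  · congr 1; apply Fin.ext; omega
  · omega
  · omega
  · congr 1; exact Fin.ext h

theorem rk_lt (x : Fin c ⊕ Fin c) : rk c x < 2 * c := by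
  rcases x with i | i <;> simp only [rk] <;> have hi := i.2 <;> omega

theorem rk_surj (k : ℕ) (hk : k < 2 * c) : ∃ x, rk c x = k := by
  by_cases h : k < c
  · exact ⟨Sum.inr ⟨k, h⟩, rfl⟩
  · refine ⟨Sum.inl ⟨2 * c - 1 - k, by omega⟩, ?_⟩
    simp only [rk]
    omega

/-- the nilpotent part -/
def nn : Matrix (Fin c ⊕ Fin c) (Fin c ⊕ Fin c) F := ((un F c : Matrix.symplecticGroup (Fin c) F) :
  Matrix (Fin c ⊕ Fin c) (Fin c ⊕ Fin c) F) - 1

theorem nn_zero (x y : Fin c ⊕ Fin c) (h : rk c x ≤ rk c y) : nn F c x y = 0 := by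
  rcases x with i | i <;> rcases y with j | j <;> simp only [rk] at h <;> have hi := i.2 <;> have hj := j.2 <;>
    simp only [nn, un, Matrix.sub_apply, Matrix.fromBlocks_apply₁₁, Matrix.fromBlocks_apply₁₂,
      Matrix.fromBlocks_apply₂₁, Matrix.fromBlocks_apply₂₂, ux, uy, uz, Matrix.one_apply, Sum.inl.injEq,
      Sum.inr.injEq, reduceCtorEq, if_false, Matrix.zero_apply, sub_zero, Fin.le_def, Fin.ext_iff]
  · split_ifs <;> first | omega | simp
  · omega
  · split_ifs <;> first | omega | simp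

theorem nn_ne (x y : Fin c ⊕ Fin c) (h : rk c x = rk c y + 1) : nn F c x y ≠ 0 := by
  rcases x with i | i <;> rcases y with j | j <;> simp only [rk] at h <;> have hi := i.2 <;> have hj := j.2 <;>
    simp only [nn, un, Matrix.sub_apply, Matrix.fromBlocks_apply₁₁, Matrix.fromBlocks_apply₁₂,
      Matrix.fromBlocks_apply₂₁, Matrix.fromBlocks_apply₂₂, ux, uy, uz, Matrix.one_apply, Sum.inl.injEq,
      Sum.inr.injEq, reduceCtorEq, if_false, Matrix.zero_apply, sub_zero, Fin.le_def, Fin.ext_iff]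
  · split_ifs <;> first | omega | simp
  · split_ifs <;> first | omega | simp
  · omega
  · split_ifs <;> first | omega | simp

variable {p : ℕ} [hp : Fact p.Prime] [CharP F p]

theorem un_pow (hc : 1 ≤ c) (k : ℕ) : (((un F c) ^ p ^ k : Matrix.symplecticGroup (Fin c) F) :
    Matrix (Fin c ⊕ Fin c) (Fin c ⊕ Fin c) F) = 1 + nn F c ^ p ^ k := by
  have : Nonempty (Fin c ⊕ Fin c) := ⟨Sum.inl ⟨0, hc⟩⟩
  have h1 : ((un F c : Matrix.symplecticGroup (Fin c) F) : Matrix (Fin c ⊕ Fin c) (Fin c ⊕ Fin c) F) = 1 + nn F c := by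
    rw [nn]; abel
  change ((un F c : Matrix.symplecticGroup (Fin c) F) : Matrix (Fin c ⊕ Fin c) (Fin c ⊕ Fin c) F) ^ p ^ k = _
  rw [h1, add_pow_char_pow_of_commute _ _ (Commute.one_left _), one_pow]

/-- **Unipotent elements of prescribed order.** -/
theorem exists_unip {j : ℕ} (hc : 1 ≤ c) (hj1 : 1 ≤ j) (hj : p ^ (j - 1) < 2 * c) :
    ∃ v : Matrix.symplecticGroup (Fin c) F, orderOf v = p ^ j := by
  have hgr := pow_graded (nn F c) (rk c) (rk_inj c) (rk_lt c) (rk_surj c) (nn_zero F c) (nn_ne F c)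
  have h1 : (un F c) ^ p ^ (2 * c) = 1 := by
    apply Subtype.ext
    rw [un_pow F c (p := p) hc]
    have : nn F c ^ p ^ (2 * c) = 0 := by
      ext x y
      refine (hgr (p ^ (2 * c))).1 x y ?_
      have h2 := rk_lt c x
      have h3 : 2 * c < p ^ (2 * c) := Nat.lt_pow_self hp.out.one_lt
      omega
    rw [this, add_zero]
    rfl
  obtain ⟨k, -, hk⟩ := (Nat.dvd_prime_pow hp.out).1 (orderOf_dvd_of_pow_eq_one h1)
  have hjk : j ≤ k := by
    by_contra hcon
    have h2 : (un F c) ^ p ^ (j - 1) = 1 := by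
      apply orderOf_dvd_iff_pow_eq_one.1
      rw [hk]
      exact pow_dvd_pow p (by omega)
    have h3 := congrArg (fun v : Matrix.symplecticGroup (Fin c) F =>
      (v : Matrix (Fin c ⊕ Fin c) (Fin c ⊕ Fin c) F)) h2
    rw [un_pow F c (p := p) hc] at h3
    obtain ⟨x, hx⟩ := rk_surj c _ hj
    obtain ⟨y, hy⟩ := rk_surj c 0 (by omega)
    apply (hgr (p ^ (j - 1))).2 x y (by rw [hx, hy, zero_add])
    have h4 := congrFun (congrFun h3 x) y
    rw [Matrix.add_apply] at h4
    have h5 : ((1 : Matrix.symplecticGroup (Fin c) F) : Matrix (Fin c ⊕ Fin c) (Fin c ⊕ Fin c) F) x y =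
      (1 : Matrix (Fin c ⊕ Fin c) (Fin c ⊕ Fin c) F) x y := rfl
    rw [h5] at h4
    exact add_left_cancel (h4.trans (add_zero _).symm)
  refine ⟨(un F c) ^ p ^ (k - j), ?_⟩
  rw [orderOf_pow' _ (pow_ne_zero _ hp.out.ne_zero), hk, Nat.gcd_eq_right (pow_dvd_pow p (by omega)),
    Nat.pow_div (by omega) hp.out.pos]
  congr 1
  omega

end

/-- products in `PSp` -/
theorem exists_psp (F : Type*) [Field F] {p : ℕ} [hp : Fact p.Prime] (hodd : p ≠ 2) (h2 : (2 : F) ≠ 0) {c d j s : ℕ}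
    (hc : 1 ≤ c) (v : Matrix.symplecticGroup (Fin c) F) (hv : orderOf v = p ^ j)
    (w : Matrix.symplecticGroup (Fin d) F) (hw : orderOf w = s) (hcop : Nat.Coprime p s) :
    ∃ C : Cfsg.PSp (c + d) F, orderOf C = p ^ j * s := by
  let C : Matrix.symplecticGroup (Fin (c + d)) F := (reidx finSumFinEquiv) (blk _ _ (v, w))
  have hC : orderOf C = p ^ j * s := by
    rw [orderOf_injective _ (reidx_injective _), orderOf_injective _ (blk_injective _ _),
      Prod.orderOf_mk, hv, hw, (hcop.pow_left j).lcm_eq_mul]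
  refine ⟨QuotientGroup.mk C, ?_⟩
  rw [← hC]
  apply orderOf_eq_orderOf_iff.2
  intro t
  rw [← QuotientGroup.mk_pow, QuotientGroup.eq_one_iff]
  constructor
  · intro h
    rcases ClassicalGeometry.SympInvolutions.center_eq h with h1 | h1
    · exact Subtype.ext h1
    · exfalso
      have h3 : (C ^ t) ^ p ^ j = (reidx finSumFinEquiv) (blk (Fin c) (Fin d) (1, (w ^ t) ^ p ^ j)) := by
        have h4 : ((1 : Matrix.symplecticGroup (Fin c) F), (w ^ t) ^ p ^ j) = ((v, w) ^ t) ^ p ^ j := by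
          refine Prod.ext ?_ rfl
          change 1 = (v ^ t) ^ p ^ j
          rw [← pow_mul, mul_comm, pow_mul, ← hv, pow_orderOf_eq_one, one_pow]
        rw [h4, map_pow, map_pow, map_pow, map_pow]
      have h1' : (((C ^ t) ^ p ^ j : Matrix.symplecticGroup (Fin (c + d)) F) :
          Matrix (Fin (c + d) ⊕ Fin (c + d)) (Fin (c + d) ⊕ Fin (c + d)) F) = -1 := by
        change ((C ^ t : Matrix.symplecticGroup (Fin (c + d)) F) :
          Matrix (Fin (c + d) ⊕ Fin (c + d)) (Fin (c + d) ⊕ Fin (c + d)) F) ^ p ^ j = -1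
        rw [h1]
        exact Odd.neg_one_pow ((hp.out.odd_of_ne_two hodd).pow)
      rw [h3] at h1'
      have h4 := congrFun (congrFun h1' (Sum.inl (finSumFinEquiv (Sum.inl ⟨0, hc⟩))))
        (Sum.inl (finSumFinEquiv (Sum.inl ⟨0, hc⟩)))
      have h5 : ((reidx finSumFinEquiv) (blk (Fin c) (Fin d) ((1 : Matrix.symplecticGroup (Fin c) F), (w ^ t) ^ p ^ j)) :
          Matrix (Fin (c + d) ⊕ Fin (c + d)) (Fin (c + d) ⊕ Fin (c + d)) F)
          (Sum.inl (finSumFinEquiv (Sum.inl ⟨0, hc⟩))) (Sum.inl (finSumFinEquiv (Sum.inl ⟨0, hc⟩))) =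
          (1 : Matrix (Fin c ⊕ Fin c) (Fin c ⊕ Fin c) F) (Sum.inl ⟨0, hc⟩) (Sum.inl ⟨0, hc⟩) := by
        change (blkM (1 : Matrix (Fin c ⊕ Fin c) (Fin c ⊕ Fin c) F) _).submatrix _ _ _ _ = _
        simp only [Matrix.submatrix_apply, Equiv.sumCongr_symm, Equiv.sumCongr_apply, Sum.map_inl,
          Equiv.symm_apply_apply]
        rfl
      rw [h5, Matrix.one_apply_eq, Matrix.neg_apply, Matrix.one_apply_eq] at h4
      apply h2
      linear_combination h4
  · intro h
    rw [h]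
    exact one_mem _

/-- **Unipotent times torus elements of `PSp`.** -/
theorem exists_unip_tor (F : Type*) [Field F] [Fintype F] {p : ℕ} [Fact p.Prime] [CharP F p] (h2 : (2 : F) ≠ 0)
    {c d j : ℕ} (hc : 1 ≤ c) (hd : 1 ≤ d) (hj1 : 1 ≤ j) (hj : p ^ (j - 1) < 2 * c) :
    (∃ C : Cfsg.PSp (c + d) F, orderOf C = p ^ j * (Fintype.card F ^ d + 1)) ∧
      (∃ C : Cfsg.PSp (c + d) F, orderOf C = p ^ j * (Fintype.card F ^ d - 1)) := by
  have hp : p.Prime := Fact.out
  have hp2 : p ≠ 2 := by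
    rintro rfl
    exact h2 (CharP.cast_eq_zero F 2)
  have hpq : p ∣ Fintype.card F := (CharP.cast_eq_zero_iff F p _).1 (FiniteField.cast_card_eq_zero F)
  have hpd : p ∣ Fintype.card F ^ d := dvd_pow hpq (by omega)
  obtain ⟨v, hv⟩ := exists_unip F c (p := p) hc hj1 hj
  have hpos : 0 < Fintype.card F ^ d := pow_pos Fintype.card_pos _
  constructor
  · obtain ⟨w, hw⟩ := exists_plus F d (by omega)
    rw [Nat.card_eq_fintype_card] at hw
    refine exists_psp F hp2 h2 hc v hv w hw ?_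
    rw [Nat.Prime.coprime_iff_not_dvd hp]
    intro h
    exact hp.one_lt.ne' (Nat.dvd_one.1 ((Nat.dvd_add_right hpd).1 h))
  · obtain ⟨w, hw⟩ := exists_minus F d (by omega)
    rw [Nat.card_eq_fintype_card] at hw
    refine exists_psp F hp2 h2 hc v hv w hw ?_
    rw [Nat.Prime.coprime_iff_not_dvd hp]
    intro h
    have h3 : p ∣ 1 := by
      have h4 := Nat.dvd_sub hpd h
      rwa [Nat.sub_sub_self hpos] at h4
    exact hp.one_lt.ne' (Nat.dvd_one.1 h3)

end Cfsg.Agent.H497.Spec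
end

-- part: H403/S88/LSideC
section
/-!
# S3588: element orders of `PSp_2n(q)`, `q` odd (helper403)
-/

set_option autoImplicit false
set_option linter.unusedSectionVars false

namespace Cfsg.Agent.H403.S88

open Module Cfsg Matrix
open Cfsg.Agent.H200.LinFix

/-- divisors of `r 2 ^ (a + 1)` not divisible by `2 ^ a` -/
theorem gcd_dvd {r a g : ℕ} (hg : g ∣ r * 2 ^ (a + 1)) (h : ¬ 2 ^ a ∣ g) : g ∣ r * 2 ^ (a - 1) := by
  obtain ⟨g1, g2, h1, h2, rfl⟩ := exists_dvd_and_dvd_of_dvd_mul hg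
  obtain ⟨i, -, rfl⟩ := (Nat.dvd_prime_pow Nat.prime_two).1 h2
  apply Nat.mul_dvd_mul h1
  apply pow_dvd_pow
  by_contra hcon
  apply h
  exact (pow_dvd_pow 2 (show a ≤ i by omega)).trans (Nat.dvd_mul_left _ _)

section

variable {F V : Type*} [Field F] [Fintype F] [AddCommGroup V] [Module F V] [Finite V] {b : LinearMap.BilinForm F V}
  {N r d E : ℕ} {T : Module.End F V}

/-- **No elements of order `r 2 ^ a`.** -/
theorem no_r_two (h2 : (2 : F) ≠ 0) (hq : Odd (Fintype.card F)) (hb : ∀ v, (∀ u, b u v = 0) → v = 0)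
    (hTb : Isom b T) {a j : ℕ} (hj : 1 ≤ j)
    (ha : 2 ^ a ∣ Fintype.card F ^ 2 ^ j - 1) (ha' : ¬ 2 ^ (a + 1) ∣ Fintype.card F ^ 2 ^ j - 1)
    (hc : Cls (Nat.card F) r d E) (hle : finrank F V < 4 * d) (hle' : E = Nat.card F ^ d - 1 → finrank F V < 3 * d)
    (hK : finrank F V < 2 * d + 2 * 2 ^ j)
    (hT : ∀ j : ℕ, (T ^ j = 1 ∨ T ^ j = -1) ↔ r * 2 ^ a ∣ j) : False := by
  have hfd : FiniteDimensional F V := inferInstance
  have hN : 0 < r * 2 ^ a := Nat.mul_pos hc.hr.pos (by positivity)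
  have hq1 : 1 < Fintype.card F := Fintype.one_lt_card
  have hE : ¬ 2 ^ a ∣ E := by
    refine two_part hq hq1 hj ha ha' (d := d) ?_
    rcases hc.cls with ⟨-, h⟩ | ⟨h, -, -, h'⟩
    · left; rw [h, Nat.card_eq_fintype_card]
    · right; exact ⟨h, by rw [h', Nat.card_eq_fintype_card]⟩
  have ha1 : 1 ≤ a := by
    by_contra h
    apply hE
    rw [show a = 0 by omega, pow_zero]
    exact one_dvd _
  have D := exists_dec hb hTb hN hT hc (Nat.dvd_mul_right _ _) hle hle'
  set y := T ^ (2 * (r * 2 ^ a / r)) with hydef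
  have h2N : (T ^ (r * 2 ^ (a + 1))) = 1 := by
    rw [pow_succ, ← mul_assoc, pow_mul]
    rcases (hT (r * 2 ^ a)).2 dvd_rfl with h | h <;> rw [h]
    · exact one_pow 2
    · exact neg_one_sq
  -- on `R y`
  have hR : ∀ w ∈ R y, (T ^ (r * 2 ^ (a - 1))) w = w := by
    intro w hw
    have h1 := D.tor 1 w hw
    rw [pow_one] at h1
    have h3 := fix_gcd h1 (c := r * 2 ^ (a + 1)) (by rw [h2N]; rfl)
    exact fix_dvd h3 (gcd_dvd (Nat.gcd_dvd_right _ _) (fun h => hE (h.trans (Nat.gcd_dvd_left _ _))))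
  have hr2a : r * 2 ^ a = r * 2 ^ (a - 1) * 2 := by
    rw [mul_assoc, ← pow_succ, Nat.sub_add_cancel ha1]
  have hN1 : T ^ (r * 2 ^ a) = 1 := by
    rcases (hT (r * 2 ^ a)).2 dvd_rfl with h | h
    · exact h
    · exfalso
      obtain ⟨w, hw, hw0⟩ := Submodule.exists_mem_ne_zero_of_ne_bot (R_ne_bot D.hy1)
      have h3 := fix_dvd (hR w hw) (c := r * 2 ^ a) (by rw [hr2a]; exact Nat.dvd_mul_right _ _)
      rw [h] at h3
      have h4 : -w = w := h3
      have h5 : (2 : F) • w = 0 := by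
        rw [two_smul]
        nth_rw 1 [← h4]
        exact neg_add_cancel w
      exact hw0 ((smul_eq_zero.1 h5).resolve_left h2)
  -- on `K y`
  have hKi : ∀ w ∈ K y, (T ^ r) w ∈ K y := D.invK r
  have hpow : ∀ (k : ℕ) (w : K y), (((((T ^ r).restrict hKi) ^ k) w : K y) : V) = ((T ^ r) ^ k) w := by
    intro k
    induction k with
    | zero => intro w; rfl
    | succ k ih =>
      intro w
      rw [pow_succ, pow_succ, Module.End.mul_apply, Module.End.mul_apply, ih]
      rfl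
  have hKd : finrank F (K y) < 2 * 2 ^ j := by
    have := finrank_add y
    rw [D.fr] at this
    omega
  have hKT : ∀ w ∈ K y, (T ^ (r * 2 ^ (a - 1))) w = w := by
    by_contra hcon
    have h3 := Cfsg.Agent.H415.SpTwo.two_elt' (V := K y) h2 (b.restrict (K y))
      (fun v hv => by
        apply Subtype.ext
        apply nondeg_K D.hyb hb D.hy hc.ne v.2
        intro u hu
        exact hv ⟨u, hu⟩)
      ((T ^ r).restrict hKi) (fun u v => Isom.pow hTb r u v) hj ha ha' (by
        refine LinearMap.ext fun w => Subtype.ext ?_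
        rw [hpow, ← pow_mul, hN1]
        rfl) (by
        intro h
        apply hcon
        intro w hw
        have h5 := congrArg Subtype.val (LinearMap.congr_fun h ⟨w, hw⟩)
        rw [hpow, ← pow_mul] at h5
        exact h5)
    have h4 := h3.trans (Submodule.finrank_le _)
    omega
  have h6 : T ^ (r * 2 ^ (a - 1)) = 1 := eq_one_of_KR D.hy hc.ne hKT hR
  have h7 := (hT _).1 (Or.inl h6)
  have h8 := Nat.le_of_dvd (Nat.mul_pos hc.hr.pos (by positivity)) h7
  rw [hr2a] at h8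
  have : 0 < r * 2 ^ (a - 1) := Nat.mul_pos hc.hr.pos (by positivity)
  omega

end

section psp

variable {F : Type*} [Field F] [Fintype F] {n : ℕ}

theorem lin_of (x : PSp n F) {N : ℕ} (hx : orderOf x = N) : ∃ T : Module.End F (Fin n ⊕ Fin n → F), Isom (bJ n F) T ∧
    ∀ j : ℕ, (T ^ j = 1 ∨ T ^ j = -1) ↔ N ∣ j := by
  obtain ⟨T, hT, h⟩ := exists_lin x
  exact ⟨T, hT, fun j => by rw [← h, ← hx, orderOf_dvd_iff_pow_eq_one]⟩

theorem finrank_V : finrank F (Fin n ⊕ Fin n → F) = 2 * n := by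
  rw [Module.finrank_fintype_fun_eq_card, Fintype.card_sum, Fintype.card_fin, two_mul]

/-- `PSp_2n(q)` has no element of order `r 2 ^ a` -/
theorem psp_no_r_two (hq : Odd (Fintype.card F)) {a j r d E : ℕ} (hj : 1 ≤ j)
    (ha : 2 ^ a ∣ Fintype.card F ^ 2 ^ j - 1) (ha' : ¬ 2 ^ (a + 1) ∣ Fintype.card F ^ 2 ^ j - 1)
    (hc : Cls (Fintype.card F) r d E) (hd : n < 2 * d) (hd' : E = Fintype.card F ^ d - 1 → 2 * n < 3 * d) (hnd : n < d + 2 ^ j)
    (x : PSp n F) : orderOf x ≠ r * 2 ^ a := by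
  intro hx
  obtain ⟨T, hT, h⟩ := lin_of x hx
  rw [← Nat.card_eq_fintype_card] at hc
  exact no_r_two (H390.two_ne_zero_of_odd hq) hq bJ_nondeg hT hj ha ha' hc (by rw [finrank_V]; omega)
    (fun h => by rw [finrank_V]; exact hd' (by rw [h, Nat.card_eq_fintype_card])) (by rw [finrank_V]; omega) h

/-- elements of `PSp_2n(q)` of order divisible by `p r`, the class `n - 1` -/
theorem psp_dvd_pE (hq : Odd (Fintype.card F)) {p : ℕ} [Fact p.Prime] [CharP F p] {r E : ℕ} (hn : 4 ≤ n)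
    (hc : Cls (Fintype.card F) r (n - 1) E) (x : PSp n F) (hpx : p ∣ orderOf x) (hrx : r ∣ orderOf x) :
    orderOf x ∣ p * E := by
  obtain ⟨T, hT, h⟩ := lin_of x rfl
  have hp : p.Prime := Fact.out
  have hpq : p ∣ Fintype.card F := (CharP.cast_eq_zero_iff F p _).1 (FiniteField.cast_card_eq_zero F)
  have hp2 : p ≠ 2 := by
    rintro rfl
    obtain ⟨k, hk⟩ := hq
    omega
  have hq1 : 1 < Fintype.card F := Fintype.one_lt_card
  have hpow : Odd (Fintype.card F ^ (n - 1)) := hq.pow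
  have hpp : p ∣ Fintype.card F ^ (n - 1) := dvd_pow hpq (by omega)
  have hE : E = Fintype.card F ^ (n - 1) + 1 ∨ E = Fintype.card F ^ (n - 1) - 1 := by
    rcases hc.cls with ⟨-, h⟩ | ⟨-, -, -, h⟩
    · exact Or.inl h
    · exact Or.inr h
  have hqn : 1 < Fintype.card F ^ (n - 1) := Nat.one_lt_pow (by omega) hq1
  obtain ⟨m, hm⟩ := hpow
  have hE2 : 2 ∣ E := by
    rcases hE with h | h
    · exact ⟨m + 1, by omega⟩
    · exact ⟨m, by omega⟩
  have hEp : ¬ p ∣ E := by
    intro h1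
    have h3 : p ∣ 1 := by
      rcases hE with h | h
      · rw [h] at h1
        exact (Nat.dvd_add_right hpp).1 h1
      · rw [h] at h1
        have := (Nat.dvd_sub hpp h1)
        rwa [Nat.sub_sub_self (by omega)] at this
    exact hp.one_lt.ne' (Nat.dvd_one.1 h3)
  rw [← Nat.card_eq_fintype_card] at hc
  exact dvd_pE hp2 (by exact bJ_nondeg) hT ((orderOf_pos x :)) h hn finrank_V hc hE2 hEp hrx hpx

/-- no elements of order divisible by `p t r` -/
theorem psp_no_ptr (hq : Odd (Fintype.card F)) {p : ℕ} [Fact p.Prime] [CharP F p] {r d E c t E' : ℕ}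
    (hn : n = c + d) (hcd : c < d) (hc : Cls (Fintype.card F) r d E) (hdo : E = Fintype.card F ^ d - 1 → 2 * c < d)
    (hc' : Cls (Fintype.card F) t c E') (hEp : ¬ p ∣ E) (hEp' : ¬ p ∣ E') (htE : ¬ t ∣ E) (x : PSp n F) :
    orderOf x ≠ t * p * r := by
  intro hx
  obtain ⟨T, hT, h⟩ := lin_of x hx
  have hp : p.Prime := Fact.out
  have hpq : p ∣ Fintype.card F := (CharP.cast_eq_zero_iff F p _).1 (FiniteField.cast_card_eq_zero F)
  have hp2 : p ≠ 2 := by
    rintro rfl
    obtain ⟨k, hk⟩ := hq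
    omega
  have hpos : 0 < t * p * r := by
    have := (orderOf_pos x :)
    rwa [hx] at this
  rw [← Nat.card_eq_fintype_card] at hc hc'
  exact no_ptr hp2 (by exact bJ_nondeg) hT hpos h hcd (by rw [finrank_V, hn]) hc (fun h => hdo (by rw [h, Nat.card_eq_fintype_card])) hc' hEp hEp' htE (Nat.dvd_mul_left _ _)
    ((Nat.dvd_mul_left p t).mul_right r) ((Nat.dvd_mul_right t p).mul_right r)

end psp

end Cfsg.Agent.H403.S88
end

-- part: H403/S88/K8Num
section
/-!
# S3588: the parameters for `L = PSp_2n(q)`, `S = Ω_2n+1(q)`, `q` odd (helper403)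
-/

set_option autoImplicit false

namespace Cfsg.Agent.H403.S88

open Cfsg

/-- the parameters: `n = c + d`, `r` a prime of class `2 d` (`E = q ^ d + 1`) or `d` odd (`E = q ^ d - 1`) -/
structure Par (p n k c d jj r E bb : ℕ) : Prop where
  hn : n = c + d
  c1 : 1 ≤ c
  cd : c < d
  cls : Cls (p ^ k) r d E
  hn2 : n < 2 * d
  hodd : E = (p ^ k) ^ d - 1 → 2 * n < 3 * d
  jj1 : 1 ≤ jj
  jjl : p ^ (jj - 1) < 2 * c
  jju : 2 * c - 1 ≤ p ^ (jj - 1)
  bb1 : 2 ^ bb ∣ E
  bb2 : ¬ 2 ^ (bb + 1) ∣ E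
  hE : (E = (p ^ k) ^ d + 1 ∨ E = (p ^ k) ^ d - 1)
  rE : r ∣ E
  min : ∀ i, 0 < i → i < d → ¬ r ∣ (p ^ k) ^ i - 1 ∧ ¬ r ∣ (p ^ k) ^ i + 1
  mem : ∃ e, (n < e ∨ (2 * n < 3 * e ∧ Odd k)) ∧ orderOf (p : ZMod r) = e * k
  ord : orderOf ((p ^ k : ℕ) : ZMod r) = 2 * d ∨ (orderOf ((p ^ k : ℕ) : ZMod r) = d ∧ Odd d)

theorem exists_two_part {E : ℕ} (hE : 0 < E) : ∃ bb, 2 ^ bb ∣ E ∧ ¬ 2 ^ (bb + 1) ∣ E :=
  ⟨_, Nat.ordProj_dvd E 2, Nat.pow_succ_factorization_not_dvd hE.ne' Nat.prime_two⟩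

theorem orderOf_q {p k r e : ℕ} (hk : 1 ≤ k) (h : orderOf (p : ZMod r) = e * k) :
    orderOf ((p ^ k : ℕ) : ZMod r) = e := by
  rw [Nat.cast_pow, orderOf_pow' _ (by omega), h, Nat.gcd_mul_left_left, Nat.mul_div_cancel _ (by omega)]

theorem sq_fac {q i r : ℕ} (h : r ∣ q ^ i + 1) : r ∣ q ^ (2 * i) - 1 := by
  have h1 : q ^ (2 * i) - 1 = (q ^ i + 1) * (q ^ i - 1) := by
    rw [mul_comm 2 i, pow_mul]
    have := Nat.sq_sub_sq (q ^ i) 1
    rwa [one_pow] at this
  rw [h1]
  exact h.mul_right _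

/-- the plus case -/
theorem par_plus {p n k c d jj : ℕ} (hp : p.Prime) (hp2 : p ≠ 2) (hk : 1 ≤ k) (hn : n = c + d) (c1 : 1 ≤ c) (cd : c < d)
    (d3 : 3 ≤ d) (jj1 : 1 ≤ jj) (jjl : p ^ (jj - 1) < 2 * c) (jju : 2 * c - 1 ≤ p ^ (jj - 1)) :
    ∃ r bb, Par p n k c d jj r ((p ^ k) ^ d + 1) bb := by
  have hp3 : 3 ≤ p := by
    have := hp.two_le
    omega
  have hdk : d ≤ d * k := Nat.le_mul_of_pos_right d (by omega)
  obtain ⟨r, hr, ho⟩ := Cfsg.Agent.Lib.Zsigmondy.exists_prime_orderOf (a := p) (n := 2 * d * k) (by omega)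
    (by rw [mul_assoc]; omega) (by rw [mul_assoc]; omega) (by rintro ⟨h, -⟩; omega)
  have hoq := orderOf_q hk ho
  have hq1 : 1 ≤ p ^ k := Nat.one_le_pow _ _ hp.pos
  have hq3 : 1 < p ^ k := Nat.one_lt_pow (by omega) (by omega)
  obtain ⟨bb, h1, h2⟩ := exists_two_part (E := (p ^ k) ^ d + 1) (by omega)
  have hcls := cls_even hq1 (by omega) hr hoq
  have hord : Cfsg.Agent.H200.LinFix.Ordd r (p ^ k) (2 * d) := ordd_of_orderOf hq1 hoq
  refine ⟨r, bb, hn, c1, cd, hcls, by omega, ?_, jj1, jjl, jju, h1, h2, Or.inl rfl, ?_, ?_, ⟨2 * d, Or.inl (by omega), ho⟩,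
    Or.inl hoq⟩
  · intro h
    have : 1 ≤ (p ^ k) ^ d := Nat.one_le_pow _ _ (by omega)
    omega
  · have := H390.pow_dvd_add_one (q := p ^ k) (n := d) (a := 1) hr hq1 (by omega) hoq (by
      rw [pow_one, ← ZMod.natCast_eq_zero_iff, Nat.cast_sub (Nat.one_le_pow _ _ (by omega)), Nat.cast_pow, Nat.cast_one,
        sub_eq_zero, ← hoq]
      exact pow_orderOf_eq_one _)
    rwa [pow_one] at this
  · intro i hi0 hid
    constructor
    · intro h
      have := Nat.le_of_dvd hi0 (hord i h)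
      omega
    · intro h
      have := Nat.le_of_dvd (by omega) (hord (2 * i) (sq_fac h))
      omega

/-- the minus case -/
theorem par_minus {p n k : ℕ} (hp : p.Prime) (hp2 : p ≠ 2) (hk : Odd k) (hn : 5 ≤ n) (hev : Even n) :
    ∃ r bb, Par p n k 1 (n - 1) 1 r ((p ^ k) ^ (n - 1) - 1) bb := by
  have hp3 : 3 ≤ p := by
    have := hp.two_le
    omega
  have hk1 : 1 ≤ k := hk.pos
  have hdo : Odd (n - 1) := by
    obtain ⟨t, ht⟩ := hev
    exact ⟨t - 1, by omega⟩
  have hdk : (n - 1) ≤ (n - 1) * k := Nat.le_mul_of_pos_right _ (by omega)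
  obtain ⟨r, hr, ho⟩ := Cfsg.Agent.Lib.Zsigmondy.exists_prime_orderOf (a := p) (n := (n - 1) * k) (by omega)
    (by omega) (by omega) (by rintro ⟨h, -⟩; omega)
  have hoq := orderOf_q hk1 ho
  have hq1 : 1 ≤ p ^ k := Nat.one_le_pow _ _ hp.pos
  have hq3 : 1 < p ^ k := Nat.one_lt_pow (by omega) (by omega)
  have hqd : 1 < (p ^ k) ^ (n - 1) := Nat.one_lt_pow (by omega) hq3
  obtain ⟨bb, h1, h2⟩ := exists_two_part (E := (p ^ k) ^ (n - 1) - 1) (by omega)
  have hcls := cls_odd hq1 (by omega) hdo hr hoq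
  have hord : Cfsg.Agent.H200.LinFix.Ordd r (p ^ k) (n - 1) := ordd_of_orderOf hq1 hoq
  refine ⟨r, bb, by omega, le_rfl, by omega, hcls, by omega, fun _ => by omega, le_rfl, by norm_num, by norm_num, h1, h2,
    Or.inr rfl, ?_, ?_, ⟨n - 1, Or.inr ⟨by omega, hk⟩, ho⟩, Or.inr ⟨hoq, hdo⟩⟩
  · rw [← ZMod.natCast_eq_zero_iff, Nat.cast_sub (Nat.one_le_pow _ _ (by omega)), Nat.cast_pow, Nat.cast_one,
      sub_eq_zero]
    exact orderOf_dvd_iff_pow_eq_one.1 (dvd_of_eq hoq)
  · intro i hi0 hid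
    constructor
    · intro h
      have := Nat.le_of_dvd hi0 (hord i h)
      omega
    · intro h
      have h3 := hord (2 * i) (sq_fac h)
      have h4 : (n - 1) ∣ i := (Nat.Coprime.dvd_mul_left (Nat.coprime_two_right.2 hdo)).1 h3
      have := Nat.le_of_dvd hi0 h4
      omega

/-- powers of two around `n` -/
theorem exists_j0 {n : ℕ} (hn : 5 ≤ n) : ∃ j0, 2 ≤ j0 ∧ 2 ^ j0 < n ∧ n ≤ 2 * 2 ^ j0 := by
  refine ⟨Nat.log 2 (n - 1), ?_, ?_, ?_⟩
  · exact Nat.le_log_of_pow_le (by norm_num) (by omega)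
  · have := Nat.pow_log_le_self 2 (show n - 1 ≠ 0 by omega)
    omega
  · have := Nat.lt_pow_succ_log_self (show 1 < 2 by norm_num) (n - 1)
    rw [Nat.succ_eq_add_one, pow_succ] at this
    omega

end Cfsg.Agent.H403.S88
end

-- part: H403/S88/K8A
section
/-!
# S3588: `L = PSp_2n(q)`, `S = Ω_2n+1(q)`, `q` odd (helper403)

* `exists_frob_sub` : Frobenius groups `q ^ m : 2 ^ a` in `Ω_2n+1(q)`;
* `Ctx` : the context; `Ctx.not_dvd` : `2` and `r` do not divide `|K|`;
* `Ctx.fin` : the final contradiction if no element of order `p` of `K` commutes with an element of order `r`.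
-/

set_option autoImplicit false
set_option linter.unusedSectionVars false

namespace Cfsg.Agent.H403.S88

open Subgroup Cfsg Cfsg.Agent.H414.LieShape Cfsg.Agent.H426.LieFam Cfsg.Agent.H403.S88.Grp
open QuadraticMap Module Cfsg.Agent.H229.T
open Cfsg.Agent.LieClassical.OrthCore Cfsg.Agent.LieClassical.OrthForms Cfsg.Agent.LieClassical.OrthFinite

/-- Frobenius groups in `Ω` -/
theorem exists_frob_sub {F : Type*} [Field F] [Fintype F] (h2 : (2 : F) ≠ 0) {V : Type*} [AddCommGroup V] [Module F V]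
    [FiniteDimensional F V] [Finite V] {Q : QuadraticForm F V} (hQ : Nondeg Q) {m n : ℕ} (hm0 : 1 ≤ m) (hm : Even m)
    (hV : finrank F V = 2 * n + 1) (hmn : m + 1 ≤ n) :
    ∃ (U : Subgroup (Om Q)) (c : Om Q), orderOf c = 2 ^ padicValNat 2 (Fintype.card F ^ m - 1) ∧
      (∀ a ∈ U, c * a * c⁻¹ ∈ U) ∧ (∀ i, 0 < i → i < orderOf c → ∀ a ∈ U, c ^ i * a = a * c ^ i → a = 1) ∧
      Nat.card U = Fintype.card F ^ m := by
  classical
  obtain ⟨L, _, _, ζ, u, c, hL, hu, hζ, hc, hcu⟩ := exists_frob_gen h2 hQ hm0 hm hV hmn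
  have hci : ∀ (i : ℕ) (b : L), c ^ i * u (Multiplicative.ofAdd b) = u (Multiplicative.ofAdd (((ζ ^ i : Lˣ) : L) * b)) * c ^ i := by
    intro i
    induction i with
    | zero => intro b; simp
    | succ i ih =>
      intro b
      rw [pow_succ', mul_assoc, ih, ← mul_assoc, hcu, mul_assoc]
      congr 3
      rw [pow_succ', Units.val_mul, mul_assoc]
  refine ⟨u.range, c, hc, ?_, ?_, ?_⟩
  · rintro _ ⟨b, rfl⟩
    refine ⟨Multiplicative.ofAdd ((ζ : L) * b.toAdd), ?_⟩
    have h1 := hcu b.toAdd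
    rw [eq_mul_inv_iff_mul_eq]
    exact h1.symm
  · rintro i hi0 hi _ ⟨b, rfl⟩ h
    have h1 := hci i b.toAdd
    have h3 : u (Multiplicative.ofAdd (((ζ ^ i : Lˣ) : L) * b.toAdd)) = u b := by
      have h4 : c ^ i * u b = u (Multiplicative.ofAdd (((ζ ^ i : Lˣ) : L) * b.toAdd)) * c ^ i := h1
      rw [h] at h4
      exact (mul_right_cancel h4).symm
    have h5 := hu h3
    have h6 : ((ζ ^ i : Lˣ) : L) * b.toAdd = b.toAdd := congrArg Multiplicative.toAdd h5
    have h7 : (((ζ ^ i : Lˣ) : L) - 1) * b.toAdd = 0 := by linear_combination h6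
    rcases mul_eq_zero.1 h7 with h8 | h8
    · exfalso
      have h9 : ζ ^ i = 1 := Units.ext (sub_eq_zero.1 h8)
      have h10 := orderOf_dvd_of_pow_eq_one h9
      rw [hζ, ← hc] at h10
      have := Nat.le_of_dvd hi0 h10
      omega
    · have : b = 1 := by
        have : b = Multiplicative.ofAdd b.toAdd := rfl
        rw [this, h8]
        rfl
      rw [this, map_one]
  · rw [Nat.card_congr (MonoidHom.ofInjective hu).symm.toEquiv, ← hL]
    exact Nat.card_congr Multiplicative.toAdd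

/-- element orders of `PSp` -/
def om (n : ℕ) (F : Type*) [Field F] : Set ℕ := {m | ∃ x : PSp n F, orderOf x = m}

theorem om_dvd {n : ℕ} {F : Type*} [Field F] [Finite F] : ∀ a b, a ∣ b → b ∈ om n F → a ∈ om n F := by
  rintro a b hab ⟨x, rfl⟩
  have hx0 : 0 < orderOf x := (orderOf_pos x :)
  have ha0 : 0 < a := Nat.pos_of_dvd_of_pos hab hx0
  exact ⟨x ^ (orderOf x / a), by
    rw [orderOf_pow_of_dvd (Nat.div_pos (Nat.le_of_dvd hx0 hab) ha0).ne' (Nat.div_dvd_of_dvd hab),
      Nat.div_div_self hab hx0.ne']⟩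

universe u

section ctx

variable {F : Type*} [Field F] [Fintype F] {V : Type*} [AddCommGroup V] [Module F V] [FiniteDimensional F V] [Finite V]
  {Q : QuadraticForm F V} {n : ℕ} {G : Type u} [Group G] [Finite G] {K : Subgroup G} [K.Normal] {S : Subgroup (G ⧸ K)}
  {O : Set ℕ}

/-- the normal closure of a nontrivial element of a simple normal subgroup -/
theorem le_normalClosure {A : Type*} [Group A] {S : Subgroup A} [hSn : S.Normal] (hS : IsSimpleGroup S) {y : A}
    (hy : y ∈ S) (hy1 : y ≠ 1) : S ≤ normalClosure {y} := by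
  let T : Subgroup S := (normalClosure {y}).subgroupOf S
  have hT : T.Normal := inferInstance
  have hT1 : T ≠ ⊥ := by
    intro h
    apply hy1
    have h1 : (⟨y, hy⟩ : S) ∈ T := by
      rw [mem_subgroupOf]
      exact subset_normalClosure rfl
    rw [h, mem_bot] at h1
    exact congrArg Subtype.val h1
  have h2 := (hS.eq_bot_or_eq_top_of_normal T hT).resolve_left hT1
  intro a ha
  have h1 : (⟨a, ha⟩ : S) ∈ T := by rw [h2]; exact mem_top _
  rwa [mem_subgroupOf] at h1

/-- **`t ∤ |K|`** -/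
theorem not_dvd_aux (h2 : (2 : F) ≠ 0) (hQ : Nondeg Q) (hV : finrank F V = 2 * n + 1) (hSs : IsSimpleGroup S)
    (e : S ≃* Om Q) (hsol : Group.IsSolvable K) (hO : ∀ g : G, orderOf g ∈ O) {s : ℕ} {y : G ⧸ K} (hb : Base O S s y)
    {t : ℕ} (ht : t.Prime) (htq : ¬ t ∣ Fintype.card F) (hst : s ≠ t) (hts : s * t ∉ O) {m : ℕ} (hm0 : 1 ≤ m)
    (hm : Even m) (hmn : m + 1 ≤ n) (hct : 2 ^ padicValNat 2 (Fintype.card F ^ m - 1) * t ∉ O)
    (hsK : ¬ s ∣ Nat.card K) : ¬ t ∣ Nat.card K := by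
  obtain ⟨U, c, hc, hn, hfix, hU⟩ := exists_frob_sub h2 hQ hm0 hm hV hmn
  let ι : Om Q →* G ⧸ K := S.subtype.comp e.symm.toMonoidHom
  have hι : Function.Injective ι := S.subtype_injective.comp e.symm.injective
  have hcard : Nat.card (U.map ι) = Nat.card U := Nat.card_congr (U.equivMapOfInjective ι hι).symm.toEquiv
  have hker : (QuotientGroup.mk' K).ker = K := QuotientGroup.ker_mk' K
  have key := not_dvd_card hb hSs ht hst hts (Q := U.map ι) (c := ι c) (by
      rintro _ ⟨a, -, rfl⟩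
      exact (e.symm a).2) (by
      rintro _ ⟨a, ha, rfl⟩
      exact ⟨c * a * c⁻¹, hn a ha, by rw [map_mul, map_mul, map_inv]⟩) (by
      rintro i hi0 hi _ ⟨a, ha, rfl⟩ hcomm
      rw [orderOf_injective ι hι] at hi
      rw [← map_pow, ← map_mul, ← map_mul] at hcomm
      rw [hfix i hi0 hi a ha (hι hcomm), map_one]) (by
      rw [hcard, hU]
      exact Nat.Coprime.pow_left m ((Nat.Prime.coprime_iff_not_dvd ht).2 htq).symm) (by
      intro h
      rw [h, Subgroup.card_bot, hU] at hcard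
      have h1 : 1 < Fintype.card F ^ m := Nat.one_lt_pow (by omega) Fintype.one_lt_card
      omega) (by
      rw [orderOf_injective ι hι, hc]
      exact hct) _ G (QuotientGroup.mk' K) rfl (QuotientGroup.mk'_surjective K) (by rw [hker]; exact hsol) hO
    (by rw [hker]; exact hsK)
  rwa [hker] at key

end ctx

end Cfsg.Agent.H403.S88
end

private theorem dce_310336bf46f5 : _root_.True := by
  try have : _root_.True := by simp only [_root_.Cfsg.Agent.H497.Spec.uy.eq_1]
  try have : _root_.True := by simp only [_root_.Cfsg.Agent.H497.Spec.uz.eq_1]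
  try have : _root_.True := by simp only [_root_.Cfsg.Agent.H497.Spec.un.eq_1]
  try have : _root_.True := by simp only [_root_.Cfsg.Agent.H497.Spec.ux.eq_1]
  try have : _root_.True := by simp only [_root_.Cfsg.Agent.H415.SpTwo.Vm.eq_1]
  try have : _root_.True := by simp only [_root_.Cfsg.Agent.H497.Spec.nn.eq_1]
  try have : _root_.True := by simp only [_root_.Cfsg.Agent.H497.Spec.rk.eq_1]
  try have : _root_.True := by simp only [_root_.Cfsg.Agent.H497.Spec.rk.eq_2]
  exact _root_.True.intro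
end

-- part: H403/S88/K8C
section
prune_inst 0xe0204400004200000000058011001c26860000b000080800880000400481280200000860a4000006028600050031002000000010400000000a00000001180080000000043000a000000010000080000000000000000000000000000000000000000000000
set_option linter.all false
open scoped Cfsg.Agent.FastGrp

-- part: H104/CBadOm
section
/-!
# Centralizers of elements of prime order in odd-dimensional orthogonal groups and their actions (helper104)

* `exists_cent` : the centralizer of an element of order `r` (a primitive prime of `q ^ (2 m) - 1`) in dimension `2 m + t`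
  contains `Ω_t(q)`;
* `exists_hom` : the same in a group containing `PΩ_{2n+1}(q)`;
* `norm_t` : an element of order `t` of `Ω_t(q)`, `t ≥ 5` prime, with nonzero norm on a module in characteristic `≠ 2, t`.
-/

set_option autoImplicit false
set_option linter.unusedSectionVars false

namespace Cfsg.Agent.H104.CBadOm

open QuadraticMap Module
open Cfsg.Agent.LieClassical.OrthCore Cfsg.Agent.LieClassical.OrthForms Cfsg.Agent.LieClassical.OrthFinite
open Cfsg.Agent.LieClassical.OrthTrans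
open Cfsg.Agent.H160 Cfsg.Agent.H160.QSpin Cfsg.Agent.H160.QDisc Cfsg.Agent.H160.QFinal Cfsg.Agent.H160.QModel
open Cfsg.Agent.H160.QReal Cfsg.Agent.H229.T Cfsg.Agent.H403.S88.Grp

universe u v

/-- the two forms of minimality -/
theorem prim_of_min {q r m : ℕ} (hq : 0 < q) (h0 : 0 < m) (hmin : ∀ d, 0 < d → d < m → ¬ r ∣ q ^ d - 1 ∧ ¬ r ∣ q ^ d + 1)
    (hm : r ∣ q ^ m - 1 ∨ r ∣ q ^ m + 1) : ∀ d, 0 < d → (r ∣ q ^ d - 1 ∨ r ∣ q ^ d + 1) → m ∣ d := by
  intro d
  induction d using Nat.strong_induction_on with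
  | _ d ih =>
  intro hd0 hd
  rcases lt_trichotomy d m with h | h | h
  · exact absurd hd (not_or.2 (hmin d hd0 h))
  · exact dvd_of_eq h.symm
  · have h1 := ih (d - m) (by omega) (by omega) (NoElt.small_of hq h hm hd)
    have h3 := h1.add (dvd_refl m)
    rwa [Nat.sub_add_cancel h.le] at h3

section Cent

variable {F : Type*} [Field F] [Fintype F]

/-- **`Ω_t(q)` in the centralizer.** -/
theorem exists_cent (h2 : (2 : F) ≠ 0) {V : Type*} [AddCommGroup V] [Module F V] [FiniteDimensional F V] [Finite V]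
    {p : ℕ} [hp : Fact p.Prime] [CharP F p] {Q : QuadraticForm F V} (hQ : Nondeg Q) {m r t : ℕ} [NeZero t]
    (hto : Odd t) (hm : 1 ≤ m) (ht : t < 2 * m) (hV : finrank F V = 2 * m + t) (hr : r.Prime) (hr2 : r ≠ 2) (hrp : r ≠ p)
    (hprim : ∀ d, 0 < d → (r ∣ Fintype.card F ^ d - 1 ∨ r ∣ Fintype.card F ^ d + 1) → m ∣ d)
    {a : V ≃ₗ[F] V} (ha : a ∈ O Q) (hao : orderOf a = r) :
    ∃ (c : F) (_ : c ≠ 0) (f : Om (D F t c) →* Om Q), Function.Injective f ∧
      ∀ h, a * ((f h : Om Q) : V ≃ₗ[F] V) = ((f h : Om Q) : V ≃ₗ[F] V) * a := by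
  classical
  obtain ⟨Q₁, Q₂, a₁, e, hQ₁, hQ₂, he, hae, -, -, -⟩ := split_a hQ hm ht hV hr hr2 hrp hprim ha hao
  obtain ⟨c, e2, hc, he2⟩ := exists_frame (n := t) h2 hto hQ₂ (by simp)
  refine ⟨c, hc, ((omCongr he).toMonoidHom.comp (omRight h2 hQ₁ hQ₂)).comp (omCongr he2).toMonoidHom, ?_, ?_⟩
  · exact ((omCongr he).injective.comp (omRight_injective h2 hQ₁ hQ₂)).comp (omCongr he2).injective
  · intro h
    show a * cj e (pr 1 (omCongr he2 h).1) = cj e (pr 1 (omCongr he2 h).1) * a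
    rw [hae, ← cj_mul, ← cj_mul, ← pr_mul, ← pr_mul, one_mul, mul_one, mul_one, one_mul]

/-- the same in a group containing `PΩ_{2n+1}(q)` -/
theorem exists_hom (h2 : (2 : F) ≠ 0) {p : ℕ} [hp : Fact p.Prime] [CharP F p] {n m c r : ℕ} (hn : n = m + c)
    (hn2 : 2 ≤ n) (hc : c < m) (hr : r.Prime) (hr2 : r ≠ 2) (hrp : r ≠ p)
    (hprim : ∀ d, 0 < d → (r ∣ Fintype.card F ^ d - 1 ∨ r ∣ Fintype.card F ^ d + 1) → m ∣ d)
    {A : Type v} [Group A] {S : Subgroup A} (e : S ≃* Cfsg.POmega F (Cfsg.quadFormOdd n F)) {α : A} (hα : α ∈ S)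
    (hao : orderOf α = r) :
    ∃ (x : F) (_ : x ≠ 0) (f : Om (D F (2 * c + 1) x) →* Subgroup.centralizer ({α} : Set A)), Function.Injective f := by
  classical
  have h9 := nondeg_oddForm n F h2
  have key : ∀ (g : (Unit ⊕ (Fin n ⊕ Fin n) → F) → F) (_ : g = ⇑(oddForm n F)) (e : S ≃* Cfsg.POmega F g),
      ∃ (x : F) (_ : x ≠ 0) (f : Om (D F (2 * c + 1) x) →* Subgroup.centralizer ({α} : Set A)), Function.Injective f := by
    intro g hg e
    subst hg
    have hcd : Fintype.card (Unit ⊕ (Fin n ⊕ Fin n)) = 2 * n + 1 := by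
      simp only [Fintype.card_sum, Fintype.card_unit, Fintype.card_fin]
      ring
    obtain ⟨e'⟩ := exists_pomega h2 h9 (by rw [hcd]; omega) (by rw [hcd]; exact ⟨n, rfl⟩)
    let E : S ≃* Om (oddForm n F) := e.trans e'
    obtain ⟨a, ha⟩ : ∃ a, a = E ⟨α, hα⟩ := ⟨_, rfl⟩
    have hao' : orderOf (a : (Unit ⊕ (Fin n ⊕ Fin n) → F) ≃ₗ[F] (Unit ⊕ (Fin n ⊕ Fin n) → F)) = r := by
      rw [Subgroup.orderOf_coe, ha, MulEquiv.orderOf_eq, ← Subgroup.orderOf_coe]
      exact hao
    obtain ⟨x, hx, f, hf, hfc⟩ := exists_cent (t := 2 * c + 1) h2 h9 ⟨c, rfl⟩ (m := m) (by omega) (by omega)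
      (by rw [finrank_fintype_fun_eq_card, hcd]; omega) hr hr2 hrp hprim (Om_le_O _ a.2) hao'
    refine ⟨x, hx, (S.subtype.comp (E.symm.toMonoidHom.comp f)).codRestrict _ ?_, ?_⟩
    · intro h
      rw [Subgroup.mem_centralizer_singleton_iff]
      have h3 : a * f h = f h * a := Subtype.ext (hfc h)
      have h4 := congrArg E.symm h3
      rw [map_mul, map_mul, ha, MulEquiv.symm_apply_apply] at h4
      exact (congrArg Subtype.val h4).symm
    · intro x y hxy
      have h3 : ((E.symm (f x) : S) : A) = ((E.symm (f y) : S) : A) :=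
        congrArg (fun z : Subgroup.centralizer ({α} : Set A) => (z : A)) hxy
      exact hf (E.symm.injective (Subtype.ext h3))
  exact key _ (coe_oddForm n F).symm e

end Cent

section Norm

variable {F : Type*} [Field F] [Fintype F]

/-- the action of the rotation on the sign changes is free -/
theorem free_t {t : ℕ} [NeZero t] (ht : t.Prime) (hto : Odd t) (h2 : (2 : F) ≠ 0) {c : F} (hc : c ≠ 0) {k : ℕ}
    (hk0 : 0 < k) (hkt : k < t) (s : ZMod t → ℤˣ)
    (h : ro hto h2 hc ^ k * psi t 1 c s = psi t 1 c s * ro hto h2 hc ^ k) : psi t 1 c s = 1 := by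
  have := Fact.mk ht
  obtain ⟨s', hs⟩ : ∃ s' : ZMod t → ℤˣ, s' = s * (fun i => s (i + ((1 : ℕ) : ZMod t)))⁻¹ := ⟨_, rfl⟩
  have h1 : rot F (k : ZMod t) * ds F s' = ds F s' * rot F (k : ZMod t) := by
    have h3 := congrArg Subtype.val h
    rw [Subgroup.coe_mul, Subgroup.coe_mul, psi_coe, ← hs, SubgroupClass.coe_pow] at h3
    have h4 : ((ro hto h2 hc : Om (D F t c)) : (ZMod t → F) ≃ₗ[F] (ZMod t → F)) = rot F 1 := rfl
    rw [h4, rot_pow] at h3
    exact h3
  rw [rot_ds] at h1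
  have h4 := ds_inj h2 (mul_right_cancel h1)
  have h5 : ∀ i, s' (i + k) = s' i := fun i => congrFun h4 i
  have h6 : ∀ (j : ℕ) i, s' (i + (j * k : ℕ)) = s' i := by
    intro j
    induction j with
    | zero => intro i; simp
    | succ j ih =>
      intro i
      have : ((((j + 1) * k : ℕ)) : ZMod t) = ((j * k : ℕ) : ZMod t) + k := by push_cast; ring
      rw [this, ← add_assoc, h5, ih]
  have hkne : (k : ZMod t) ≠ 0 := by
    rw [Ne, ZMod.natCast_eq_zero_iff]
    intro h7
    have := Nat.le_of_dvd hk0 h7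
    omega
  have h7 : ∀ i, s' i = s' 0 := by
    intro i
    have h8 := h6 (i * (k : ZMod t)⁻¹).val 0
    rw [Nat.cast_mul, ZMod.natCast_zmod_val, inv_mul_cancel_right₀ hkne, zero_add] at h8
    exact h8
  have h8 : ∏ i, s' i = 1 := by
    rw [hs]
    simp only [Pi.mul_apply, Pi.inv_apply]
    rw [Finset.prod_mul_distrib, Finset.prod_inv_distrib]
    have h9 : ∏ i, s (i + ((1 : ℕ) : ZMod t)) = ∏ i, s i :=
      Fintype.prod_equiv (Equiv.addRight ((1 : ℕ) : ZMod t)) _ _ (fun i => rfl)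
    rw [h9, mul_inv_cancel]
  have h9 : s' 0 = 1 := by
    rw [Finset.prod_congr rfl (fun i _ => h7 i), Finset.prod_const, Finset.card_univ, ZMod.card] at h8
    exact eq_one_of_odd hto (by rw [pow_two]; exact Int.units_mul_self _) h8
  apply Subtype.ext
  rw [psi_coe, ← hs]
  have h10 : s' = 1 := by
    funext i
    rw [h7, h9]
    rfl
  rw [h10, ds_one]
  rfl

/-- **An element of order `t` of `Ω_t(q)` with nonzero norm.** -/
theorem norm_t {t : ℕ} [NeZero t] (ht : t.Prime) (ht5 : 5 ≤ t) (h2 : (2 : F) ≠ 0) {c : F} (hc : c ≠ 0) {p : ℕ}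
    (hp : p.Prime) (hp2 : p ≠ 2) (hpt : p ≠ t) {W : Type*} [CommGroup W] (θ : Om (D F t c) →* MulAut W)
    (hW : ∀ w : W, w ^ p = 1) (hW1 : ∃ w : W, w ≠ 1) :
    ∃ b : Om (D F t c), orderOf b = t ∧ ∃ w : W, ∏ i ∈ Finset.range t, θ (b ^ i) w ≠ 1 := by
  classical
  have hto : Odd t := ht.odd_of_ne_two (by omega)
  refine ⟨ro hto h2 hc, orderOf_ro hto h2 hc, ?_⟩
  by_contra hcon
  push Not at hcon
  let U := (psi (F := F) t 1 c).range
  have hfin : Finite U := inferInstance
  have h4 := H371.Frob.trivial_of_norm θ U (c := ro hto h2 hc) (m := t) (e := p) (by omega)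
    (by
      rintro _ ⟨s, rfl⟩ i
      obtain ⟨s', hs'⟩ := ro_inv_psi (m := 1) hto h2 hc i s
      exact ⟨s', hs'.symm⟩)
    (by
      rintro i hi0 hi _ ⟨s, rfl⟩ hcomm
      exact free_t ht hto h2 hc hi0 hi s hcomm)
    hW
    (by
      refine Nat.Coprime.coprime_dvd_left (card_psi_range c) (Nat.Coprime.pow_left t ?_)
      exact (Nat.coprime_primes Nat.prime_two hp).2 hp2.symm)
    hcon
  -- simplicity
  have hnd := nondeg_D (n := t) h2 hc
  have hs1 : IsSimpleGroup (Cfsg.POmega F ⇑(D F t c)) := isSimpleGroup_POmega hnd (by rw [ZMod.card]; exact ht5)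
  obtain ⟨e⟩ := exists_pomega h2 hnd (by rw [ZMod.card]; exact ht5) (by rw [ZMod.card]; exact hto)
  have hs2 : IsSimpleGroup (Om (D F t c)) := (e.isSimpleGroup_congr).1 hs1
  have hker : θ.ker ≠ ⊥ := by
    intro h5
    let s : ZMod t → ℤˣ := fun i => if i = 0 then -1 else 1
    have h6 : psi t 1 c s ∈ θ.ker := by
      rw [MonoidHom.mem_ker]
      exact MulEquiv.ext (h4 _ ⟨s, rfl⟩)
    rw [h5, Subgroup.mem_bot] at h6
    have h7 := congrArg Subtype.val h6
    rw [psi_coe] at h7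
    have h8 : ds F (s * (fun i : ZMod t => s (i + ((1 : ℕ) : ZMod t)))⁻¹) = ds F 1 := by
      rw [h7, ds_one]
      rfl
    have h9 := congrFun (ds_inj h2 h8) 0
    have : Fact (1 < t) := ⟨by omega⟩
    have h10 : (0 : ZMod t) + ((1 : ℕ) : ZMod t) ≠ 0 := by
      rw [zero_add, Nat.cast_one]
      exact one_ne_zero
    simp only [Pi.mul_apply, Pi.inv_apply, Pi.one_apply, s, if_true, if_neg h10] at h9
    exact absurd h9 (by decide)
  have htop : θ.ker = ⊤ := (hs2.eq_bot_or_eq_top_of_normal _ inferInstance).resolve_left hker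
  obtain ⟨w, hw⟩ := hW1
  have h5 := hcon w
  have h6 : ∀ i, θ (ro hto h2 hc ^ i) w = w := by
    intro i
    have h7 : ro hto h2 hc ^ i ∈ θ.ker := by rw [htop]; exact Subgroup.mem_top _
    rw [MonoidHom.mem_ker.1 h7]
    rfl
  rw [Finset.prod_congr rfl (fun i _ => h6 i), Finset.prod_const, Finset.card_range] at h5
  have h7 : orderOf w ∣ Nat.gcd t p := Nat.dvd_gcd (orderOf_dvd_of_pow_eq_one h5) (orderOf_dvd_of_pow_eq_one (hW w))
  rw [Nat.Coprime.gcd_eq_one ((Nat.coprime_primes ht hp).2 hpt.symm)] at h7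
  exact hw (orderOf_eq_one_iff.1 (Nat.dvd_one.1 h7))

/-- **An element of order three of `Ω₃(q)`, `q` prime to 6, with nonzero norm.** -/
theorem norm_three (h2 : (2 : F) ≠ 0) (h3 : (3 : F) ≠ 0) {c : F} (hc : c ≠ 0) {p : ℕ}
    (hp : p.Prime) (hp2 : p ≠ 2) (hp3 : p ≠ 3) {W : Type*} [CommGroup W] (θ : Om (D F 3 c) →* MulAut W)
    (hW : ∀ w : W, w ^ p = 1) (hW1 : ∃ w : W, w ≠ 1) :
    ∃ b : Om (D F 3 c), orderOf b = 3 ∧ ∃ w : W, ∏ i ∈ Finset.range 3, θ (b ^ i) w ≠ 1 := by
  obtain ⟨b, hb, w, hw, hbw⟩ := exists_fixed h2 h3 hc θ hW ((Nat.coprime_primes Nat.prime_two hp).2 hp2.symm) hW1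
  refine ⟨b, hb, w, ?_⟩
  have h6 : ∀ i, θ (b ^ i) w = w := by
    intro i
    induction i with
    | zero => rw [pow_zero, map_one]; rfl
    | succ i ih => rw [pow_succ, map_mul, MulAut.mul_apply, hbw, ih]
  rw [Finset.prod_congr rfl (fun i _ => h6 i), Finset.prod_const, Finset.card_range]
  intro h5
  have h7 : orderOf w ∣ Nat.gcd 3 p := Nat.dvd_gcd (orderOf_dvd_of_pow_eq_one h5) (orderOf_dvd_of_pow_eq_one (hW w))
  rw [Nat.Coprime.gcd_eq_one ((Nat.coprime_primes Nat.prime_three hp).2 hp3.symm)] at h7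
  exact hw (orderOf_eq_one_iff.1 (Nat.dvd_one.1 h7))

end Norm

section Three

variable {F : Type*} [Field F] [Fintype F]

/-- if the elements of order three have trivial norm then the elements `-refl_v` act trivially -/
theorem zv_trivial (h2 : (2 : F) ≠ 0) {c : F} (hc : c ≠ 0) {W : Type*} [CommGroup W]
    (θ : Om (D F 3 c) →* MulAut W) {e : ℕ} (he : ∀ v : W, v ^ e = 1) (hcop : Nat.Coprime 2 e)
    (hN : ∀ b : Om (D F 3 c), orderOf b = 3 → ∀ w : W, ∏ i ∈ Finset.range 3, θ (b ^ i) w = 1)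
    (v : ZMod 3 → F) (hv : D F 3 c v ≠ 0) (hvc : D F 3 c v = c) :
    ∃ h : zv v hv ∈ Om (D F 3 c), θ ⟨zv v hv, h⟩ = 1 := by
  classical
  have hodd : Odd 3 := by decide
  have key : ∀ (g : (ZMod 3 → F) ≃ₗ[F] (ZMod 3 → F)) (hg : g ∈ O (D F 3 c)) (t : ZMod 3 → ℤˣ),
      θ (kap hg (psi 3 1 c t)) = 1 := by
    intro g hg t
    let U := (psi (F := F) 3 1 c).range.map (kap hg)
    have hfin : Finite U := by
      have : Finite (psi (F := F) 3 1 c).range := inferInstance
      exact Finite.of_surjective _ ((kap hg).subgroupMap_surjective (psi (F := F) 3 1 c).range)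
    have hord : orderOf (kap hg (ro hodd h2 hc)) = 3 := by
      rw [orderOf_injective _ (kap_injective hg), orderOf_ro]
    have h4 := H371.Frob.trivial_of_norm θ U (c := kap hg (ro hodd h2 hc)) (m := 3) (e := e) (by norm_num)
      (by
        rintro _ ⟨_, ⟨t, rfl⟩, rfl⟩ i
        obtain ⟨s, hs⟩ := ro_inv_psi (m := 1) hodd h2 hc i t
        refine ⟨psi 3 1 c s, ⟨s, rfl⟩, ?_⟩
        rw [← hs, map_mul, map_mul, map_inv, map_pow])
      (by
        rintro i hi0 hi _ ⟨_, ⟨t, rfl⟩, rfl⟩ hcomm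
        rw [← map_pow, ← map_mul, ← map_mul] at hcomm
        rw [ro_free (n := 3) (m := 1) hodd h2 hc rfl (three_free i hi0 hi) t (kap_injective hg hcomm), map_one])
      he
      (by
        have h5 : Nat.card U ∣ 2 ^ 3 :=
          (Subgroup.card_map_dvd (psi (F := F) 3 1 c).range (kap hg)).trans (card_psi_range c)
        exact Nat.Coprime.coprime_dvd_left h5 (Nat.Coprime.pow_left 3 hcop))
      (hN _ hord)
      (kap hg (psi 3 1 c t)) ⟨_, ⟨t, rfl⟩, rfl⟩
    exact MulEquiv.ext h4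
  -- the involutions
  let e0 : ZMod 3 → F := Pi.single 0 1
  have e00 : e0 0 = 1 := Pi.single_eq_same _ _
  have e01 : e0 1 = 0 := Pi.single_eq_of_ne (by decide) _
  have e02 : e0 2 = 0 := Pi.single_eq_of_ne (by decide) _
  have hDe0 : D F 3 c e0 = c := by
    rw [D_apply, sum_three, e00, e01, e02]
    ring
  have he0 : D F 3 c e0 ≠ 0 := by rw [hDe0]; exact hc
  let t0 : ZMod 3 → ℤˣ := fun i => if i = 2 then -1 else 1
  have hz : ((psi 3 1 c t0 : Om (D F 3 c)) : (ZMod 3 → F) ≃ₗ[F] (ZMod 3 → F)) = zv e0 he0 := by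
    rw [psi_coe]
    apply LinearEquiv.ext
    intro x
    funext i
    rw [ds_apply, zv_apply, hDe0, polar_D, sum_three]
    have hcc : c⁻¹ * c = 1 := inv_mul_cancel₀ hc
    simp only [Pi.neg_apply, Pi.sub_apply, Pi.smul_apply, smul_eq_mul, e00, e01, e02]
    obtain rfl | rfl | rfl : i = 0 ∨ i = 1 ∨ i = 2 := by
      revert i; decide
    · have : (t0 * (fun i : ZMod 3 => t0 (i + ((1 : ℕ) : ZMod 3)))⁻¹) 0 = 1 := by decide
      rw [this, e00, Units.val_one, Int.cast_one]
      linear_combination (-2 * x 0) * hcc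
    · have : (t0 * (fun i : ZMod 3 => t0 (i + ((1 : ℕ) : ZMod 3)))⁻¹) 1 = -1 := by decide
      rw [this, e01]
      simp only [_root_.Units.val_neg, _root_.Units.val_one, _root_.Int.reduceNeg, _root_.Int.cast_neg, _root_.Int.cast_one, _root_.neg_mul, _root_.one_mul, _root_.MulZeroClass.zero_mul, _root_.add_zero, _root_.MulZeroClass.mul_zero, _root_.sub_zero]
    · have : (t0 * (fun i : ZMod 3 => t0 (i + ((1 : ℕ) : ZMod 3)))⁻¹) 2 = -1 := by decide
      rw [this, e02]
      simp only [_root_.Units.val_neg, _root_.Units.val_one, _root_.Int.reduceNeg, _root_.Int.cast_neg, _root_.Int.cast_one, _root_.neg_mul, _root_.one_mul, _root_.MulZeroClass.zero_mul, _root_.add_zero, _root_.MulZeroClass.mul_zero, _root_.sub_zero]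
  obtain ⟨g, hg, h5⟩ := exists_map h2 hc hDe0 hvc
  have hge : D F 3 c (g e0) ≠ 0 := by rw [mem_O.1 hg]; exact he0
  have h6 : zv v hv = zv (g e0) hge := by
    rcases h5 with h5 | h5
    · subst h5; rfl
    · have h7 : D F 3 c (-v) ≠ 0 := by rw [QuadraticMap.map_neg]; exact hv
      rw [← zv_neg hv h7]
      congr 1
      exact h5.symm
  have h7 : zv v hv = ((kap hg (psi 3 1 c t0) : Om (D F 3 c)) : (ZMod 3 → F) ≃ₗ[F] (ZMod 3 → F)) := by
    rw [h6]
    show _ = g * ((psi 3 1 c t0 : Om (D F 3 c)) : (ZMod 3 → F) ≃ₗ[F] (ZMod 3 → F)) * g⁻¹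
    rw [hz, zv_conj hg he0 hge]
  refine ⟨by rw [h7]; exact (kap hg (psi 3 1 c t0)).2, ?_⟩
  rw [← key g hg t0]
  congr 1
  exact Subtype.ext h7

/-- an isotropic vector -/
theorem exists_sing (h2 : (2 : F) ≠ 0) (c : F) : ∃ x : ZMod 3 → F, x ≠ 0 ∧ D F 3 c x = 0 := by
  have hchar : ringChar F ≠ 2 := by
    intro h
    apply h2
    have := ringChar.spec F 2
    rw [h] at this
    exact_mod_cast this.2 dvd_rfl
  obtain ⟨X, Y, h⟩ := FiniteField.exists_root_sum_quadratic (f := (Polynomial.X ^ 2 : Polynomial F))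
    (g := (Polynomial.X ^ 2 - Polynomial.C (-1) : Polynomial F))
    (Polynomial.degree_X_pow 2) (Polynomial.degree_X_pow_sub_C (by norm_num) _)
    (FiniteField.odd_card_of_char_ne_two hchar)
  let v : ZMod 3 → F := ![X, Y, 1]
  have v0 : v 0 = X := rfl
  have v1 : v 1 = Y := rfl
  have v2 : v 2 = 1 := rfl
  refine ⟨v, ?_, ?_⟩
  · intro h0
    have := congrFun h0 2
    rw [v2] at this
    exact one_ne_zero this
  · rw [D_apply, sum_three, v0, v1, v2]
    have h3 : X ^ 2 + (Y ^ 2 - -1) = 0 := by simpa only [_root_.sub_neg_eq_add, _root_.Polynomial.eval_pow, _root_.Polynomial.eval_X, _root_.map_neg, _root_.map_one, _root_.Polynomial.eval_add, _root_.Polynomial.eval_one] using h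
    linear_combination c * h3

/-- the torus element -/
theorem torus {c : F} (hc : c ≠ 0) {e f : ZMod 3 → F} (h : Hyp (D F 3 c) e f) (l : Fˣ)
    (hv : D F 3 c (e + c • f) ≠ 0) (hw : D F 3 c ((l : F) • e + ((l⁻¹ : Fˣ) * c : F) • f) ≠ 0) :
    D F 3 c (e + c • f) = c ∧ D F 3 c ((l : F) • e + ((l⁻¹ : Fˣ) * c : F) • f) = c ∧
      orderOf (zv _ hv * zv _ hw) = orderOf (l ^ 2) := by
  have hl : ((l⁻¹ : Fˣ) : F) * l = 1 := by rw [← Units.val_mul, inv_mul_cancel, Units.val_one]
  have e1 : polar (D F 3 c) e f = 1 := h.pair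
  have e2 : polar (D F 3 c) f e = 1 := by rw [polar_comm]; exact e1
  have e3 : polar (D F 3 c) e e = 0 := polar_self_of_sing h.left
  have e4 : polar (D F 3 c) f f = 0 := polar_self_of_sing h.right
  have q1 : D F 3 c (e + c • f) = c := by
    rw [Q_add, QuadraticMap.map_smul, h.left, h.right, polar_smul_right, e1]
    simp
  have q2 : D F 3 c ((l : F) • e + ((l⁻¹ : Fˣ) * c : F) • f) = c := by
    rw [Q_add, QuadraticMap.map_smul, QuadraticMap.map_smul, h.left, h.right, polar_smul_right, polar_smul_left, e1]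
    simp only [smul_eq_mul, mul_zero, mul_one, add_zero, zero_add]
    linear_combination c * hl
  refine ⟨q1, q2, ?_⟩
  have hcc : c⁻¹ * c = 1 := inv_mul_cancel₀ hc
  obtain ⟨L, hL⟩ : ∃ L : F, L = (l : F) := ⟨_, rfl⟩
  obtain ⟨M, hM⟩ : ∃ M : F, M = ((l⁻¹ : Fˣ) : F) := ⟨_, rfl⟩
  have hML : M * L = 1 := by rw [hM, hL]; exact hl
  have hR : ∀ x, (zv _ hv * zv _ hw) x = x + ((M ^ 2 - 1) * polar (D F 3 c) f x) • e +
      ((L ^ 2 - 1) * polar (D F 3 c) e x) • f := by
    intro x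
    show zv _ hv (zv _ hw x) = _
    rw [zv_apply, zv_apply, q1, q2]
    rw [← hL, ← hM]
    obtain ⟨a, ha⟩ : ∃ a, a = polar (D F 3 c) e x := ⟨_, rfl⟩
    obtain ⟨b, hb⟩ : ∃ b, b = polar (D F 3 c) f x := ⟨_, rfl⟩
    have p1 : polar (D F 3 c) (L • e + (M * c) • f) x = L * a + M * c * b := by
      rw [polar_add_left, polar_smul_left, polar_smul_left, ← ha, ← hb]; rfl
    rw [p1]
    have p2 : polar (D F 3 c) (e + c • f) (-(x - (c⁻¹ * (L * a + M * c * b)) • (L • e + (M * c) • f))) =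
        L ^ 2 * a + M ^ 2 * c * b := by
      rw [polar_neg_right, polar_sub_right, polar_smul_right, polar_add_left, polar_add_left, polar_smul_left,
        polar_smul_left, polar_add_right, polar_add_right, polar_smul_right, polar_smul_right, polar_smul_right,
        polar_smul_right, e1, e2, e3, e4, ← ha, ← hb]
      simp only [smul_eq_mul, mul_zero, mul_one, zero_add, add_zero]
      linear_combination (L * a + M * c * b) * (M + L) * hcc + (a + b * c) * hML
    rw [p2, ← ha, ← hb]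
    have k1 : (c⁻¹ * (L ^ 2 * a + M ^ 2 * c * b)) = c⁻¹ * L ^ 2 * a + M ^ 2 * b := by
      linear_combination (M ^ 2 * b) * hcc
    have k2 : (c⁻¹ * (L * a + M * c * b)) = c⁻¹ * L * a + M * b := by
      linear_combination (M * b) * hcc
    rw [k1, k2]
    have g1 : (M ^ 2 - 1) * b = (c⁻¹ * L ^ 2 * a + M ^ 2 * b) - (c⁻¹ * L * a + M * b) * L := by
      linear_combination b * hML
    have g2 : (L ^ 2 - 1) * a = (c⁻¹ * L ^ 2 * a + M ^ 2 * b) * c - (c⁻¹ * L * a + M * b) * (M * c) := by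
      linear_combination (-L ^ 2 * a) * hcc + a * (M * L) * hcc + a * hML
    rw [g1, g2]
    module
  have hpow : ∀ (k : ℕ) x, ((zv _ hv * zv _ hw) ^ k) x = x + ((M ^ (2 * k) - 1) * polar (D F 3 c) f x) • e +
      ((L ^ (2 * k) - 1) * polar (D F 3 c) e x) • f := by
    intro k
    induction k with
    | zero => intro x; simp only [_root_.Units.val_inv_eq_inv_val, _root_.pow_zero, _root_.LinearEquiv.coe_one, _root_.id_eq, _root_.MulZeroClass.mul_zero, _root_.sub_self, _root_.MulZeroClass.zero_mul, _root_.zero_smul, _root_.add_zero]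
    | succ k ih =>
      intro x
      rw [pow_succ]
      show ((zv _ hv * zv _ hw) ^ k) ((zv _ hv * zv _ hw) x) = _
      rw [ih, hR]
      have p1 : polar (D F 3 c) f (x + ((M ^ 2 - 1) * polar (D F 3 c) f x) • e +
          ((L ^ 2 - 1) * polar (D F 3 c) e x) • f) = M ^ 2 * polar (D F 3 c) f x := by
        rw [polar_add_right, polar_add_right, polar_smul_right, polar_smul_right, e2, e4]
        ring
      have p2 : polar (D F 3 c) e (x + ((M ^ 2 - 1) * polar (D F 3 c) f x) • e +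
          ((L ^ 2 - 1) * polar (D F 3 c) e x) • f) = L ^ 2 * polar (D F 3 c) e x := by
        rw [polar_add_right, polar_add_right, polar_smul_right, polar_smul_right, e1, e3]
        ring
      rw [p1, p2, mul_add, mul_one, pow_add, pow_add]
      module
  rw [orderOf_eq_orderOf_iff]
  intro k
  constructor
  · intro hk
    have h3 := hpow k f
    rw [hk, e1, e4] at h3
    have h4 : ((L ^ (2 * k) - 1) * 1) • f = 0 := by
      have h5 : f = f + (((M ^ (2 * k) - 1) * 0) • e + ((L ^ (2 * k) - 1) * 1) • f) := by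
        rw [← add_assoc]; exact h3
      rw [mul_zero, zero_smul, zero_add] at h5
      exact left_eq_add.1 h5
    rw [mul_one] at h4
    have hf0 : f ≠ 0 := by
      rintro rfl
      rw [polar_zero_right] at e1
      exact zero_ne_one e1
    have h5 := (smul_eq_zero.1 h4).resolve_right hf0
    rw [sub_eq_zero, hL] at h5
    apply Units.ext
    push_cast
    rw [← pow_mul]
    exact h5
  · intro hk
    have h3 : L ^ (2 * k) = 1 := by
      have := congrArg Units.val hk
      push_cast at this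
      rw [hL, pow_mul]
      exact this
    have h4 : M ^ (2 * k) = 1 := by
      have h5 : (M * L) ^ (2 * k) = 1 := by rw [hML, one_pow]
      rw [mul_pow, h3, mul_one] at h5
      exact h5
    apply LinearEquiv.ext
    intro x
    rw [hpow, h3, h4]
    simp

end Three

section CBad

variable {F : Type*} [Field F] [Fintype F]

/-- **(a)** `q` prime to six -/
theorem cbad_a (h2 : (2 : F) ≠ 0) (h3 : (3 : F) ≠ 0) {κ : F} (hκ : κ ≠ 0) {p r : ℕ} (hp : p.Prime) (hp2 : p ≠ 2)
    (hp3 : p ≠ 3) (hr : r.Prime) (hr3 : r ≠ 3) {X : Set ℕ} (hX : 3 * p * r ∉ X) : CBad.{u} (Om (D F 3 κ)) X p r := by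
  intro W _ θ hW hW1
  obtain ⟨b, hb, w, hw⟩ := norm_three h2 h3 hκ hp hp2 hp3 θ hW hW1
  exact ⟨b, by rw [hb]; exact (Nat.coprime_primes Nat.prime_three hr).2 hr3.symm, by rw [hb]; exact hX, w,
    by rw [hb]; exact hw⟩

/-- **(b)** characteristic three, `t = 3` -/
theorem cbad_b (h2 : (2 : F) ≠ 0) (h3 : 3 ∣ Fintype.card F) {κ : F} (hκ : κ ≠ 0) {r : ℕ} (hr : r.Prime)
    (hr3 : r ≠ 3) (hrq : Nat.Coprime ((Fintype.card F - 1) / 2) r) {X : Set ℕ} (hX : 3 * 3 * r ∉ X)
    (hX' : (Fintype.card F - 1) / 2 * 3 * r ∉ X) : CBad.{u} (Om (D F 3 κ)) X 3 r := by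
  classical
  intro W _ θ hW hW1
  by_cases hN : ∀ b : Om (D F 3 κ), orderOf b = 3 → ∀ w : W, ∏ i ∈ Finset.range 3, θ (b ^ i) w = 1
  · obtain ⟨e, he0, he⟩ := exists_sing h2 κ
    obtain ⟨f, hef⟩ := exists_hyp (nondeg_D h2 hκ) he he0
    obtain ⟨l, hl⟩ := IsCyclic.exists_generator (α := Fˣ)
    have hlo : orderOf l = Fintype.card F - 1 := by
      rw [orderOf_eq_card_of_forall_mem_zpowers hl, Nat.card_eq_fintype_card, Fintype.card_units]
    have hcc : ((l⁻¹ : Fˣ) : F) * l = 1 := by rw [← Units.val_mul, inv_mul_cancel, Units.val_one]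
    have q1 : D F 3 κ (e + κ • f) = κ := by
      rw [Q_add, QuadraticMap.map_smul, hef.left, hef.right, polar_smul_right, hef.pair]
      simp
    have q2 : D F 3 κ ((l : F) • e + ((l⁻¹ : Fˣ) * κ : F) • f) = κ := by
      rw [Q_add, QuadraticMap.map_smul, QuadraticMap.map_smul, hef.left, hef.right, polar_smul_right,
        polar_smul_left, hef.pair]
      simp only [smul_eq_mul, mul_zero, mul_one, add_zero, zero_add]
      linear_combination κ * hcc
    have hv : D F 3 κ (e + κ • f) ≠ 0 := by rw [q1]; exact hκ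
    have hw : D F 3 κ ((l : F) • e + ((l⁻¹ : Fˣ) * κ : F) • f) ≠ 0 := by rw [q2]; exact hκ
    obtain ⟨-, -, ho⟩ := torus hκ hef l hv hw
    obtain ⟨m1, t1⟩ := zv_trivial h2 hκ θ hW (by decide) hN _ hv q1
    obtain ⟨m2, t2⟩ := zv_trivial h2 hκ θ hW (by decide) hN _ hw q2
    have hodd : Even (Fintype.card F - 1) := by
      obtain ⟨e', he'⟩ := QUpper.card_odd_eq (F := F) h2
      exact ⟨e', by (clear * - he'; omega)⟩
    have ho2 : orderOf (l ^ 2) = (Fintype.card F - 1) / 2 := by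
      rw [orderOf_pow_of_dvd (by norm_num) (by rw [hlo]; exact even_iff_two_dvd.1 hodd), hlo]
    obtain ⟨b, hb⟩ : ∃ b : Om (D F 3 κ), b = ⟨zv _ hv, m1⟩ * ⟨zv _ hw, m2⟩ := ⟨_, rfl⟩
    have hbo : orderOf b = (Fintype.card F - 1) / 2 := by
      rw [← Subgroup.orderOf_coe, hb, Subgroup.coe_mul, ← ho2, ← ho]
    have hb1 : θ b = 1 := by rw [hb, map_mul, t1, t2, mul_one]
    obtain ⟨w, hw⟩ := hW1
    refine ⟨b, by rw [hbo]; exact hrq, by rw [hbo]; exact hX', w, ?_⟩
    have h6 : ∀ i, θ (b ^ i) w = w := by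
      intro i
      rw [map_pow, hb1, one_pow]
      rfl
    rw [Finset.prod_congr rfl (fun i _ => h6 i), Finset.prod_const, Finset.card_range, hbo]
    intro h5
    have h7 : orderOf w ∣ Nat.gcd ((Fintype.card F - 1) / 2) 3 :=
      Nat.dvd_gcd (orderOf_dvd_of_pow_eq_one h5) (orderOf_dvd_of_pow_eq_one (hW w))
    have h8 : Nat.Coprime ((Fintype.card F - 1) / 2) 3 := by
      rw [Nat.Coprime, Nat.gcd_comm]
      refine (Nat.Prime.coprime_iff_not_dvd Nat.prime_three).2 fun h9 => ?_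
      have h10 : 3 ∣ Fintype.card F - 1 := by
        obtain ⟨k, hk⟩ := hodd
        have : Fintype.card F - 1 = 2 * ((Fintype.card F - 1) / 2) := by (clear * - hk; omega)
        rw [this]
        exact h9.mul_left 2
      have h11 : 0 < Fintype.card F := Fintype.card_pos
      omega
    rw [Nat.Coprime.gcd_eq_one h8] at h7
    exact hw (orderOf_eq_one_iff.1 (Nat.dvd_one.1 h7))
  · push Not at hN
    obtain ⟨b, hb, w, hw⟩ := hN
    exact ⟨b, by rw [hb]; exact (Nat.coprime_primes Nat.prime_three hr).2 hr3.symm, by rw [hb]; exact hX, w,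
      by rw [hb]; exact hw⟩

/-- **(c)** `t ≥ 5` prime -/
theorem cbad_c (h2 : (2 : F) ≠ 0) {t : ℕ} [NeZero t] (ht : t.Prime) (ht5 : 5 ≤ t) {κ : F} (hκ : κ ≠ 0) {p r : ℕ}
    (hp : p.Prime) (hp2 : p ≠ 2) (hpt : p ≠ t) (hr : r.Prime) (hrt : r ≠ t) {X : Set ℕ} (hX : t * p * r ∉ X) :
    CBad.{u} (Om (D F t κ)) X p r := by
  intro W _ θ hW hW1
  obtain ⟨b, hb, w, hw⟩ := norm_t ht ht5 h2 hκ hp hp2 hpt θ hW hW1
  exact ⟨b, by rw [hb]; exact (Nat.coprime_primes ht hr).2 hrt.symm, by rw [hb]; exact hX, w,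
    by rw [hb]; exact hw⟩

/-- overgroups -/
theorem CBad.mono {C C' : Type*} [Group C] [Group C'] {f : C →* C'} (hf : Function.Injective f) {X : Set ℕ} {p r : ℕ}
    (h : CBad.{u} C X p r) : CBad.{u} C' X p r := by
  intro W _ θ hW hW1
  obtain ⟨b, h1, h3, w, hw⟩ := h W (θ.comp f) hW hW1
  refine ⟨f b, by rw [orderOf_injective f hf]; exact h1, by rw [orderOf_injective f hf]; exact h3, w, ?_⟩
  rw [orderOf_injective f hf]
  simpa only [_root_.map_pow, _root_.ne_eq, _root_.MonoidHom.coe_comp, _root_.Function.comp_apply] using hw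

/-- **(d)** the Frobenius group `2 ^ (t - 1) : t` in dimension `t` -/
theorem exists_frob_t (h2 : (2 : F) ≠ 0) {t : ℕ} (ht : t.Prime) (ht2 : t ≠ 2) {V : Type*} [AddCommGroup V]
    [Module F V] [FiniteDimensional F V] [Finite V] {Q : QuadraticForm F V} (hQ : Nondeg Q) (hV : finrank F V = t) :
    ∃ (U : Subgroup (Om Q)) (c : Om Q), orderOf c = t ∧ (∀ a ∈ U, c * a * c⁻¹ ∈ U) ∧
      (∀ i, 0 < i → i < orderOf c → ∀ a ∈ U, c ^ i * a = a * c ^ i → a = 1) ∧ Nat.card U ∣ 2 ^ t ∧ U ≠ ⊥ := by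
  classical
  have hto : Odd t := ht.odd_of_ne_two ht2
  have hne : NeZero t := ⟨ht.ne_zero⟩
  obtain ⟨κ, e, hκ, he⟩ := exists_frame (n := t) h2 hto hQ hV
  let E := omCongr he
  let U := (psi (F := F) t 1 κ).range
  have hfin : Finite U := inferInstance
  refine ⟨U.map E.toMonoidHom, E (ro hto h2 hκ), ?_, ?_, ?_, ?_, ?_⟩
  · rw [MulEquiv.orderOf_eq, orderOf_ro]
  · rintro _ ⟨_, ⟨s, rfl⟩, rfl⟩
    refine ⟨psi t 1 κ (fun i => s (i + 1)), ⟨_, rfl⟩, ?_⟩
    have h1 := ro_psi (m := 1) hto h2 hκ s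
    show E (psi t 1 κ (fun i => s (i + 1))) = E (ro hto h2 hκ) * E (psi t 1 κ s) * (E (ro hto h2 hκ))⁻¹
    rw [← map_mul, h1, map_mul, mul_inv_cancel_right]
  · rintro i hi0 hi _ ⟨_, ⟨s, rfl⟩, rfl⟩ hcomm
    rw [MulEquiv.orderOf_eq, orderOf_ro] at hi
    have h1 : ro hto h2 hκ ^ i * psi t 1 κ s = psi t 1 κ s * ro hto h2 hκ ^ i := by
      apply E.injective
      rw [map_mul, map_mul, map_pow]
      exact hcomm
    show E (psi t 1 κ s) = 1
    rw [free_t ht hto h2 hκ hi0 hi s h1, map_one]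
  · exact (Subgroup.card_map_dvd U E.toMonoidHom).trans (card_psi_range κ)
  · intro h
    rw [Subgroup.map_eq_bot_iff_of_injective _ E.injective] at h
    let s : ZMod t → ℤˣ := fun i => if i = 0 then -1 else 1
    have h6 : psi t 1 κ s ∈ U := ⟨s, rfl⟩
    rw [h, Subgroup.mem_bot] at h6
    have h7 := congrArg Subtype.val h6
    rw [psi_coe] at h7
    have h8 : ds F (s * (fun i : ZMod t => s (i + ((1 : ℕ) : ZMod t)))⁻¹) = ds F 1 := by
      rw [h7, ds_one]
      rfl
    have h9 := congrFun (ds_inj h2 h8) 0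
    have : Fact (1 < t) := ⟨ht.one_lt⟩
    have h10 : (0 : ZMod t) + ((1 : ℕ) : ZMod t) ≠ 0 := by
      rw [zero_add, Nat.cast_one]
      exact one_ne_zero
    simp only [Pi.mul_apply, Pi.inv_apply, Pi.one_apply, s, if_true, if_neg h10] at h9
    exact absurd h9 (by decide)

end CBad

end Cfsg.Agent.H104.CBadOm
end

-- part: H403/S88/K8B
section
/-!
# S3588: `L = PSp_2n(q)`, `S = Ω_2n+1(q)`, `q` odd, continued (helper403)

* `C8` : the context; `C8.two_K`, `C8.r_K` : `2` and `r` do not divide `|K|`;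
* `C8.fin` : the final contradiction from `CBad`.
-/

set_option autoImplicit false
set_option linter.unusedSectionVars false

namespace Cfsg.Agent.H403.S88

open Subgroup Cfsg Cfsg.Agent.H403.S88.Grp Cfsg.Agent.H390 Cfsg.Agent.H390.NonAdj
open QuadraticMap Module Cfsg.Agent.H229.T
open Cfsg.Agent.LieClassical.OrthCore Cfsg.Agent.LieClassical.OrthForms Cfsg.Agent.LieClassical.OrthFinite

universe u

/-- the context -/
structure C8 (p n k : ℕ) (F₁ F : Type) [Field F₁] [Fintype F₁] [Field F] [Fintype F] {G : Type u} [Group G]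
    (K : Subgroup G) [K.Normal] (S : Subgroup (G ⧸ K)) (s2 : ℕ) : Prop where
  hp : p.Prime
  hp2 : p ≠ 2
  hn : 5 ≤ n
  hk : 1 ≤ k
  hF₁ : Fintype.card F₁ = p ^ k
  hF : Fintype.card F = p ^ k
  ch₁ : CharP F₁ p
  ch : CharP F p
  sol : Group.IsSolvable K
  norm : S.Normal
  simple : IsSimpleGroup S
  cent : Subgroup.centralizer (S : Set (G ⧸ K)) = ⊥
  iso : Nonempty (S ≃* POmega F (quadFormOdd n F))
  hG : ∀ m, (∃ g : G, orderOf g = m) ↔ m ∈ om n F₁
  hs : ∀ s, s.Prime → orderOf (p : ZMod s) = 2 * n * k → ¬ s ∣ Nat.card K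
  s2p : s2.Prime
  s22 : s2 ≠ 2
  s2d : s2 ∣ Nat.card S
  s2o : s2 * 2 ∉ om n F₁
  s2K : ¬ s2 ∣ Nat.card K
  hub : ∀ w, w.Prime → ∃ z, z.Prime ∧ z ≠ w ∧ z ∣ Nat.card S ∧ z * w ∉ om n F₁

/-- `|PΩ_2n+1(q)| = |PSp_2n(q)|` -/
theorem card_eq {F₁ F : Type} [Field F₁] [Fintype F₁] [Field F] [Fintype F] (h : Fintype.card F₁ = Fintype.card F)
    (hodd : Odd (Fintype.card F)) {n : ℕ} (hn : 3 ≤ n) : Nat.card (POmega F (quadFormOdd n F)) = Nat.card (PSp n F₁) := by
  have h1 := Cfsg.Agent.S0245.result (F := F₁) rfl n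
  have h2 := Cfsg.Agent.S0246.result (F := F₁) rfl n (by omega)
  have h3 := Subgroup.card_eq_card_quotient_mul_card_subgroup (Subgroup.center (Matrix.symplecticGroup (Fin n) F₁))
  have h4 := Cfsg.Agent.S0292.result (F := F) rfl hodd n hn
  have hgcd : Nat.gcd 2 (Fintype.card F₁ - 1) = 2 := by
    apply Nat.gcd_eq_left
    rw [h]
    obtain ⟨m, hm⟩ := hodd
    exact ⟨m, by omega⟩
  rw [h1, h2, hgcd, h, ← h4] at h3
  have h5 : Nat.card (POmega F (quadFormOdd n F)) = Nat.card (Matrix.symplecticGroup (Fin n) F₁ ⧸ Subgroup.center (Matrix.symplecticGroup (Fin n) F₁)) := by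
    omega
  exact h5

section

variable {p n k : ℕ} {F₁ F : Type} [Field F₁] [Fintype F₁] [Field F] [Fintype F] {G : Type u} [Group G] [Finite G]
  {K : Subgroup G} [K.Normal] {S : Subgroup (G ⧸ K)} {s2 : ℕ}

theorem C8.odd (C : C8 p n k F₁ F K S s2) : Odd (p ^ k) := (C.hp.odd_of_ne_two C.hp2).pow

theorem C8.base (C : C8 p n k F₁ F K S s2) {s : ℕ} (hs : s.Prime) (hsd : s ∣ Nat.card S) :
    ∃ y, Base (om n F₁) S s y := by
  have := Fact.mk hs
  have := C.norm
  obtain ⟨x, hx⟩ := exists_prime_orderOf_dvd_card' s hsd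
  have hx1 : (x : G ⧸ K) ≠ 1 := by
    intro h
    have h1 : x = 1 := Subtype.ext h
    rw [h1, orderOf_one] at hx
    exact hs.one_lt.ne hx
  exact ⟨x, om_dvd, hs, by rw [Subgroup.orderOf_coe, hx], le_normalClosure C.simple x.2 hx1, C.hub⟩

theorem C8.cardS (C : C8 p n k F₁ F K S s2) : Nat.card S = Nat.card (PSp n F₁) := by
  obtain ⟨e⟩ := C.iso
  rw [Nat.card_congr e.toEquiv]
  exact card_eq (by rw [C.hF₁, C.hF]) (by rw [C.hF]; exact C.odd) (by have := C.hn; omega)

theorem C8.exists_om (C : C8 p n k F₁ F K S s2) :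
    Nonempty (S ≃* Om (oddForm n F)) := by
  obtain ⟨e⟩ := C.iso
  have h2 : (2 : F) ≠ 0 := Cfsg.Agent.H229.T.two_ne_zero_of_odd (by rw [C.hF]; exact C.odd)
  have hn := C.hn
  have hcard : Fintype.card (Unit ⊕ (Fin n ⊕ Fin n)) = 2 * n + 1 := by
    simp only [Fintype.card_sum, Fintype.card_unit, Fintype.card_fin]
    ring
  obtain ⟨e'⟩ := exists_pomega h2 (nondeg_oddForm n F h2) (by rw [hcard]; omega) (by rw [hcard]; exact ⟨n, rfl⟩)
  rw [coe_oddForm] at e'
  exact ⟨e.trans e'⟩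

/-- the primes of class `2 n` -/
theorem C8.sp (C : C8 p n k F₁ F K S s2) {s : ℕ} (hs : s.Prime) (ho : orderOf (p : ZMod s) = 2 * n * k) :
    s ∣ Nat.card S ∧ s * p ∉ om n F₁ ∧ s ≠ p := by
  have hn := C.hn
  have hk := C.hk
  have hp := C.hp
  have := C.ch₁
  have := Fact.mk hp
  have hoq := orderOf_q hk ho
  obtain ⟨hs2, hs3, hsq, -, -⟩ := prim_cond hs hoq (by omega)
  have hsp : s ≠ p := by
    rintro rfl
    apply hsq
    exact dvd_pow_self _ (by omega)
  have hsd : s ∣ Nat.card (PSp n F₁) := by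
    exact dvd_card_psp (e := 2 * n) (η := n) hs (by rw [Nat.card_eq_fintype_card, C.hF₁, hoq]) (by omega)
      (Or.inr ⟨⟨n, by ring⟩, rfl⟩) le_rfl
  refine ⟨by rw [C.cardS]; exact hsd, ?_, hsp⟩
  rintro ⟨x, hx⟩
  have h1 := (Cfsg.Agent.S2472.result (F := F₁) p n (by omega) (by omega) s hs hs2 hsp hsd (2 * n) n
    (by rw [C.hF₁, hoq]) (Or.inr ⟨⟨n, by ring⟩, rfl⟩)).2 (by omega)
  exact h1 ⟨x, hx⟩

/-- the prime `s` of class `2 n` -/
theorem C8.exists_s (C : C8 p n k F₁ F K S s2) : ∃ s, s.Prime ∧ orderOf (p : ZMod s) = 2 * n * k ∧ s ∣ Nat.card S ∧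
    s * p ∉ om n F₁ ∧ s ≠ p := by
  have hn := C.hn
  have hk := C.hk
  have hp3 : 3 ≤ p := by
    have := C.hp.two_le
    have := C.hp2
    omega
  have hdk : n ≤ n * k := Nat.le_mul_of_pos_right n (by omega)
  obtain ⟨s, hs, ho⟩ := Cfsg.Agent.Lib.Zsigmondy.exists_prime_orderOf (a := p) (n := 2 * n * k) (by omega)
    (by rw [mul_assoc]; omega) (by rw [mul_assoc]; omega) (by rintro ⟨h, -⟩; omega)
  obtain ⟨h1, h2, h3⟩ := C.sp hs ho
  exact ⟨s, hs, ho, h1, h2, h3⟩

/-- the exact power of two -/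
theorem C8.two_exact (C : C8 p n k F₁ F K S s2) {j0 : ℕ} (hj : 2 ≤ j0) :
    ∃ a, padicValNat 2 ((p ^ k) ^ 2 ^ j0 - 1) = a ∧ 2 ^ a ∣ (p ^ k) ^ 2 ^ j0 - 1 ∧ ¬ 2 ^ (a + 1) ∣ (p ^ k) ^ 2 ^ j0 - 1 ∧
      2 ^ (a + 1) ∣ (p ^ k) ^ 2 ^ (j0 + 1) - 1 ∧ ¬ 2 ^ (a + 2) ∣ (p ^ k) ^ 2 ^ (j0 + 1) - 1 := by
  have hodd := C.odd
  set q := p ^ k with hq
  have hq1 : 1 < q := Nat.one_lt_pow (by have := C.hk; omega) C.hp.one_lt
  have hm : q ^ 2 ^ j0 - 1 ≠ 0 := by
    have : 1 < q ^ 2 ^ j0 := Nat.one_lt_pow (by positivity) hq1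
    omega
  have := Fact.mk Nat.prime_two
  have h1 : q ^ 2 ^ (j0 + 1) - 1 = (q ^ 2 ^ j0 + 1) * (q ^ 2 ^ j0 - 1) := by
    rw [pow_succ 2 j0, pow_mul]
    have := Nat.sq_sub_sq (q ^ 2 ^ j0) 1
    rwa [one_pow] at this
  -- `q ^ m ≡ 1 mod 4`
  have h4 : q ^ 2 ^ j0 % 4 = 1 := by
    have h5 : (2 : ℕ) ^ j0 = 2 * 2 ^ (j0 - 1) := by rw [← pow_succ']; congr 1; omega
    rw [h5, pow_mul, Nat.pow_mod]
    have h6 : q ^ 2 % 4 = 1 := by
      rw [Nat.pow_mod]
      have : q % 4 = 1 ∨ q % 4 = 3 := by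
        obtain ⟨t, ht⟩ := hodd
        omega
      rcases this with h | h <;> rw [h]
    rw [h6, one_pow]
    norm_num
  obtain ⟨t, ht⟩ : ∃ t, q ^ 2 ^ j0 + 1 = 2 * (2 * t + 1) := ⟨(q ^ 2 ^ j0 - 1) / 4, by omega⟩
  refine ⟨_, rfl, pow_padicValNat_dvd, pow_succ_padicValNat_not_dvd hm, ?_, ?_⟩
  · rw [h1, ht, pow_succ']
    exact Nat.mul_dvd_mul (Nat.dvd_mul_right _ _) pow_padicValNat_dvd
  · rw [h1, ht]
    intro h
    set a := padicValNat 2 (q ^ 2 ^ j0 - 1) with ha
    have h7 : 2 ^ (a + 1) ∣ (2 * t + 1) * (q ^ 2 ^ j0 - 1) := by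
      apply Nat.dvd_of_mul_dvd_mul_left (show 0 < 2 by norm_num)
      rw [← pow_succ', ← mul_assoc]
      exact h
    have h8 : Nat.Coprime (2 ^ (a + 1)) (2 * t + 1) := by
      apply Nat.Coprime.pow_left
      rw [Nat.coprime_two_left]
      exact ⟨t, rfl⟩
    exact pow_succ_padicValNat_not_dvd hm (h8.dvd_of_dvd_mul_left h7)

/-- `t` does not divide `|K|` -/
theorem C8.not_dvd (C : C8 p n k F₁ F K S s2) {s : ℕ} (hs : s.Prime) (hsS : s ∣ Nat.card S) (hsK : ¬ s ∣ Nat.card K)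
    {t : ℕ} (ht : t.Prime) (htp : t ≠ p) (hst : s ≠ t) (hts : s * t ∉ om n F₁) {m : ℕ} (hm0 : 1 ≤ m) (hm : Even m)
    (hmn : m + 1 ≤ n) (hct : 2 ^ padicValNat 2 ((p ^ k) ^ m - 1) * t ∉ om n F₁) : ¬ t ∣ Nat.card K := by
  obtain ⟨e⟩ := C.exists_om
  obtain ⟨y, hb⟩ := C.base hs hsS
  have h2 : (2 : F) ≠ 0 := Cfsg.Agent.H229.T.two_ne_zero_of_odd (by rw [C.hF]; exact C.odd)
  exact not_dvd_aux h2 (nondeg_oddForm n F h2) (by simp only [_root_.Module.finrank_fintype_fun_eq_card, _root_.Fintype.card_sum, _root_.Fintype.card_unique, _root_.Fintype.card_fin]; ring) C.simple e C.sol (fun g => (C.hG _).1 ⟨g, rfl⟩) hb ht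
    (by
      rw [C.hF]
      intro h
      exact htp ((Nat.prime_dvd_prime_iff_eq ht C.hp).1 (ht.dvd_of_dvd_pow h))) hst hts hm0 hm hmn (by rw [C.hF]; exact hct) hsK

/-- **`2 ∤ |K|`** -/
theorem C8.two_K (C : C8 p n k F₁ F K S s2) : ¬ 2 ∣ Nat.card K := by
  have hn := C.hn
  obtain ⟨j0, hj, hj1, hj2⟩ := exists_j0 C.hn
  obtain ⟨a, ha, h1, h2, h3, h4⟩ := C.two_exact hj
  have hj3 : (2 : ℕ) ^ j0 = 2 ^ (j0 - 1) * 2 := by rw [← pow_succ]; congr 1; omega
  refine C.not_dvd C.s2p C.s2d C.s2K Nat.prime_two (fun h => C.hp2 h.symm) C.s22 C.s2o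
    (m := 2 ^ j0) (Nat.one_le_two_pow) ⟨2 ^ (j0 - 1), by omega⟩ (by omega) ?_
  rw [ha, ← pow_succ]
  rintro ⟨x, hx⟩
  have h20 : (2 : F₁) ≠ 0 := Cfsg.Agent.H229.T.two_ne_zero_of_odd (by rw [C.hF₁]; exact C.odd)
  refine Cfsg.Agent.H415.SpTwo.no_two h20 (n := n) (j := j0) (a := a + 1) (by omega) (by omega) hj2 (by rw [C.hF₁]; exact h3)
    (by rw [C.hF₁]; exact h4) x hx

/-- **`r ∤ |K|`** -/
theorem C8.r_K (C : C8 p n k F₁ F K S s2) {c d jj r E bb : ℕ} (P : Par p n k c d jj r E bb)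
    (hc : ∀ j0, 2 ≤ j0 → 2 ^ j0 < n → n ≤ 2 * 2 ^ j0 → c < 2 ^ j0) : ¬ r ∣ Nat.card K := by
  have hn := C.hn
  have hPn := P.hn
  have hPc := P.c1
  have hPcd := P.cd
  obtain ⟨s, hs, ho, hsS, hsp, hsp'⟩ := C.exists_s
  obtain ⟨j0, hj, hj1, hj2⟩ := exists_j0 C.hn
  obtain ⟨a, ha, h1, h2, h3, h4⟩ := C.two_exact hj
  have hj3 : (2 : ℕ) ^ j0 = 2 ^ (j0 - 1) * 2 := by rw [← pow_succ]; congr 1; omega
  have hcj := hc j0 hj hj1 hj2
  have hoq := orderOf_q C.hk ho
  have hrs : s ≠ r := by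
    rintro rfl
    rcases P.ord with h | ⟨h, -⟩ <;> rw [hoq] at h <;> omega
  have hrp : r ≠ p := by
    rintro rfl
    apply P.cls.hrq
    exact dvd_pow_self _ (by have := C.hk; omega)
  refine C.not_dvd hs hsS (C.hs s hs ho) P.cls.hr hrp hrs ?_ (m := 2 ^ j0) (Nat.one_le_two_pow)
    ⟨2 ^ (j0 - 1), by omega⟩ (by omega) ?_
  · rintro ⟨x, hx⟩
    have hna := na_psp (F := F₁) (n := n) (by omega) (by omega)
    rw [Nat.card_eq_fintype_card, C.hF₁] at hna
    rcases P.ord with h | ⟨h, hdo⟩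
    · refine hna s r (2 * n) (2 * d) n d hs P.cls.hr hoq h hrs (by omega) (by omega) (Or.inr ⟨⟨n, by ring⟩, rfl⟩)
        (Or.inr ⟨⟨d, by ring⟩, rfl⟩) (by omega) (by omega) (by omega) ?_ x hx
      rintro ⟨t, ht, hnt⟩
      have ht1 : t = 1 := by
        by_contra ht1
        have ht3 : 3 ≤ t := by
          obtain ⟨i, hi⟩ := ht
          omega
        have : 2 * d * 3 ≤ 2 * d * t := Nat.mul_le_mul_left _ ht3
        omega
      rw [ht1, mul_one] at hnt
      omega
    · refine hna s r (2 * n) d n d hs P.cls.hr hoq h hrs (by omega) (by omega) (Or.inr ⟨⟨n, by ring⟩, rfl⟩)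
        (Or.inl ⟨hdo, rfl⟩) (by omega) (by omega) (by omega) ?_ x hx
      rintro ⟨t, ht, hnt⟩
      have := hdo.mul ht
      rw [← hnt] at this
      exact absurd ⟨n, by ring⟩ (Nat.not_even_iff_odd.2 this)
  · rw [ha, mul_comm]
    rintro ⟨x, hx⟩
    refine psp_no_r_two (F := F₁) (by rw [C.hF₁]; exact C.odd) (a := a) (j := j0) (by omega) (by rw [C.hF₁]; exact h1)
      (by rw [C.hF₁]; exact h2) (d := d) (E := E) (by rw [C.hF₁]; exact P.cls) (by have := P.hn2; omega)
      (fun h => P.hodd (by rw [h, C.hF₁])) (by omega) x hx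

/-- **The final contradiction.** -/
theorem C8.fin' (C : C8 p n k F₁ F K S s2) {c d jj r E bb : ℕ} (P : Par p n k c d jj r E bb)
    (hrK : ¬ r ∣ Nat.card K) (hmem : ∀ z x : G ⧸ K, orderOf z = r → Commute x z → x ∈ S)
    (h : ∀ a u : G, orderOf a = r → u ∈ (QuotientGroup.mk' K).ker → orderOf u = p → ¬ Commute u a) : False := by
  have hn := C.hn
  have hp := C.hp
  have := Fact.mk hp
  have := C.ch₁
  have := C.ch
  have hPn := P.hn
  have hPc := P.c1
  have hPcd := P.cd
  have hr := P.cls.hr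
  have hr2 := P.cls.hr2
  have h2K := C.two_K
  have hker : (QuotientGroup.mk' K).ker = K := QuotientGroup.ker_mk' K
  -- an element of `G`
  have hodd := C.odd
  have h20 : (2 : F₁) ≠ 0 := Cfsg.Agent.H229.T.two_ne_zero_of_odd (by rw [C.hF₁]; exact hodd)
  have hE0 : 2 ∣ E := by
    have h1 : Odd ((p ^ k) ^ d) := hodd.pow
    obtain ⟨t, ht⟩ := h1
    rcases P.hE with h | h
    · exact ⟨t + 1, by omega⟩
    · exact ⟨t, by omega⟩
  obtain ⟨x, hx⟩ : ∃ x : PSp n F₁, orderOf x = p ^ jj * E := by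
    obtain ⟨h1, h3⟩ := Cfsg.Agent.H497.Spec.exists_unip_tor F₁ (p := p) h20 (c := c) (d := d) (j := jj) P.c1 (by omega)
      P.jj1 P.jjl
    rw [C.hF₁, ← hPn] at h1 h3
    rcases P.hE with h | h
    · rw [h]; exact h1
    · rw [h]; exact h3
  have hrbE : r * 2 ^ bb ∣ E :=
    Nat.Coprime.mul_dvd_of_dvd_of_dvd (Nat.Coprime.pow_right _ ((Nat.coprime_primes hr Nat.prime_two).2 hr2)) P.rE P.bb1
  have hmemO : p ^ jj * r * 2 ^ bb ∈ om n F₁ := by
    refine om_dvd _ _ ?_ ⟨x, hx⟩
    rw [mul_assoc]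
    exact Nat.mul_dvd_mul_left _ hrbE
  obtain ⟨g, hg⟩ := (C.hG _).2 hmemO
  have himg := order_image (QuotientGroup.mk' K) hp hr (by rw [hker]; exact h2K) (by rw [hker]; exact hrK) h hg
  -- it is in `S`
  set a := QuotientGroup.mk' K g with hadef
  have ha0 : 0 < orderOf a := orderOf_pos a
  have haS : a ∈ S := by
    refine hmem (a ^ (orderOf a / r)) a ?_ ((Commute.refl a).pow_right _)
    have hra : r ∣ orderOf a := by
      rw [himg]
      exact (Nat.dvd_mul_left r _).mul_right _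
    rw [orderOf_pow_of_dvd (Nat.div_pos (Nat.le_of_dvd ha0 hra) hr.pos).ne' (Nat.div_dvd_of_dvd hra),
      Nat.div_div_self hra ha0.ne']
  obtain ⟨e⟩ := C.iso
  have h21 : (2 : F) ≠ 0 := Cfsg.Agent.H229.T.two_ne_zero_of_odd (by rw [C.hF]; exact hodd)
  refine Cfsg.Agent.H104.NoElt.no_elt_oodd h21 (n := n) (m := d) (c := c) (by omega) P.cd (by omega) hr hr2
    (by rw [C.hF]; exact P.min) (b := bb) ?_ P.jj1 P.jju (e ⟨a, haS⟩) ?_
  · rw [C.hF]
    have hbbE : ¬ 2 ^ bb ∣ E / 2 := by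
      intro h1
      apply P.bb2
      obtain ⟨t, ht⟩ := hE0
      rw [ht, Nat.mul_div_cancel_left _ (by norm_num)] at h1
      rw [ht, pow_succ']
      exact Nat.mul_dvd_mul_left _ h1
    rcases P.hE with h | h
    · right
      rw [← h]
      exact ⟨P.rE, hbbE⟩
    · left
      rw [← h]
      exact ⟨P.rE, hbbE⟩
  · rw [MulEquiv.orderOf_eq, ← Subgroup.orderOf_coe]
    exact himg

/-- The final contradiction from `CBad`. -/
theorem C8.fin (C : C8 p n k F₁ F K S s2) {c d jj r E bb : ℕ} (P : Par p n k c d jj r E bb)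
    (hc : ∀ j0, 2 ≤ j0 → 2 ^ j0 < n → n ≤ 2 * 2 ^ j0 → c < 2 ^ j0)
    (hmem : ∀ z x : G ⧸ K, orderOf z = r → Commute x z → x ∈ S)
    (hB : ∀ x : F, x ≠ 0 → CBad.{u} (Om (D F (2 * c + 1) x)) (om n F₁) p r) : False := by
  have hn := C.hn
  have hp := C.hp
  have := Fact.mk hp
  have := C.ch₁
  have := C.ch
  have hPn := P.hn
  have hPc := P.c1
  have hPcd := P.cd
  have hr := P.cls.hr
  have hr2 := P.cls.hr2
  obtain ⟨s, hs, ho, hsS, hsp, hsp'⟩ := C.exists_s
  obtain ⟨y, hb⟩ := C.base hs hsS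
  have hrK := C.r_K P hc
  have hrp : r ≠ p := by
    rintro rfl
    apply P.cls.hrq
    exact dvd_pow_self _ (by have := C.hk; omega)
  have hker : (QuotientGroup.mk' K).ker = K := QuotientGroup.ker_mk' K
  have hsurj := QuotientGroup.mk'_surjective K
  have hOm : ∀ g : G, orderOf g ∈ om n F₁ := fun g => (C.hG _).1 ⟨g, rfl⟩
  refine C.fin' P hrK hmem ?_
  intro a u ha hu hup
  have hα : orderOf (QuotientGroup.mk' K a) = r := by
    rcases (Nat.dvd_prime hr).1 (ha ▸ orderOf_map_dvd (QuotientGroup.mk' K) a) with h | h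
    · exfalso
      apply hrK
      rw [orderOf_eq_one_iff] at h
      have h1 : a ∈ K := by rw [← hker]; exact h
      rw [← ha]
      exact Subgroup.orderOf_dvd_natCard _ h1
    · exact h
  have h21 : (2 : F) ≠ 0 := Cfsg.Agent.H229.T.two_ne_zero_of_odd (by rw [C.hF]; exact C.odd)
  obtain ⟨e⟩ := C.iso
  obtain ⟨x, hx, f, hf⟩ := Cfsg.Agent.H104.CBadOm.exists_hom h21 (n := n) (m := d) (c := c) (r := r) (p := p) (by omega)
    (by omega) P.cd hr hr2 hrp (Cfsg.Agent.H104.CBadOm.prim_of_min (by rw [C.hF]; exact C.odd.pos) (by omega)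
      (by rw [C.hF]; exact P.min) (by
        rw [C.hF]
        rcases P.hE with h | h
        · right; rw [← h]; exact P.rE
        · left; rw [← h]; exact P.rE)) e (hmem _ _ hα (Commute.refl _)) hα
  exact no_commute hb hp hr hrp hsp' hsp (Cfsg.Agent.H104.CBadOm.CBad.mono hf (hB x hx)) _ G (QuotientGroup.mk' K) rfl
    hsurj (by rw [hker]; exact C.sol) hOm (by rw [hker]; exact C.hs s hs ho) (by rw [hker]; exact hrK) a u rfl ha hu hup

end

end Cfsg.Agent.H403.S88
end

-- part: H403/S88/K8C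
section
/-!
# S3588: `L = PSp_2n(q)`, `S = Ω_2n+1(q)`, `q` odd: the cases (helper403)
-/

set_option autoImplicit false
set_option linter.unusedSectionVars false

namespace Cfsg.Agent.H403.S88

open Subgroup Cfsg Cfsg.Agent.H403.S88.Grp Cfsg.Agent.H390 Cfsg.Agent.H390.NonAdj
open QuadraticMap Module Cfsg.Agent.H229.T
open Cfsg.Agent.LieClassical.OrthCore Cfsg.Agent.LieClassical.OrthForms Cfsg.Agent.LieClassical.OrthFinite

universe u

section

variable {p n k : ℕ} {F₁ F : Type} [Field F₁] [Fintype F₁] [Field F] [Fintype F] {G : Type u} [Group G] [Finite G]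
  {K : Subgroup G} [K.Normal] {S : Subgroup (G ⧸ K)} {s2 : ℕ}

/-- the elements commuting with elements of order `r` are in `S` -/
def Mem (p n k : ℕ) {G : Type u} [Group G] {K : Subgroup G} [K.Normal] (S : Subgroup (G ⧸ K)) : Prop :=
  ∀ {d r : ℕ}, r.Prime → (n < d ∨ (2 * n < 3 * d ∧ Odd k)) → orderOf (p : ZMod r) = d * k →
    ∀ z x : G ⧸ K, orderOf z = r → Commute x z → x ∈ S

theorem Par.mem' {c d jj r E bb : ℕ} (P : Par p n k c d jj r E bb) (h : Mem p n k S) :
    ∀ z x : G ⧸ K, orderOf z = r → Commute x z → x ∈ S := by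
  obtain ⟨e, h1, h2⟩ := P.mem
  exact h P.cls.hr h1 h2

/-- the case `c = 1` -/
theorem C8.fin_one (C : C8 p n k F₁ F K S s2) (hm : Mem p n k S) {r E bb : ℕ} (P : Par p n k 1 (n - 1) 1 r E bb)
    (h3 : ¬ 3 ∣ E) (hc : p ≠ 3 ∨ (p = 3 ∧ 9 ≤ p ^ k ∧ E = (p ^ k) ^ (n - 1) + 1)) : False := by
  have hn := C.hn
  have hp := C.hp
  have hodd := C.odd
  have := Fact.mk hp
  have := C.ch₁
  have := C.ch
  have hr := P.cls.hr
  have hr3 : r ≠ 3 := by
    rintro rfl
    exact h3 P.rE
  have h20 : (2 : F) ≠ 0 := Cfsg.Agent.H229.T.two_ne_zero_of_odd (by rw [C.hF]; exact hodd)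
  have key : ∀ x : PSp n F₁, p ∣ orderOf x → r ∣ orderOf x → orderOf x ∣ p * E := fun x h1 h2 =>
    psp_dvd_pE (F := F₁) (by rw [C.hF₁]; exact hodd) (by omega) (by rw [C.hF₁]; exact P.cls) x h1 h2
  refine C.fin P (fun j0 h1 _ _ => ?_) (P.mem' hm) (fun x hx => ?_)
  · exact Nat.one_lt_two_pow (by omega)
  have hX : 3 * p * r ∉ om n F₁ := by
    rintro ⟨x, hx⟩
    have h4 := key x (by rw [hx]; exact (Nat.dvd_mul_left p 3).mul_right r) (by rw [hx]; exact Nat.dvd_mul_left _ _)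
    rw [hx] at h4
    have h5 : 3 * r ∣ E := by
      apply Nat.dvd_of_mul_dvd_mul_left hp.pos
      rwa [show p * (3 * r) = 3 * p * r by ring]
    exact h3 ((Nat.dvd_mul_right 3 r).trans h5)
  rcases hc with hc | ⟨hc, h9, hE⟩
  · have h30 : (3 : F) ≠ 0 := by
      intro h
      have h4 : ((3 : ℕ) : F) = 0 := by exact_mod_cast h
      exact hc ((Nat.prime_dvd_prime_iff_eq hp Nat.prime_three).1 ((CharP.cast_eq_zero_iff F p 3).1 h4))
    exact Cfsg.Agent.H104.CBadOm.cbad_a h20 h30 hx hp C.hp2 hc hr hr3 hX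
  · subst hc
    set q := 3 ^ k with hq
    have hmin := P.min 1 (by norm_num) (by omega)
    rw [pow_one] at hmin
    obtain ⟨m, hm'⟩ := hodd
    have hq2 : (q - 1) / 2 = m := by omega
    have hX' : m * 3 * r ∉ om n F₁ := by
      rintro ⟨x, hx⟩
      have h4 := key x (by rw [hx]; exact (Nat.dvd_mul_left 3 m).mul_right r) (by rw [hx]; exact Nat.dvd_mul_left _ _)
      rw [hx] at h4
      have h5 : m * r ∣ E := by
        apply Nat.dvd_of_mul_dvd_mul_left (show 0 < 3 by norm_num)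
        rwa [show 3 * (m * r) = m * 3 * r by ring]
      have h6 : m ∣ E := (Nat.dvd_mul_right m r).trans h5
      rw [hE] at h6
      have h7 : m ∣ q ^ (n - 1) - 1 := by
        have h8 : q - 1 ∣ q ^ (n - 1) - 1 := by
          have := Nat.sub_dvd_pow_sub_pow q 1 (n - 1)
          rwa [one_pow] at this
        exact (Dvd.intro_left 2 (by omega)).trans h8
      have h9 : 1 ≤ q ^ (n - 1) := Nat.one_le_pow _ _ (by omega)
      have h10 : m ∣ 2 := by
        have := Nat.dvd_sub h6 h7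
        rwa [show q ^ (n - 1) + 1 - (q ^ (n - 1) - 1) = 2 by omega] at this
      have := Nat.le_of_dvd (by norm_num) h10
      omega
    have hcop : Nat.Coprime m r := by
      rw [Nat.coprime_comm]
      refine (Nat.Prime.coprime_iff_not_dvd hr).2 (fun h => hmin.1 ?_)
      exact h.trans (Dvd.intro_left 2 (by omega))
    refine Cfsg.Agent.H104.CBadOm.cbad_b h20 (by rw [C.hF]; exact dvd_pow_self 3 (by have := C.hk; omega)) hx hr hr3 ?_ hX ?_
    · rw [C.hF, ← hq, hq2]
      exact hcop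
    · rw [C.hF, ← hq, hq2]
      exact hX'

/-- the case `2 c + 1` prime -/
theorem C8.fin_t (C : C8 p n k F₁ F K S s2) (hm : Mem p n k S) {c d jj r bb E' : ℕ}
    (P : Par p n k c d jj r ((p ^ k) ^ d + 1) bb) (hc : ∀ j0, 2 ≤ j0 → 2 ^ j0 < n → n ≤ 2 * 2 ^ j0 → c < 2 ^ j0)
    (ht : (2 * c + 1).Prime) (ht5 : 5 ≤ 2 * c + 1) (hpt : p ≠ 2 * c + 1) (hc' : Cls (p ^ k) (2 * c + 1) c E')
    (hEp' : ¬ p ∣ E') (htE : ¬ 2 * c + 1 ∣ (p ^ k) ^ d + 1) : False := by
  have hn := C.hn
  have hp := C.hp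
  have hodd := C.odd
  have := Fact.mk hp
  have := C.ch₁
  have := C.ch
  have hr := P.cls.hr
  have hrt : r ≠ 2 * c + 1 := by
    rintro rfl
    exact htE P.rE
  have hPcd := P.cd
  have hEp : ¬ p ∣ (p ^ k) ^ d + 1 := by
    intro h
    have h1 : p ∣ (p ^ k) ^ d := dvd_pow (dvd_pow_self p (by have := C.hk; omega)) (by omega)
    exact hp.one_lt.ne' (Nat.dvd_one.1 ((Nat.dvd_add_right h1).1 h))
  have h20 : (2 : F) ≠ 0 := Cfsg.Agent.H229.T.two_ne_zero_of_odd (by rw [C.hF]; exact hodd)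
  refine C.fin P hc (P.mem' hm) (fun x hx => ?_)
  refine Cfsg.Agent.H104.CBadOm.cbad_c h20 ht ht5 hx hp C.hp2 hpt hr hrt ?_
  rintro ⟨x, hx⟩
  refine psp_no_ptr (F := F₁) (p := p) (by rw [C.hF₁]; exact hodd) P.hn P.cd (by rw [C.hF₁]; exact P.cls) ?_
    (by rw [C.hF₁]; exact hc') hEp hEp' htE x hx
  intro h
  exfalso
  rw [C.hF₁] at h
  have : 1 ≤ (p ^ k) ^ d := Nat.one_le_pow _ _ hodd.pos
  omega

/-- `n = 8`, `q = 3` -/
theorem C8.three_K (C : C8 3 8 1 F₁ F K S s2) : ¬ 3 ∣ Nat.card K := by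
  classical
  have hodd := C.odd
  obtain ⟨e⟩ := C.exists_om
  have h2 : (2 : F) ≠ 0 := Cfsg.Agent.H229.T.two_ne_zero_of_odd (by rw [C.hF]; exact hodd)
  obtain ⟨U, c, hc, hn, hfix, hU, hU1⟩ := Cfsg.Agent.H104.CBadOm.exists_frob_t (t := 17) h2 (by norm_num) (by norm_num)
    (nondeg_oddForm 8 F h2) (by simp)
  obtain ⟨s, hs, ho, hsS, hsp, hsp'⟩ := C.exists_s
  obtain ⟨y, hb⟩ := C.base hs hsS
  have h17 : orderOf ((3 : ℕ) : ZMod 17) = 2 * 8 * 1 := by
    have : orderOf ((3 : ℕ) : ZMod 17) = 2 ^ (3 + 1) := orderOf_eq_prime_pow (by decide) (by decide)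
    rw [this]
    norm_num
  have h17' := (C.sp (s := 17) (by norm_num) h17).2.1
  let ι : Om (oddForm 8 F) →* G ⧸ K := S.subtype.comp e.symm.toMonoidHom
  have hι : Function.Injective ι := S.subtype_injective.comp e.symm.injective
  have hcard : Nat.card (U.map ι) = Nat.card U := Nat.card_congr (U.equivMapOfInjective ι hι).symm.toEquiv
  have hker : (QuotientGroup.mk' K).ker = K := QuotientGroup.ker_mk' K
  have key := not_dvd_card hb C.simple Nat.prime_three hsp' hsp (Q := U.map ι) (c := ι c) (by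
      rintro _ ⟨a, -, rfl⟩
      exact (e.symm a).2) (by
      rintro _ ⟨a, ha, rfl⟩
      exact ⟨c * a * c⁻¹, hn a ha, by rw [map_mul, map_mul, map_inv]⟩) (by
      rintro i hi0 hi _ ⟨a, ha, rfl⟩ hcomm
      rw [orderOf_injective ι hι] at hi
      rw [← map_pow, ← map_mul, ← map_mul] at hcomm
      rw [hfix i hi0 hi a ha (hι hcomm), map_one]) (by
      rw [hcard]
      exact Nat.Coprime.coprime_dvd_left hU (by norm_num)) (by
      intro h
      apply hU1
      rw [eq_bot_iff]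
      intro a ha
      have h1 : ι a ∈ U.map ι := ⟨a, ha, rfl⟩
      rw [h, mem_bot] at h1
      rw [mem_bot]
      exact hι (by rw [h1, map_one])) (by
      rw [orderOf_injective ι hι, hc]
      exact h17') _ G (QuotientGroup.mk' K) rfl (QuotientGroup.mk'_surjective K) (by rw [hker]; exact C.sol)
    (fun g => (C.hG _).1 ⟨g, rfl⟩) (by rw [hker]; exact C.hs s hs ho)
  rwa [hker] at key

theorem not_dvd_five {m : ℕ} (h : m % 4 ≠ 2) : ¬ 5 ∣ 3 ^ m + 1 := by
  obtain ⟨a, b, hb, rfl⟩ : ∃ a b, b < 4 ∧ m = 4 * a + b := ⟨m / 4, m % 4, Nat.mod_lt _ (by norm_num), (Nat.div_add_mod m 4).symm⟩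
  have h1 : 3 ^ (4 * a + b) % 5 = 3 ^ b % 5 := by
    rw [pow_add, pow_mul, Nat.mul_mod, Nat.pow_mod]
    norm_num
  intro h2
  have h3 := Nat.mod_eq_zero_of_dvd h2
  rw [Nat.add_mod, h1] at h3
  interval_cases b <;> first | (simp at h3; omega) | (simp at h3)

theorem not_dvd_eleven (m : ℕ) : ¬ 11 ∣ 3 ^ m + 1 := by
  obtain ⟨a, b, hb, rfl⟩ : ∃ a b, b < 5 ∧ m = 5 * a + b := ⟨m / 5, m % 5, Nat.mod_lt _ (by norm_num), (Nat.div_add_mod m 5).symm⟩
  have h1 : 3 ^ (5 * a + b) % 11 = 3 ^ b % 11 := by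
    rw [pow_add, pow_mul, Nat.mul_mod, Nat.pow_mod]
    norm_num
  intro h2
  have h3 := Nat.mod_eq_zero_of_dvd h2
  rw [Nat.add_mod, h1] at h3
  interval_cases b <;> simp at h3

/-- **All cases.** -/
theorem C8.main (C : C8 p n k F₁ F K S s2) (hm : Mem p n k S) : False := by
  have hn := C.hn
  have hp := C.hp
  have hp2 := C.hp2
  have hk := C.hk
  have hodd := C.odd
  have := Fact.mk hp
  have hp3 : 3 ≤ p := by
    have := hp.two_le
    omega
  by_cases h3 : p = 3
  · subst h3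
    by_cases hk1 : k = 1
    · subst hk1
      by_cases h4 : n % 4 = 0
      · by_cases h8 : n = 8
        · subst h8
          obtain ⟨r, bb, P⟩ := par_plus (p := 3) (n := 8) (k := 1) (c := 1) (d := 7) (jj := 1) hp hp2 le_rfl rfl le_rfl
            (by norm_num) (by norm_num) le_rfl (by norm_num) (by norm_num)
          have h3K := C.three_K
          have hker : (QuotientGroup.mk' K).ker = K := QuotientGroup.ker_mk' K
          refine C.fin' P (C.r_K P (fun j0 h1 _ _ => Nat.one_lt_two_pow (by omega))) (P.mem' hm) ?_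
          intro a u ha hu hup
          exfalso
          apply h3K
          rw [← hup]
          rw [hker] at hu
          exact Subgroup.orderOf_dvd_natCard _ hu
        · have hn12 : 12 ≤ n := by omega
          obtain ⟨r, bb, P⟩ := par_plus (p := 3) (n := n) (k := 1) (c := 5) (d := n - 5) (jj := 3) hp hp2 le_rfl
            (by omega) (by norm_num) (by omega) (by omega) (by norm_num) (by norm_num) (by norm_num)
          have h11 : orderOf ((3 : ℕ) : ZMod 11) = 5 := by
            have := Fact.mk (show Nat.Prime 5 by norm_num)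
            exact orderOf_eq_prime (by decide) (by decide)
          refine C.fin_t hm (E' := 3 ^ 5 - 1) P (fun j0 _ _ h2 => by omega) (by norm_num) (by norm_num) (by norm_num) ?_
            (by norm_num) ?_
          · rw [pow_one]
            exact cls_odd (by norm_num) (by norm_num) (by decide) (by norm_num) h11
          · rw [pow_one]
            exact not_dvd_eleven _
      · obtain ⟨r, bb, P⟩ := par_plus (p := 3) (n := n) (k := 1) (c := 2) (d := n - 2) (jj := 2) hp hp2 le_rfl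
            (by omega) (by norm_num) (by omega) (by omega) (by norm_num) (by norm_num) (by norm_num)
        have h5 : orderOf ((3 : ℕ) : ZMod 5) = 2 * 2 := by
          have : orderOf ((3 : ℕ) : ZMod 5) = 2 ^ (1 + 1) := orderOf_eq_prime_pow (by decide) (by decide)
          rw [this]
          norm_num
        refine C.fin_t hm (E' := 3 ^ 2 + 1) P (fun j0 h1 _ _ => ?_) (by norm_num) (by norm_num) (by norm_num) ?_
            (by norm_num) ?_
        · have : (2 : ℕ) ^ 2 ≤ 2 ^ j0 := Nat.pow_le_pow_right (by norm_num) h1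
          omega
        · rw [pow_one]
          exact cls_even (by norm_num) (by norm_num) (by norm_num) h5
        · rw [pow_one]
          exact not_dvd_five (by omega)
    · obtain ⟨r, bb, P⟩ := par_plus (p := 3) (n := n) (k := k) (c := 1) (d := n - 1) (jj := 1) hp hp2 hk
            (by omega) (by norm_num) (by omega) (by omega) (by norm_num) (by norm_num) (by norm_num)
      refine C.fin_one hm P ?_ (Or.inr ⟨rfl, ?_, rfl⟩)
      · intro h
        have h1 : 3 ∣ (3 ^ k) ^ (n - 1) := dvd_pow (dvd_pow_self 3 (by omega)) (by omega)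
        have := Nat.dvd_one.1 ((Nat.dvd_add_right h1).1 h)
        omega
      · have : 3 ^ 2 ≤ 3 ^ k := Nat.pow_le_pow_right (by norm_num) (by omega)
        omega
  · by_cases hE : 3 ∣ (p ^ k) ^ (n - 1) + 1
    · -- `q ≡ 2 mod 3`, `n - 1`, `k` odd
      have hpk : Odd (k * (n - 1)) ∧ p % 3 = 2 := by
        have h0 : p % 3 = 1 ∨ p % 3 = 2 := by
          have h5 : ¬ 3 ∣ p := fun h => h3 ((Nat.prime_dvd_prime_iff_eq Nat.prime_three hp).1 h).symm
          omega
        rw [← pow_mul] at hE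
        have h4 := Nat.mod_eq_zero_of_dvd hE
        rcases h0 with h0 | h0
        · exfalso
          rw [Nat.add_mod, Nat.pow_mod, h0, one_pow] at h4
          norm_num at h4
        · refine ⟨?_, h0⟩
          by_contra hcon
          obtain ⟨a, ha⟩ := Nat.not_odd_iff_even.1 hcon
          rw [ha, ← two_mul, Nat.add_mod, Nat.pow_mod, h0, pow_mul, Nat.pow_mod] at h4
          norm_num at h4
      obtain ⟨ho, hp3'⟩ := hpk
      obtain ⟨ho1, ho2⟩ := Nat.odd_mul.1 ho
      have hev : Even n := by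
        obtain ⟨a, ha⟩ := ho2
        exact ⟨a + 1, by omega⟩
      obtain ⟨r, bb, P⟩ := par_minus hp hp2 ho1 hn hev
      refine C.fin_one hm P ?_ (Or.inl h3)
      intro h
      have h5 : 1 ≤ (p ^ k) ^ (n - 1) := Nat.one_le_pow _ _ hodd.pos
      have h6 := Nat.dvd_sub hE h
      rw [show (p ^ k) ^ (n - 1) + 1 - ((p ^ k) ^ (n - 1) - 1) = 2 by (clear * - h6; omega)] at h6
      exact absurd (Nat.le_of_dvd (by norm_num) h6) (by norm_num)
    · obtain ⟨r, bb, P⟩ := par_plus (p := p) (n := n) (k := k) (c := 1) (d := n - 1) (jj := 1) hp hp2 hk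
            (by omega) (by norm_num) (by omega) (by omega) (by norm_num) (by norm_num) (by norm_num)
      exact C.fin_one hm P hE (Or.inl h3)

end

end Cfsg.Agent.H403.S88
end

private theorem dce_8ee84da1f055 : _root_.True := by
  try have : _root_.True := by simp only [_root_.Cfsg.Agent.H229.T.zv.congr_simp]
  exact _root_.True.intro
end
end
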